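import Groth.Agent.Lib.Graded.Seg.Shift

/-!
# Local cohomology from a resolution by acyclic modules
-/

universe u

set_option maxHeartbeats 1600000
set_option linter.unusedSectionVars false

open DirectSum

namespace Groth.Agent.Lib.Graded.Seg

open Groth.Agent.Lib.Graded.Basic Groth.Agent.Lib.Graded.StarInj Groth.Agent.Lib.Graded.Horseshoe

variable {R : Type u} [CommRing R] [IsNoetherianRing R] {σ : Type u} [SetLike σ R] [AddSubgroupClass σ R]
variable {𝒜 : ℤ → σ} [GradedRing 𝒜] (a : HomogeneousIdeal 𝒜)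

/-- In degree zero, local cohomology is the torsion of the zeroth cocycles. -/
theorem exists_acyclic_zero {M : Type u} [AddCommGroup M] [Module R M] {ℳ : ℤ → AddSubgroup M}
    [DirectSum.Decomposition ℳ] [SetLike.GradedSMul 𝒜 ℳ] {X Y : GrLC.GMod.{u} 𝒜}
    {d : X.carrier →ₗ[R] Y.carrier} {ι : M →ₗ[R] X.carrier} (hι : GrLC.IsGrHom ℳ X.gr ι)
    (hinj : Function.Injective ι) (hr : LinearMap.range ι = LinearMap.ker d) (E : GrLC.StarInjRes 𝒜 ℳ) :
    ∃ c : ↥(GrLC.gam a.toIdeal X.carrier ⊓ LinearMap.ker d) →ₗ[R] E.H a 0,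
      (∀ g, ∀ x : ↥(GrLC.gam a.toIdeal X.carrier ⊓ LinearMap.ker d), x.1 ∈ X.gr g → c x ∈ E.Hgr a 0 g) ∧
      (∀ g, ∀ w ∈ E.Hgr a 0 g, ∃ x : ↥(GrLC.gam a.toIdeal X.carrier ⊓ LinearMap.ker d),
        x.1 ∈ X.gr g ∧ c x = w) ∧ Function.Injective c ∧
      (∀ x m, ι m = x.1 → ∃ h, c x = Chain.h0Map (E := E) a ⟨m, h⟩) := by
  have hmem : ∀ x : ↥(GrLC.gam a.toIdeal X.carrier ⊓ LinearMap.ker d), x.1 ∈ LinearMap.range ι :=
    fun x => hr.ge x.2.2
  let p : ↥(GrLC.gam a.toIdeal X.carrier ⊓ LinearMap.ker d) →ₗ[R] M :=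
    (LinearEquiv.ofInjective ι hinj).symm.toLinearMap ∘ₗ (Submodule.subtype _).codRestrict _ hmem
  have hp : ∀ x, ι (p x) = x.1 := fun x =>
    congrArg Subtype.val ((LinearEquiv.ofInjective ι hinj).apply_symm_apply ⟨x.1, hmem x⟩)
  have hpg : ∀ x, p x ∈ GrLC.gam a.toIdeal M := fun x => by
    obtain ⟨N, hN⟩ := x.2.1
    exact ⟨N, fun r hr => hinj (by rw [map_smul, hp, hN r hr, map_zero])⟩
  let c := Chain.h0Map (E := E) a ∘ₗ p.codRestrict _ hpg
  refine ⟨c, fun g x hx => ?_, fun g w hw => ?_, fun x y hxy => Subtype.ext ?_, fun x m hm => ?_⟩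
  · refine Chain.h0Map_grHom a g _ (show p x ∈ ℳ g from ?_)
    obtain ⟨m, hm, hmx⟩ := exists_hom_preimage hι hx ⟨p x, hp x⟩
    rwa [← hinj (hmx.trans (hp x).symm)]
  · obtain ⟨y, rfl⟩ := (Chain.h0Map_bijective (E := E) a).2 w
    have hy : (Chain.h0Equiv a E).symm (Chain.h0Map (E := E) a y) ∈ subGr ℳ (GrLC.gam a.toIdeal M) g :=
      Chain.h0Equiv_symm_grHom a E g _ hw
    rw [show (Chain.h0Equiv a E).symm (Chain.h0Map (E := E) a y) = y from (Chain.h0Equiv a E).symm_apply_apply y] at hy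
    refine ⟨⟨ι y.1, Chain.map_mem_gam _ _ y.2, hr.le ⟨y.1, rfl⟩⟩, hι g _ hy, ?_⟩
    exact congrArg (Chain.h0Map (E := E) a) (Subtype.ext (hinj (hp _)))
  · rw [← hp x, ← hp y]
    exact congrArg ι (congrArg Subtype.val ((Chain.h0Map_bijective (E := E) a).1 hxy))
  · have h : p x = m := hinj ((hp x).trans hm.symm)
    exact ⟨h ▸ hpg x, congrArg (Chain.h0Map (E := E) a) (Subtype.ext h)⟩

/-- In positive degrees, the cohomology of the torsion of a resolution by acyclic modules. -/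
theorem exists_acyclic_succ : ∀ (q : ℕ) (X : ℕ → GrLC.GMod.{u} 𝒜)
    (d : ∀ j, (X j).carrier →ₗ[R] (X (j + 1)).carrier),
    (∀ j, GrLC.IsGrHom (X j).gr (X (j + 1)).gr (d j)) →
    (∀ j (E : GrLC.StarInjRes 𝒜 (X j).gr) (n : ℕ), Subsingleton (E.H a (n + 1))) →
    (∀ j, LinearMap.ker (d (j + 1)) = LinearMap.range (d j)) →
    ∀ {M : Type u} [AddCommGroup M] [Module R M] {ℳ : ℤ → AddSubgroup M} [DirectSum.Decomposition ℳ]
      [SetLike.GradedSMul 𝒜 ℳ] {ι : M →ₗ[R] (X 0).carrier}, GrLC.IsGrHom ℳ (X 0).gr ι → Function.Injective ι →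
      LinearMap.range ι = LinearMap.ker (d 0) → ∀ E : GrLC.StarInjRes 𝒜 ℳ,
      ∃ c : ↥(GrLC.gam a.toIdeal (X (q + 1)).carrier ⊓ LinearMap.ker (d (q + 1))) →ₗ[R] E.H a (q + 1),
        (∀ g, ∀ x : ↥(GrLC.gam a.toIdeal (X (q + 1)).carrier ⊓ LinearMap.ker (d (q + 1))),
          x.1 ∈ (X (q + 1)).gr g → c x ∈ E.Hgr a (q + 1) g) ∧
        (∀ g, ∀ w ∈ E.Hgr a (q + 1) g, ∃ x : ↥(GrLC.gam a.toIdeal (X (q + 1)).carrier ⊓ LinearMap.ker (d (q + 1))),
          x.1 ∈ (X (q + 1)).gr g ∧ c x = w) ∧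
        ∀ x, c x = 0 ↔ x.1 ∈ (GrLC.gam a.toIdeal (X q).carrier).map (d q) := by
  intro q
  induction q with
  | zero =>
    intro X d hd hacy hex M _ _ ℳ _ _ ι hι hinj hr E
    let Z := subMod 𝒜 (X 1).gr (LinearMap.range (d 0)) (isHomogeneous_range (hd 0))
    let π : (X 0).carrier →ₗ[R] Z.carrier := (d 0).rangeRestrict
    have hses : SES ℳ (X 0).gr Z.gr ι π :=
      { grHom_i := hι
        grHom_π := fun g x hx => hd 0 g x hx
        injective := hinj
        surjective := LinearMap.surjective_rangeRestrict _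
        exact := (LinearMap.ker_rangeRestrict (d 0)).trans hr.symm }
    let ιZ : Z.carrier →ₗ[R] (X 1).carrier := (LinearMap.range (d 0)).subtype
    obtain ⟨EX⟩ := Res.nonempty_starInjRes 𝒜 (X 0).gr
    obtain ⟨EZ⟩ := Res.nonempty_starInjRes 𝒜 Z.gr
    let ψ := Chain.lift EX EZ π
    have hψ := Chain.lift_ε EX EZ π hses.grHom_π
    obtain ⟨δ, hδ, -, h2, h3, -⟩ := LES.exists_les E EX EZ a hses _ (Chain.lift_ε E EX _ hι) ψ hψ
    obtain ⟨c₀, hc1, hc2, hcinj, hc4⟩ := exists_acyclic_zero a (X := X 1) (Y := X 2) (d := d 1)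
      (M := Z.carrier) (ℳ := Z.gr) (ι := ιZ) (fun _ _ hx => hx) Subtype.val_injective
      ((Submodule.range_subtype _).trans (hex 0).symm) EZ
    haveI := hacy 0 EX 0
    have hsur : Function.Surjective (δ 0) := fun w => by
      have hw : w ∈ LinearMap.ker ((Chain.lift E EX ι).hMap a 1) := Subsingleton.elim _ _
      rw [h3 0] at hw
      exact hw
    letI := Res.hgrDecomp EZ a 0
    letI := Res.hgrDecomp E a 1
    refine ⟨δ 0 ∘ₗ c₀, fun g x hx => hδ 0 g _ (hc1 g x hx), fun g w hw => ?_, fun x => ?_⟩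
    · obtain ⟨v, hv, rfl⟩ := exists_hom_preimage (hδ 0) hw (hsur w)
      obtain ⟨x, hx, rfl⟩ := hc2 g v hv
      exact ⟨x, hx, rfl⟩
    · rw [LinearMap.comp_apply, ← LinearMap.mem_ker, h2 0]
      have key : ∀ y : GrLC.gam a.toIdeal (X 0).carrier, ψ.hMap a 0 (Chain.h0Map (E := EX) a y) =
          Chain.h0Map (E := EZ) a ⟨π y.1, Chain.map_mem_gam _ _ y.2⟩ := fun y => by
        refine (Chain.Map.hMap_toH a ψ 0 _).trans (congrArg (EZ.toH a 0) (Subtype.ext ?_))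
        exact LinearMap.congr_fun hψ y.1
      constructor
      · rintro ⟨v, hv⟩
        obtain ⟨y, rfl⟩ := (Chain.h0Map_bijective (E := EX) a).2 v
        rw [key] at hv
        obtain ⟨h, hx⟩ := hc4 x ⟨x.1, (hex 0).le x.2.2⟩ rfl
        rw [hx] at hv
        exact ⟨y.1, y.2, congrArg Subtype.val
          (congrArg Subtype.val ((Chain.h0Map_bijective (E := EZ) a).1 hv) : π y.1 = _)⟩
      · rintro ⟨y, hy, hyx⟩
        refine ⟨Chain.h0Map (E := EX) a ⟨y, hy⟩, ?_⟩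
        obtain ⟨h, hx⟩ := hc4 x (π y) hyx
        rw [key, hx]
  | succ q ih =>
    intro X d hd hacy hex M _ _ ℳ _ _ ι hι hinj hr E
    let Z := subMod 𝒜 (X 1).gr (LinearMap.range (d 0)) (isHomogeneous_range (hd 0))
    let π : (X 0).carrier →ₗ[R] Z.carrier := (d 0).rangeRestrict
    have hses : SES ℳ (X 0).gr Z.gr ι π :=
      { grHom_i := hι
        grHom_π := fun g x hx => hd 0 g x hx
        injective := hinj
        surjective := LinearMap.surjective_rangeRestrict _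
        exact := (LinearMap.ker_rangeRestrict (d 0)).trans hr.symm }
    let ιZ : Z.carrier →ₗ[R] (X 1).carrier := (LinearMap.range (d 0)).subtype
    obtain ⟨EX⟩ := Res.nonempty_starInjRes 𝒜 (X 0).gr
    obtain ⟨EZ⟩ := Res.nonempty_starInjRes 𝒜 Z.gr
    obtain ⟨δ, hδ, -, h2, h3, -⟩ := LES.exists_les E EX EZ a hses _ (Chain.lift_ε E EX _ hι) _
      (Chain.lift_ε EX EZ π hses.grHom_π)
    obtain ⟨c, hc1, hc2, hc3⟩ := ih (fun j => X (j + 1)) (fun j => d (j + 1)) (fun j => hd (j + 1))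
      (fun j => hacy (j + 1)) (fun j => hex (j + 1)) (M := Z.carrier) (ℳ := Z.gr) (ι := ιZ) (fun _ _ hx => hx)
      Subtype.val_injective ((Submodule.range_subtype _).trans (hex 0).symm) EZ
    haveI := hacy 0 EX q
    haveI := hacy 0 EX (q + 1)
    have hinjδ : Function.Injective (δ (q + 1)) := by
      rw [← LinearMap.ker_eq_bot, h2 (q + 1), LinearMap.range_eq_bot]
      exact LinearMap.ext fun z => by rw [Subsingleton.elim z 0, map_zero, map_zero]
    have hsur : Function.Surjective (δ (q + 1)) := fun w => by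
      have hw : w ∈ LinearMap.ker ((Chain.lift E EX ι).hMap a (q + 2)) := Subsingleton.elim _ _
      rw [h3 (q + 1)] at hw
      exact hw
    letI := Res.hgrDecomp EZ a (q + 1)
    letI := Res.hgrDecomp E a (q + 1 + 1)
    refine ⟨δ (q + 1) ∘ₗ c, fun g x hx => hδ (q + 1) g _ (hc1 g x hx), fun g w hw => ?_, fun x => ?_⟩
    · obtain ⟨v, hv, rfl⟩ := exists_hom_preimage (hδ (q + 1)) hw (hsur w)
      obtain ⟨x, hx, rfl⟩ := hc2 g v hv
      exact ⟨x, hx, rfl⟩
    · rw [LinearMap.comp_apply, map_eq_zero_iff _ hinjδ]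
      exact hc3 x

end Groth.Agent.Lib.Graded.Seg
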