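import Groth.Agent.Lib.Graded.Seg.Kunneth
import Groth.Agent.Lib.Graded.SigmaChange
import Groth.Agent.S18646

/-!
# The Künneth formula in the form used by the statements
-/

universe u

set_option maxHeartbeats 1600000
set_option linter.unusedSectionVars false

open DirectSum
open scoped TensorProduct

namespace Groth.Agent.Lib.Graded.Seg

open Groth.Agent.Lib.Graded.Basic Groth.Agent.Lib.Graded.StarInj

section General

variable {R : Type u} [CommRing R] {σ : Type u} [SetLike σ R] [AddSubgroupClass σ R] {𝒜 : ℤ → σ} [GradedRing 𝒜]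
variable {M : Type u} [AddCommGroup M] [Module R M] {τ : Type u} [SetLike τ M] [AddSubgroupClass τ M]
variable {ℳ : ℤ → τ} [DirectSum.Decomposition ℳ] [SetLike.GradedSMul 𝒜 ℳ]

theorem subsingleton_of_Hcomp (E : GrLC.StarInjRes 𝒜 ℳ) (a : HomogeneousIdeal 𝒜) (i : ℕ)
    (h : ∀ d, E.Hcomp a i d = ⊥) : Subsingleton (E.H a i) := by
  refine subsingleton_of_forall_eq 0 fun x => ?_
  letI := Res.hgrDecomp E a i
  rw [← sum_proj (E.Hgr a i) x]
  refine Finset.sum_eq_zero fun g _ => ?_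
  have hx : proj (E.Hgr a i) g x ∈ E.Hcomp a i g := proj_mem (E.Hgr a i) g x
  rwa [h g, Submodule.mem_bot] at hx

theorem Hcomp_eq_bot (E : GrLC.StarInjRes 𝒜 ℳ) (a : HomogeneousIdeal 𝒜) (i : ℕ) (d : ℤ)
    [Subsingleton (E.H a i)] : E.Hcomp a i d = ⊥ :=
  (Submodule.eq_bot_iff _).2 fun _ _ => Subsingleton.elim _ _

/-- A resolution of the pieces, regarded as additive subgroups. -/
noncomputable def asPieces [SetLike.GradedSMul 𝒜 (SigmaChange.pieces 𝒜)] (E : GrLC.StarInjRes 𝒜 𝒜) :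
    GrLC.StarInjRes 𝒜 (SigmaChange.pieces 𝒜) where
  X := E.X
  d := E.d
  ε := E.ε
  d_grHom := E.d_grHom
  ε_grHom g x hx := E.ε_grHom g x hx
  ε_injective := E.ε_injective
  exact_zero := E.exact_zero
  exact_succ := E.exact_succ
  starInj := E.starInj

end General

instance gsmulPiecesSelf {R : Type u} [CommRing R] {σ : Type u} [SetLike σ R] [AddSubgroupClass σ R]
    (𝒜 : ℤ → σ) [GradedRing 𝒜] : SetLike.GradedSMul 𝒜 (SigmaChange.pieces 𝒜) :=
  ⟨fun {_ _ _ _} hr hm => SetLike.GradedSMul.smul_mem (A := 𝒜) (B := 𝒜) hr hm⟩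

variable {k : Type u} [Field k] {R : Type u} [CommRing R] [Algebra k R] {𝒜 : ℤ → Submodule k R} [GradedAlgebra 𝒜]

theorem finrank_piece_ring [Nontrivial R] (h0R : 𝒜 0 = Submodule.span k {(1 : R)}) (d : ℤ) :
    Module.finrank (GrLC.deg0 𝒜) (GrLC.comp 𝒜 (SigmaChange.pieces 𝒜) d) = Module.finrank k (𝒜 d) := by
  have h : pieceK 𝒜 (SigmaChange.pieces 𝒜) d = 𝒜 d := SetLike.ext fun x => Iff.rfl
  rw [← h]
  exact ((finrank_pieceK h0R (GrLC.comp 𝒜 (SigmaChange.pieces 𝒜) d) fun x => Iff.rfl).1).symm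

variable {S : Type u} [CommRing S] [Algebra k S] {ℬ : ℤ → Submodule k S} [GradedAlgebra ℬ]
variable {T : Type u} [CommRing T] [Algebra k T] {𝒯 : ℤ → Submodule k T} [GradedAlgebra 𝒯]
variable {ψ : T →ₐ[k] R ⊗[k] S}

theorem nontrivial_segre [Nontrivial R] [Nontrivial S] (ψ : T →ₐ[k] R ⊗[k] S) : Nontrivial T := by
  by_contra h
  rw [not_nontrivial_iff_subsingleton] at h
  have h1 : (1 : R ⊗[k] S) = 0 := by rw [← map_one ψ, Subsingleton.elim (1 : T) 0, map_zero]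
  have hinj := tmap_injective (k := k) (f := Algebra.linearMap k R) (g := Algebra.linearMap k S)
    (algebraMap k R).injective (algebraMap k S).injective
  have h2 : ((1 : k) ⊗ₜ[k] (1 : k)) = 0 := hinj (by
    rw [TensorProduct.map_tmul, map_zero, Algebra.linearMap_apply, Algebra.linearMap_apply, map_one, map_one]
    rwa [← Algebra.TensorProduct.one_def])
  have h3 := congrArg (TensorProduct.lid k k) h2
  simp at h3

theorem segre_deg (hψ : Function.Injective ψ) (hdeg : ∀ n, (𝒯 n).map ψ.toLinearMap = GrSeg.segrePiece k 𝒜 ℬ n)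
    (hposR : ∀ n : ℤ, n < 0 → 𝒜 n = ⊥) (h0R : 𝒜 0 = Submodule.span k {(1 : R)})
    (h0S : ℬ 0 = Submodule.span k {(1 : S)}) :
    (∀ n : ℤ, n < 0 → 𝒯 n = ⊥) ∧ 𝒯 0 = Submodule.span k {(1 : T)} := by
  refine ⟨fun n hn => (Submodule.eq_bot_iff _).2 fun t ht => ?_, le_antisymm (fun t ht => ?_) ?_⟩
  · have h : ψ t ∈ GrSeg.segrePiece k 𝒜 ℬ n := hdeg n ▸ Submodule.mem_map_of_mem ht
    have hbot : GrSeg.segrePiece k 𝒜 ℬ n ≤ ⊥ := Submodule.span_le.2 (by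
      rintro _ ⟨a, ha, b, -, rfl⟩
      rw [hposR n hn, Submodule.mem_bot] at ha
      simp [ha])
    exact hψ (((Submodule.mem_bot k).1 (hbot h)).trans (map_zero ψ).symm)
  · have h : ψ t ∈ GrSeg.segrePiece k 𝒜 ℬ 0 := hdeg 0 ▸ Submodule.mem_map_of_mem ht
    have hle : GrSeg.segrePiece k 𝒜 ℬ 0 ≤ Submodule.span k {(1 : R ⊗[k] S)} := Submodule.span_le.2 (by
      rintro _ ⟨a, ha, b, hb, rfl⟩
      rw [h0R] at ha
      rw [h0S] at hb
      obtain ⟨c, rfl⟩ := Submodule.mem_span_singleton.1 ha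
      obtain ⟨c', rfl⟩ := Submodule.mem_span_singleton.1 hb
      exact Submodule.mem_span_singleton.2 ⟨c * c', by
        simp [Algebra.TensorProduct.one_def, TensorProduct.smul_tmul', smul_smul, mul_comm]⟩)
    obtain ⟨c, hc⟩ := Submodule.mem_span_singleton.1 (hle h)
    exact Submodule.mem_span_singleton.2 ⟨c, hψ (by rw [map_smul, map_one, hc])⟩
  · rw [Submodule.span_le, Set.singleton_subset_iff]
    exact SetLike.GradedOne.one_mem

/-- The Künneth formula for Segre products of modules. -/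
theorem kunneth_formula [Nontrivial R] [Nontrivial S]
    (hposR : ∀ n : ℤ, n < 0 → 𝒜 n = ⊥) (h0R : 𝒜 0 = Submodule.span k {(1 : R)}) [Algebra.FiniteType k R]
    (hposS : ∀ n : ℤ, n < 0 → ℬ n = ⊥) (h0S : ℬ 0 = Submodule.span k {(1 : S)}) [Algebra.FiniteType k S]
    (hψ : Function.Injective ψ) (hdeg : ∀ n, (𝒯 n).map ψ.toLinearMap = GrSeg.segrePiece k 𝒜 ℬ n)
    {mR : HomogeneousIdeal 𝒜} (hmR : mR.toIdeal = Ideal.span (⋃ n ∈ Set.Ioi (0 : ℤ), (𝒜 n : Set R)))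
    {mS : HomogeneousIdeal ℬ} (hmS : mS.toIdeal = Ideal.span (⋃ n ∈ Set.Ioi (0 : ℤ), (ℬ n : Set S)))
    {mT : HomogeneousIdeal 𝒯} (hmT : mT.toIdeal = Ideal.span (⋃ n ∈ Set.Ioi (0 : ℤ), (𝒯 n : Set T)))
    {M : Type u} [AddCommGroup M] [Module R M] [Module k M] [IsScalarTower k R M]
    {ℳ : ℤ → AddSubgroup M} [DirectSum.Decomposition ℳ] [SetLike.GradedSMul 𝒜 ℳ] [Module.Finite R M]
    (EM : GrLC.StarInjRes 𝒜 ℳ)
    {N : Type u} [AddCommGroup N] [Module S N] [Module k N] [IsScalarTower k S N]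
    {𝒩 : ℤ → AddSubgroup N} [DirectSum.Decomposition 𝒩] [SetLike.GradedSMul ℬ 𝒩] [Module.Finite S N]
    (EN : GrLC.StarInjRes ℬ 𝒩)
    {P : Type u} [AddCommGroup P] [Module T P] {𝒬 : ℤ → AddSubgroup P} [DirectSum.Decomposition 𝒬]
    [SetLike.GradedSMul 𝒯 𝒬] {φ : P →+ M ⊗[k] N} (hP : IsSeg ψ ℳ 𝒩 𝒬 φ) (EP : GrLC.StarInjRes 𝒯 𝒬)
    (hM : ∀ (q : ℕ) (d : ℤ), q ≤ 1 → EM.Hcomp mR q d = ⊥)
    (hN : ∀ (q : ℕ) (d : ℤ), q ≤ 1 → EN.Hcomp mS q d = ⊥) (q : ℕ) (d : ℤ) :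
    Module.finrank (GrLC.deg0 𝒯) (EP.Hcomp mT q d) =
      Module.finrank (GrLC.deg0 𝒜) (GrLC.comp 𝒜 ℳ d) * Module.finrank (GrLC.deg0 ℬ) (EN.Hcomp mS q d) +
      Module.finrank (GrLC.deg0 𝒜) (EM.Hcomp mR q d) * Module.finrank (GrLC.deg0 ℬ) (GrLC.comp ℬ 𝒩 d) +
      (Finset.range (q + 2)).sum (fun i => Module.finrank (GrLC.deg0 𝒜) (EM.Hcomp mR i d) *
        Module.finrank (GrLC.deg0 ℬ) (EN.Hcomp mS (q + 1 - i) d)) := by
  haveI : IsNoetherianRing R := Algebra.FiniteType.isNoetherianRing k R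
  haveI : IsNoetherianRing S := Algebra.FiniteType.isNoetherianRing k S
  haveI : IsNoetherianRing T := Groth.Agent.S18646.result k R 𝒜 hposR h0R S ℬ hposS h0S T 𝒯 ψ hψ hdeg
  haveI : Nontrivial T := nontrivial_segre ψ
  obtain ⟨hposT, h0T⟩ := segre_deg hψ hdeg hposR h0R h0S
  obtain ⟨hvan, hform⟩ := kunneth hposR h0R hposS h0S hposT h0T hdeg hmR hmS hmT EM EN hP EP
  obtain ⟨hP0, hP1⟩ := hvan hM hN
  have hfM : ∀ i, i ≤ 1 → Module.finrank (GrLC.deg0 𝒜) (EM.Hcomp mR i d) = 0 := fun i hi => by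
    rw [hM i d hi]; exact finrank_bot _ _
  have hfN : ∀ i, i ≤ 1 → Module.finrank (GrLC.deg0 ℬ) (EN.Hcomp mS i d) = 0 := fun i hi => by
    rw [hN i d hi]; exact finrank_bot _ _
  rcases q with _ | _ | m
  · rw [Hcomp_eq_bot EP mT 0 d, finrank_bot, hfM 0 zero_le_one, hfN 0 zero_le_one]
    simp [Finset.sum_range_succ, hfM]
  · rw [Hcomp_eq_bot EP mT 1 d, finrank_bot, hfM 1 le_rfl, hfN 1 le_rfl]
    simp [Finset.sum_range_succ, hfM, hfN]
  · obtain ⟨D₀, E₀, hD₀, hE₀, hf⟩ := hform m d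
    rw [hf, hD₀ (hM 0 d zero_le_one) (hM 1 d le_rfl), hE₀ (hN 0 d zero_le_one) (hN 1 d le_rfl), show m + 1 + 1 + 2 = m + 2 + 1 + 1 from rfl, Finset.sum_range_succ, Finset.sum_range_succ,
      Finset.sum_range_succ', Finset.sum_range_succ', hfM 0 zero_le_one, hfM (0 + 1) le_rfl,
      hfN (m + 1 + 1 + 1 - (m + 2)) (by omega), hfN (m + 1 + 1 + 1 - (m + 2 + 1)) (by omega)]
    simp only [zero_mul, mul_zero, add_zero]
    congr 1
    refine Finset.sum_congr rfl fun i hi => ?_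
    rw [Finset.mem_range] at hi
    rw [show m + 1 + 1 + 1 - (i + 1 + 1) = m - 1 - i + 2 by omega]

end Groth.Agent.Lib.Graded.Seg
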