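import Groth.Agent.Lib.Graded.Seg.Apply
import Groth.Agent.Lib.Graded.CMVanish
import Groth.Agent.H84.Segre.GradedCM
import Groth.Agent.H84.Segre.DimOneMain

/-!
# Cohen-Macaulay Segre products
-/

universe u

set_option maxHeartbeats 1600000
set_option linter.unusedSectionVars false

open DirectSum
open scoped TensorProduct

namespace Groth.Agent.Lib.Graded.Seg

open Groth.Agent.Lib.Graded.Basic Groth.Agent.Lib.Graded.StarInj

variable {k : Type u} [Field k] {R : Type u} [CommRing R] [Algebra k R] {𝒜 : ℤ → Submodule k R} [GradedAlgebra 𝒜]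

theorem eq_irr {a : HomogeneousIdeal 𝒜} (ha : a.toIdeal = Ideal.span (⋃ n ∈ Set.Ioi (0 : ℤ), (𝒜 n : Set R))) :
    a.toIdeal = H84.Segre.CMDim.irr 𝒜 := by
  rw [ha]
  refine congrArg Ideal.span (Set.ext fun r => ?_)
  simp

variable {M : Type u} [AddCommGroup M] [Module R M]
variable {ℳ : ℤ → AddSubgroup M} [DirectSum.Decomposition ℳ] [SetLike.GradedSMul 𝒜 ℳ]

omit [DirectSum.Decomposition ℳ] in
theorem finrank_eq_zero_iff [Module k M] [IsScalarTower k R M] [Nontrivial R] (h0 : 𝒜 0 = Submodule.span k {(1 : R)}) {d : ℤ}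
    (P : Submodule (GrLC.deg0 𝒜) M) (hP : ∀ x, x ∈ P ↔ x ∈ ℳ d) [Module.Finite (GrLC.deg0 𝒜) P] :
    Module.finrank (GrLC.deg0 𝒜) P = 0 ↔ ℳ d = ⊥ := by
  obtain ⟨h1, h2⟩ := finrank_pieceK (k := k) h0 P hP
  haveI := h2 inferInstance
  rw [← h1, Submodule.finrank_eq_zero, Submodule.eq_bot_iff, AddSubgroup.eq_bot_iff_forall]
  rfl

/-- Depth as vanishing of the graded local cohomology. -/
theorem le_idealDepth_iff [IsNoetherianRing R] [Module.Finite R M] (a : HomogeneousIdeal 𝒜)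
    (E : GrLC.StarInjRes 𝒜 ℳ) (n : ℕ) :
    (n : ℕ∞) ≤ LocCoh.idealDepth a.toIdeal M ↔ ∀ i < n, ∀ d, E.Hcomp a i d = ⊥ := by
  rw [Depth.LocalCoh.le_idealDepth_iff_H a.toIdeal M n]
  refine forall₂_congr fun i _ => ⟨fun h d => ?_, fun h => ?_⟩
  · haveI : Subsingleton (E.H a i) := (LocCohCompare.equiv E a i).toEquiv.subsingleton
    exact Hcomp_eq_bot E a i d
  · haveI := subsingleton_of_Hcomp E a i h
    exact (LocCohCompare.equiv E a i).symm.toEquiv.subsingleton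

variable [Algebra.FiniteType k R] [Module k M] [IsScalarTower k R M] [Module.Finite R M]

/-- Graded Cohen-Macaulay modules are those with local cohomology in one degree. -/
theorem cm_iff [Nontrivial M] (hpos : ∀ n : ℤ, n < 0 → 𝒜 n = ⊥) (h0 : 𝒜 0 = Submodule.span k {(1 : R)})
    {a : HomogeneousIdeal 𝒜} (ha : a.toIdeal = Ideal.span (⋃ n ∈ Set.Ioi (0 : ℤ), (𝒜 n : Set R)))
    (E : GrLC.StarInjRes 𝒜 ℳ) {r : ℕ} (hdim : Module.supportDim R M = r) :
    (∀ (q : Ideal R) [q.IsPrime], Subsingleton (LocalizedModule q.primeCompl M) ∨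
      LocCoh.IsCohenMacaulayModule (Localization.AtPrime q) (LocalizedModule q.primeCompl M)) ↔
      ∀ i < r, ∀ d, E.Hcomp a i d = ⊥ := by
  haveI : IsNoetherianRing R := Algebra.FiniteType.isNoetherianRing k R
  rw [← le_idealDepth_iff a E, eq_irr ha]
  exact ⟨fun h => (H84.Segre.GradedCM.idealDepth_irr 𝒜 ℳ hpos h0 hdim h).ge,
    fun h q _ => H84.Segre.GradedCM.cm_of_depth 𝒜 ℳ hpos h0 hdim h q⟩

omit [Module k M] [IsScalarTower k R M] in
theorem Hcomp_eq_bot_of_lt {a : HomogeneousIdeal 𝒜} (E : GrLC.StarInjRes 𝒜 ℳ) {r i : ℕ}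
    (hdim : Module.supportDim R M = r) (hi : r < i) (d : ℤ) : E.Hcomp a i d = ⊥ := by
  haveI : IsNoetherianRing R := Algebra.FiniteType.isNoetherianRing k R
  refine (LES.Hcomp_eq_bot_iff a E i d).2 ((Van.V_toMod_iff E).1 (CMVanish.V_of_supportDim_lt d ?_))
  rw [hdim]
  exact_mod_cast hi

theorem finrank_comp_eq_zero_iff [Nontrivial R] (h0 : 𝒜 0 = Submodule.span k {(1 : R)}) (d : ℤ) :
    Module.finrank (GrLC.deg0 𝒜) (GrLC.comp 𝒜 ℳ d) = 0 ↔ ℳ d = ⊥ := by
  haveI : IsNoetherianRing R := Algebra.FiniteType.isNoetherianRing k R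
  haveI := Pieces.isNoetherian_comp 𝒜 ℳ d
  exact finrank_eq_zero_iff h0 _ fun x => Iff.rfl

omit [Module k M] [IsScalarTower k R M] in
theorem finrank_Hcomp_eq_zero_iff [Nontrivial R] (hpos : ∀ n : ℤ, n < 0 → 𝒜 n = ⊥)
    (h0 : 𝒜 0 = Submodule.span k {(1 : R)}) {a : HomogeneousIdeal 𝒜}
    (ha : a.toIdeal = Ideal.span (⋃ n ∈ Set.Ioi (0 : ℤ), (𝒜 n : Set R)))
    (E : GrLC.StarInjRes 𝒜 ℳ) (i : ℕ) (d : ℤ) :
    Module.finrank (GrLC.deg0 𝒜) (E.Hcomp a i d) = 0 ↔ E.Hcomp a i d = ⊥ := by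
  haveI : IsNoetherianRing R := Algebra.FiniteType.isNoetherianRing k R
  haveI : Module.Finite (GrLC.deg0 𝒜) (E.Hcomp a i d) := FinitenessApp.finite_Hcomp
    (fun n hn c hc => by rwa [hpos n hn, Submodule.mem_bot] at hc) (ha.trans span_pos_eq)
    (GrLC.GMod.of 𝒜 M ℳ) (inferInstanceAs (Module.Finite R M)) E i d
  letI : Module k (E.H a i) := Module.compHom _ (algebraMap k R)
  haveI : IsScalarTower k R (E.H a i) := IsScalarTower.of_algebraMap_smul fun _ _ => rfl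
  haveI : SetLike.GradedSMul 𝒜 (E.Hgr a i) := Res.hgrGSMul E a i
  rw [finrank_eq_zero_iff (ℳ := E.Hgr a i) h0 (E.Hcomp a i d) fun x => Iff.rfl,
    LES.Hcomp_eq_bot_iff]

section Main

variable {S : Type u} [CommRing S] [Algebra k S] {ℬ : ℤ → Submodule k S} [GradedAlgebra ℬ] [Algebra.FiniteType k S]
variable {T : Type u} [CommRing T] [Algebra k T] {𝒯 : ℤ → Submodule k T} [GradedAlgebra 𝒯]
variable {ψ : T →ₐ[k] R ⊗[k] S}
variable {N : Type u} [AddCommGroup N] [Module S N] [Module k N] [IsScalarTower k S N]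
variable {𝒩 : ℤ → AddSubgroup N} [DirectSum.Decomposition 𝒩] [SetLike.GradedSMul ℬ 𝒩] [Module.Finite S N]
variable {P : Type u} [AddCommGroup P] [Module T P] [Module k P] [IsScalarTower k T P]
variable {𝒬 : ℤ → AddSubgroup P} [DirectSum.Decomposition 𝒬] {φ : P →ₗ[k] M ⊗[k] N}

/-- The Cohen-Macaulay criterion for Segre products. -/
theorem cm_segre_iff [Nontrivial R] [Nontrivial S] [Nontrivial P]
    (hposR : ∀ n : ℤ, n < 0 → 𝒜 n = ⊥) (h0R : 𝒜 0 = Submodule.span k {(1 : R)})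
    (hposS : ∀ n : ℤ, n < 0 → ℬ n = ⊥) (h0S : ℬ 0 = Submodule.span k {(1 : S)})
    (hT : GrSeg.IsSegreRing 𝒜 ℬ 𝒯 ψ)
    {mR : HomogeneousIdeal 𝒜} (hmR : mR.toIdeal = Ideal.span (⋃ n ∈ Set.Ioi (0 : ℤ), (𝒜 n : Set R)))
    {mS : HomogeneousIdeal ℬ} (hmS : mS.toIdeal = Ideal.span (⋃ n ∈ Set.Ioi (0 : ℤ), (ℬ n : Set S)))
    (EM : GrLC.StarInjRes 𝒜 ℳ) (EN : GrLC.StarInjRes ℬ 𝒩) (hP : GrSeg.IsSegreMod ψ ℳ 𝒩 𝒬 φ)
    {r s : ℕ} (h2r : 2 ≤ r) (h2s : 2 ≤ s) (hdM : Module.supportDim R M = r) (hdN : Module.supportDim S N = s)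
    (hMcm : ∀ (q : Ideal R) [q.IsPrime], Subsingleton (LocalizedModule q.primeCompl M) ∨
      LocCoh.IsCohenMacaulayModule (Localization.AtPrime q) (LocalizedModule q.primeCompl M))
    (hNcm : ∀ (q : Ideal S) [q.IsPrime], Subsingleton (LocalizedModule q.primeCompl N) ∨
      LocCoh.IsCohenMacaulayModule (Localization.AtPrime q) (LocalizedModule q.primeCompl N)) :
    (∀ (q : Ideal T) [q.IsPrime], Subsingleton (LocalizedModule q.primeCompl P) ∨
      LocCoh.IsCohenMacaulayModule (Localization.AtPrime q) (LocalizedModule q.primeCompl P)) ↔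
      (∀ d : ℤ, ℳ d = ⊥ ∨ EN.Hcomp mS s d = ⊥) ∧ (∀ d : ℤ, EM.Hcomp mR r d = ⊥ ∨ 𝒩 d = ⊥) := by
  haveI : IsNoetherianRing T :=
    Groth.Agent.S18646.result k R 𝒜 hposR h0R S ℬ hposS h0S T 𝒯 ψ hT.1 hT.2
  haveI : Module.Finite T P :=
    Groth.Agent.S19747.result k R 𝒜 hposR h0R S ℬ hposS h0S T 𝒯 ψ hT M ℳ N 𝒩 P 𝒬 φ hP
  haveI : SetLike.GradedSMul 𝒯 𝒬 := ⟨fun {i j t p} ht hp => H83.Segre.mem_of_segre hP (by
    rw [hP.map_smul]
    exact act_mem_segrePiece hT.2 ht (H83.Segre.mod_mem_segre hP hp))⟩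
  obtain ⟨hposT, h0T⟩ := segre_deg hT.1 hT.2 hposR h0R h0S
  haveI : Algebra.FiniteType k T := H84.Segre.Dim1.finiteType 𝒯 hposT h0T
  let mT : HomogeneousIdeal 𝒯 := FGInduction.posIdeal 𝒯
  have hmT : mT.toIdeal = Ideal.span (⋃ n ∈ Set.Ioi (0 : ℤ), (𝒯 n : Set T)) := span_pos_eq.symm
  obtain ⟨EP⟩ := Res.nonempty_starInjRes 𝒯 𝒬
  have hdP : Module.supportDim T P = ((r + s - 1 : ℕ) : WithBot ℕ∞) :=
    (H84.Segre.CMDim.supportDim_segre_cm 𝒜 hposR h0R ℬ hposS h0S T 𝒯 ψ hT ℳ 𝒩 P 𝒬 φ hP r s (by omega)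
      (by omega) hdM hdN hMcm hNcm).resolve_right (not_subsingleton P)
  haveI : Nontrivial M := (Module.supportDim_ne_bot_iff_nontrivial (R := R) (M := M)).1 (by rw [hdM]; simp)
  haveI : Nontrivial N := (Module.supportDim_ne_bot_iff_nontrivial (R := S) (M := N)).1 (by rw [hdN]; simp)
  have hMlt := (cm_iff hposR h0R hmR EM hdM).1 hMcm
  have hNlt := (cm_iff hposS h0S hmS EN hdN).1 hNcm
  have hM : ∀ i, i ≠ r → ∀ d, EM.Hcomp mR i d = ⊥ := fun i hi d =>
    (lt_or_gt_of_ne hi).elim (fun h => hMlt i h d) (fun h => Hcomp_eq_bot_of_lt EM hdM h d)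
  have hN : ∀ i, i ≠ s → ∀ d, EN.Hcomp mS i d = ⊥ := fun i hi d =>
    (lt_or_gt_of_ne hi).elim (fun h => hNlt i h d) (fun h => Hcomp_eq_bot_of_lt EN hdN h d)
  have hform := kunneth_formula hposR h0R hposS h0S hT.1 hT.2 hmR hmS hmT EM EN (isSeg_of_isSegreMod hP) EP
    (fun q d hq => hM q (by omega) d) (fun q d hq => hN q (by omega) d)
  haveI : Nontrivial T := nontrivial_segre ψ
  rw [cm_iff hposT h0T hmT EP hdP]
  have hsum : ∀ q < r + s - 1, ∀ d, ∑ i ∈ Finset.range (q + 2),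
      Module.finrank (GrLC.deg0 𝒜) (EM.Hcomp mR i d) *
        Module.finrank (GrLC.deg0 ℬ) (EN.Hcomp mS (q + 1 - i) d) = 0 := fun q hq d =>
    Finset.sum_eq_zero fun i _ => by
      rcases eq_or_ne i r with h | h
      · rw [(finrank_Hcomp_eq_zero_iff hposS h0S hmS EN _ d).2 (hN _ (by omega) d), mul_zero]
      · rw [(finrank_Hcomp_eq_zero_iff hposR h0R hmR EM _ d).2 (hM _ h d), zero_mul]
  constructor
  · intro h
    refine ⟨fun d => ?_, fun d => ?_⟩
    · have h0 := (finrank_Hcomp_eq_zero_iff hposT h0T hmT EP s d).2 (h s (by omega) d)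
      rw [hform, hsum s (by omega) d, add_zero, add_eq_zero] at h0
      exact (mul_eq_zero.1 h0.1).imp (finrank_comp_eq_zero_iff h0R d).1
        (finrank_Hcomp_eq_zero_iff hposS h0S hmS EN s d).1
    · have h0 := (finrank_Hcomp_eq_zero_iff hposT h0T hmT EP r d).2 (h r (by omega) d)
      rw [hform, hsum r (by omega) d, add_zero, add_eq_zero] at h0
      exact (mul_eq_zero.1 h0.2).imp (finrank_Hcomp_eq_zero_iff hposR h0R hmR EM r d).1
        (finrank_comp_eq_zero_iff h0S d).1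
  · rintro ⟨h1, h2⟩ q hq d
    refine (finrank_Hcomp_eq_zero_iff hposT h0T hmT EP q d).1 ?_
    rw [hform, hsum q hq d, add_zero, add_eq_zero]
    constructor
    · rcases eq_or_ne q s with rfl | h
      · exact mul_eq_zero.2 ((h1 d).imp (finrank_comp_eq_zero_iff h0R d).2
          (finrank_Hcomp_eq_zero_iff hposS h0S hmS EN q d).2)
      · rw [(finrank_Hcomp_eq_zero_iff hposS h0S hmS EN q d).2 (hN q h d), mul_zero]
    · rcases eq_or_ne q r with rfl | h
      · exact mul_eq_zero.2 ((h2 d).imp (finrank_Hcomp_eq_zero_iff hposR h0R hmR EM q d).2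
          (finrank_comp_eq_zero_iff h0S d).2)
      · rw [(finrank_Hcomp_eq_zero_iff hposR h0R hmR EM q d).2 (hM q h d), zero_mul]

end Main

/-- A Noetherian ring is Cohen-Macaulay iff it is a Cohen-Macaulay module over itself. -/
theorem cmRing_iff (A : Type u) [CommRing A] [IsNoetherianRing A] :
    LocCoh.IsCohenMacaulayRing A ↔ ∀ (q : Ideal A) [q.IsPrime], Subsingleton (LocalizedModule q.primeCompl A) ∨
      LocCoh.IsCohenMacaulayModule (Localization.AtPrime q) (LocalizedModule q.primeCompl A) := by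
  refine ⟨fun h q _ => Or.inr (H84.Segre.Dim1.cm_localizedModule_self q),
    fun h => { isCohenMacaulayLocalRing_localization := fun q _ => ?_ }⟩
  haveI : IsNoetherianRing (Localization.AtPrime q) :=
    IsLocalization.isNoetherianRing q.primeCompl _ inferInstance
  rcases h q with h | h
  · exact absurd h (not_subsingleton (Localization.AtPrime q))
  · exact { supportDim_eq_depth := h }

theorem isSegreMod_self {S : Type u} [CommRing S] [Algebra k S] {ℬ : ℤ → Submodule k S} [GradedAlgebra ℬ]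
    {T : Type u} [CommRing T] [Algebra k T] {𝒯 : ℤ → Submodule k T} [GradedAlgebra 𝒯]
    {ψ : T →ₐ[k] R ⊗[k] S} (hT : GrSeg.IsSegreRing 𝒜 ℬ 𝒯 ψ) :
    GrSeg.IsSegreMod ψ (SigmaChange.pieces 𝒜) (SigmaChange.pieces ℬ) (SigmaChange.pieces 𝒯) ψ.toLinearMap where
  injective := hT.1
  image_piece n := (congrArg (fun W : Submodule k (R ⊗[k] S) => (W : Set (R ⊗[k] S))) (hT.2 n) :)
  map_smul t p := by
    show ψ (t * p) = GrSeg.act k R S R S (ψ t) (ψ p)
    rw [map_mul]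
    generalize ψ t = z
    generalize ψ p = v
    induction z with
    | zero => simp
    | add a b ha hb => simp [add_mul, ha, hb]
    | tmul a b =>
      induction v with
      | zero => simp
      | add c e hc he => simp [mul_add, hc, he]
      | tmul c e => simp [GrSeg.act_tmul]

end Groth.Agent.Lib.Graded.Seg
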