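import Groth.Agent.Lib.Graded.Seg.CMCrit
import Groth.Agent.Lib.Graded.Dual0

/-!
# Canonical modules of graded algebras: dimensions of the pieces
-/

universe u

set_option maxHeartbeats 1600000
set_option linter.unusedSectionVars false

open DirectSum
open scoped TensorProduct

namespace Groth.Agent.Lib.Graded.Seg

open Groth.Agent.Lib.Graded.Basic Groth.Agent.Lib.Graded.StarInj

variable {k : Type u} [Field k] {R : Type u} [CommRing R] [Algebra k R] {𝒜 : ℤ → Submodule k R} [GradedAlgebra 𝒜]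

theorem isField_deg0 [Nontrivial R] (h0 : 𝒜 0 = Submodule.span k {(1 : R)}) : IsField (GrLC.deg0 𝒜) :=
  MulEquiv.isField (Field.toIsField k)
    (RingEquiv.ofBijective ((algebraMap k R).codRestrict (GrLC.deg0 𝒜) fun c => algebraMap_mem_zero k c)
      (deg0Hom_bijective 𝒜 h0)).toMulEquiv.symm

/-- The dimensions of the pieces of a *canonical module, for a graded algebra. -/
theorem finrank_canonical [Nontrivial R] [IsNoetherianRing R] (hpos : ∀ n : ℤ, n < 0 → 𝒜 n = ⊥)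
    (h0 : 𝒜 0 = Submodule.span k {(1 : R)}) {m : HomogeneousIdeal 𝒜}
    (hm : m.toIdeal = Ideal.span (⋃ n ∈ Set.Ioi (0 : ℤ), (𝒜 n : Set R)))
    {E' : Type u} [AddCommGroup E'] [Module R E'] {𝓔 : ℤ → AddSubgroup E'} [DirectSum.Decomposition 𝓔]
    [SetLike.GradedSMul 𝒜 𝓔] {e : (R ⧸ m.toIdeal) →ₗ[R] E'}
    (he : GrLC.IsStarInjHull 𝒜 (GrLC.quotGr 𝒜 m) 𝓔 e)
    {C : Type u} [AddCommGroup C] [Module R C] {𝒞 : ℤ → AddSubgroup C} [DirectSum.Decomposition 𝒞]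
    [SetLike.GradedSMul 𝒜 𝒞] {n : ℕ} {I : GrLC.StarInjRes 𝒜 𝒜}
    (hC : GrLC.IsStarCanonical 𝒜 𝒞 𝓔 m n I) (d : ℤ) :
    Module.finrank (GrLC.deg0 𝒜) (I.Hcomp m n (-d)) = Module.finrank (GrLC.deg0 𝒜) (GrLC.comp 𝒜 𝒞 d) := by
  let 𝒜' := SigmaChange.pieces 𝒜
  let m' := SigmaChange.ideal m
  let I' : GrLC.StarInjRes 𝒜' 𝒜' := SigmaChange.res (ℳ := 𝒜) (ℳ' := 𝒜') (fun _ _ hx => hx) I
  let e' : (R ⧸ m'.toIdeal) →ₗ[R] E' := e
  have he' : GrLC.IsStarInjHull 𝒜' (GrLC.quotGr 𝒜' m') 𝓔 e' :=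
    { toIsStarEss := ⟨he.injective, he.grHom, he.essential⟩
      starInj := SigmaChange.isStarInj he.starInj }
  obtain ⟨hfin, Φ, hΦ⟩ := hC
  have hC' : GrLC.IsStarCanonical 𝒜' 𝒞 𝓔 m' n I' := ⟨hfin, Φ, hΦ⟩
  have hpos' : ∀ n : ℤ, n < 0 → 𝒜' n = ⊥ := fun i hi => (AddSubgroup.eq_bot_iff_forall _).2 fun x hx =>
    (Submodule.eq_bot_iff _).1 (hpos i hi) x hx
  have h := (Dual0.finrank_eq (𝒜 := 𝒜') hpos' (isField_deg0 h0) hm he' hC' (-d)).2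
  rw [neg_neg] at h
  exact h

variable {S : Type u} [CommRing S] [Algebra k S] {ℬ : ℤ → Submodule k S} [GradedAlgebra ℬ]
variable {T : Type u} [CommRing T] [Algebra k T] {𝒯 : ℤ → Submodule k T} [GradedAlgebra 𝒯]
variable {ψ : T →ₐ[k] R ⊗[k] S}

theorem isSeg_self [Algebra.FiniteType k R] (hψ : Function.Injective ψ) (hdeg : ∀ n, (𝒯 n).map ψ.toLinearMap = GrSeg.segrePiece k 𝒜 ℬ n) :
    IsSeg ψ (SigmaChange.pieces 𝒜) (SigmaChange.pieces ℬ) (SigmaChange.pieces 𝒯) ψ.toLinearMap.toAddMonoidHom :=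
  isSeg_of_isSegreMod (isSegreMod_self ⟨hψ, hdeg⟩)

end Groth.Agent.Lib.Graded.Seg
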