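import Mathlib.LinearAlgebra.TensorProduct.Map
import Mathlib.LinearAlgebra.Basis.VectorSpace
import Mathlib.LinearAlgebra.Dimension.Constructions
import Mathlib.LinearAlgebra.Dimension.StrongRankCondition
import Mathlib.RingTheory.Flat.Basic
import Mathlib.RingTheory.TensorProduct.Finite
import Mathlib.RingTheory.Finiteness.Prod
import Mathlib.Tactic.NoncommRing

/-!
# Cohomology of the tensor product of two bounded complexes of vector spaces
-/

universe u

set_option maxHeartbeats 800000
set_option linter.unusedSectionVars false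

open scoped TensorProduct

namespace Groth.Agent.Lib.Graded.Seg

/-- A bounded complex, given by a differential and the projections onto the terms. -/
structure Cx {E : Type*} [Ring E] (N : ℕ) (d : E) (p : ℕ → E) : Prop where
  dd : d * d = 0
  idem : ∀ i, p i * p i = p i
  orth : ∀ i j, i ≠ j → p i * p j = 0
  sum : ∑ i ∈ Finset.range N, p i = 1
  comm : ∀ i, p (i + 1) * d = d * p i
  zero : p 0 * d = 0
  big : ∀ i, N ≤ i → p i = 0

namespace Cx

variable {E : Type*} [Ring E] {N : ℕ} {d : E} {p : ℕ → E} (C : Cx N d p)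

/-- The sign. -/
def sign (N : ℕ) (p : ℕ → E) : E := ∑ i ∈ Finset.range N, (-1 : ℤ) ^ i • p i

include C

theorem p_sign (j : ℕ) : p j * sign N p = (-1 : ℤ) ^ j • p j := by
  rw [sign, Finset.mul_sum]
  by_cases hj : j < N
  · rw [Finset.sum_eq_single j (fun i _ hi => by rw [mul_smul_comm, C.orth j i (Ne.symm hi), smul_zero])
      (fun h => absurd (Finset.mem_range.2 hj) h), mul_smul_comm, C.idem]
  · rw [C.big j (not_lt.1 hj)]
    simp

theorem sign_p (j : ℕ) : sign N p * p j = (-1 : ℤ) ^ j • p j := by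
  rw [sign, Finset.sum_mul]
  by_cases hj : j < N
  · rw [Finset.sum_eq_single j (fun i _ hi => by rw [smul_mul_assoc, C.orth i j hi, smul_zero])
      (fun h => absurd (Finset.mem_range.2 hj) h), smul_mul_assoc, C.idem]
  · rw [C.big j (not_lt.1 hj)]
    simp

theorem sign_sq : sign N p * sign N p = 1 := by
  have h : sign N p * sign N p = ∑ i ∈ Finset.range N, (-1 : ℤ) ^ i • ((-1 : ℤ) ^ i • p i) := by
    conv_lhs => arg 1; rw [sign]
    rw [Finset.sum_mul]
    exact Finset.sum_congr rfl fun i _ => by rw [smul_mul_assoc, C.p_sign]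
  rw [h, ← C.sum]
  exact Finset.sum_congr rfl fun i _ => by rw [smul_smul, ← mul_pow]; simp

theorem comm_of (i : ℕ) {j : ℕ} (h : i + 1 = j) : p j * d = d * p i := h ▸ C.comm i

/-- An element with the same components as another one is equal to it. -/
theorem eq_of_p_mul {x y : E} (h : ∀ i, p i * x = p i * y) : x = y := by
  rw [← one_mul x, ← one_mul y, ← C.sum, Finset.sum_mul, Finset.sum_mul]
  exact Finset.sum_congr rfl fun i _ => h i

theorem sign_d : sign N p * d = -(d * sign N p) := by
  refine C.eq_of_p_mul fun i => ?_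
  rw [← mul_assoc, C.p_sign, smul_mul_assoc, mul_neg, ← mul_assoc]
  rcases i with _ | i
  · rw [C.zero]; simp
  · rw [C.comm i, mul_assoc, C.p_sign, mul_smul_comm, pow_succ, mul_neg_one, neg_smul]

/-- A homotopy adapted to the complex. -/
theorem exists_homotopy {h₀ : E} (h₀d : d * h₀ * d = d) :
    ∃ h : E, h * h = 0 ∧ h * d * h = h ∧ d * h * d = d ∧ h * p 0 = 0 ∧
      ∀ i, p i * h = h * p (i + 1) := by
  obtain ⟨h₁, hh₁⟩ : ∃ h₁, h₁ = ∑ i ∈ Finset.range N, p i * h₀ * p (i + 1) := ⟨_, rfl⟩
  have hp₁ : ∀ j, p j * h₁ = p j * h₀ * p (j + 1) := by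
    intro j
    rw [hh₁, Finset.mul_sum]
    by_cases hj : j < N
    · rw [Finset.sum_eq_single j (fun i _ hi => by
        rw [← mul_assoc, ← mul_assoc, C.orth j i (Ne.symm hi), zero_mul, zero_mul])
        (fun h => absurd (Finset.mem_range.2 hj) h), ← mul_assoc, ← mul_assoc, C.idem]
    · rw [C.big j (not_lt.1 hj)]
      simp
  have hp₁' : ∀ j, h₁ * p (j + 1) = p j * h₀ * p (j + 1) := by
    intro j
    rw [hh₁, Finset.sum_mul]
    by_cases hj : j < N
    · rw [Finset.sum_eq_single j (fun i _ hi => by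
        rw [mul_assoc, C.orth (i + 1) (j + 1) (by omega), mul_zero])
        (fun h => absurd (Finset.mem_range.2 hj) h), mul_assoc, C.idem]
    · rw [C.big (j + 1) (by omega)]
      simp
  have h₁0 : h₁ * p 0 = 0 := by
    rw [hh₁, Finset.sum_mul]
    exact Finset.sum_eq_zero fun i _ => by rw [mul_assoc, C.orth (i + 1) 0 (by omega), mul_zero]
  have h₁p : ∀ j, p j * h₁ = h₁ * p (j + 1) := fun j => by rw [hp₁, hp₁']
  have h₁d : d * h₁ * d = d := by
    refine C.eq_of_p_mul fun i => ?_
    rcases i with _ | i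
    · rw [← mul_assoc, ← mul_assoc, C.zero]; simp
    · calc p (i + 1) * (d * h₁ * d) = d * (p i * h₁) * d := by
            rw [← mul_assoc, ← mul_assoc, C.comm i, mul_assoc d (p i) h₁]
        _ = d * p i * h₀ * (p (i + 1) * d) := by rw [hp₁]; simp only [mul_assoc]
        _ = p (i + 1) * (d * h₀ * d) * p i := by
            rw [← C.comm i]
            simp only [mul_assoc]
            rw [C.comm i]
        _ = p (i + 1) * d := by
            rw [h₀d, C.comm i, mul_assoc, C.idem]
  obtain ⟨h₂, hh₂⟩ : ∃ h₂, h₂ = h₁ * d * h₁ := ⟨_, rfl⟩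
  have h₂p : ∀ j, p j * h₂ = h₂ * p (j + 1) := fun j => by
    rw [hh₂, ← mul_assoc, ← mul_assoc, h₁p, mul_assoc h₁, C.comm j, ← mul_assoc, mul_assoc (h₁ * d),
      h₁p, ← mul_assoc]
  have h₂0 : h₂ * p 0 = 0 := by rw [hh₂, mul_assoc, h₁0, mul_zero]
  have h₂d : d * h₂ * d = d := by
    rw [hh₂]
    calc d * (h₁ * d * h₁) * d = d * h₁ * (d * h₁ * d) := by simp only [mul_assoc]
      _ = d := by rw [h₁d, h₁d]
  have h₂h : h₂ * d * h₂ = h₂ := by
    rw [hh₂]
    calc h₁ * d * h₁ * d * (h₁ * d * h₁) = h₁ * ((d * h₁ * d) * h₁ * d) * h₁ := by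
          simp only [mul_assoc]
      _ = h₁ * d * h₁ := by rw [h₁d, h₁d]
  refine ⟨h₂ - d * h₂ * h₂, ?_, ?_, ?_, ?_, ?_⟩
  · calc (h₂ - d * h₂ * h₂) * (h₂ - d * h₂ * h₂)
        = h₂ * h₂ - (h₂ * d * h₂) * h₂ - d * h₂ * (h₂ * h₂) + d * h₂ * (h₂ * d * h₂) * h₂ := by
          noncomm_ring
      _ = 0 := by rw [h₂h]; noncomm_ring
  · calc (h₂ - d * h₂ * h₂) * d * (h₂ - d * h₂ * h₂)
        = h₂ * d * h₂ - d * h₂ * (h₂ * d * h₂) - h₂ * (d * d) * (h₂ * h₂) +
          d * h₂ * h₂ * (d * d) * (h₂ * h₂) := by noncomm_ring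
      _ = h₂ - d * h₂ * h₂ := by rw [h₂h, C.dd]; noncomm_ring
  · calc d * (h₂ - d * h₂ * h₂) * d = d * h₂ * d - (d * d) * h₂ * h₂ * d := by noncomm_ring
      _ = d := by rw [h₂d, C.dd]; noncomm_ring
  · rw [sub_mul, h₂0, mul_assoc, h₂0, mul_zero, sub_zero]
  · intro j
    rw [mul_sub, sub_mul, h₂p]
    congr 1
    rcases j with _ | j
    · rw [← mul_assoc, ← mul_assoc, C.zero, zero_mul, zero_mul]
      calc (0 : E) = d * (h₂ * p 0) * h₂ := by rw [h₂0]; simp
        _ = d * h₂ * (p 0 * h₂) := by simp only [mul_assoc]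
        _ = d * h₂ * h₂ * p (0 + 1) := by rw [h₂p]; simp only [mul_assoc]
    · calc p (j + 1) * (d * h₂ * h₂) = d * (p j * h₂) * h₂ := by
            rw [← mul_assoc, ← mul_assoc, C.comm j]; simp only [mul_assoc]
        _ = d * h₂ * (p (j + 1) * h₂) := by rw [h₂p]; simp only [mul_assoc]
        _ = d * h₂ * h₂ * p (j + 1 + 1) := by rw [h₂p]; simp only [mul_assoc]

/-- The sign anticommutes with a homotopy. -/
theorem sign_h {h : E} (hp : ∀ i, p i * h = h * p (i + 1)) :
    sign N p * h = -(h * sign N p) := by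
  refine C.eq_of_p_mul fun i => ?_
  rw [← mul_assoc, C.p_sign, smul_mul_assoc, mul_neg, ← mul_assoc, hp, mul_assoc, C.p_sign,
    mul_smul_comm, pow_succ, mul_neg_one, neg_smul, neg_neg]

/-- The projection onto the cohomology commutes with the terms. -/
theorem p_commute {h : E} (hp : ∀ i, p i * h = h * p (i + 1)) (h0 : h * p 0 = 0) (i : ℕ) :
    p i * (1 - d * h - h * d) = (1 - d * h - h * d) * p i := by
  have h1 : p i * (d * h) = d * h * p i := by
    rcases i with _ | i
    · rw [← mul_assoc, C.zero, zero_mul, mul_assoc, h0, mul_zero]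
    · rw [← mul_assoc, C.comm, mul_assoc, hp, ← mul_assoc]
  have h2 : p i * (h * d) = h * d * p i := by
    rw [← mul_assoc, hp, mul_assoc, C.comm, ← mul_assoc]
  simp only [mul_sub, sub_mul, mul_one, one_mul, h1, h2]

omit C in
theorem proj_facts {h : E} (dd : d * d = 0) (hh : h * h = 0) (hdh : h * d * h = h) (dhd : d * h * d = d) :
    d * (1 - d * h - h * d) = 0 ∧ (1 - d * h - h * d) * d = 0 ∧
      (1 - d * h - h * d) * (1 - d * h - h * d) = 1 - d * h - h * d := by
  have h1 : d * (1 - d * h - h * d) = 0 := by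
    calc d * (1 - d * h - h * d) = d - (d * d) * h - d * h * d := by noncomm_ring
      _ = 0 := by rw [dd, dhd]; noncomm_ring
  have h2 : (1 - d * h - h * d) * d = 0 := by
    calc (1 - d * h - h * d) * d = d - d * h * d - h * (d * d) := by noncomm_ring
      _ = 0 := by rw [dd, dhd]; noncomm_ring
  refine ⟨h1, h2, ?_⟩
  calc (1 - d * h - h * d) * (1 - d * h - h * d)
      = (1 - d * h - h * d) - (1 - d * h - h * d) * d * h - (1 - d * h - h * d) * h * d := by noncomm_ring
    _ = (1 - d * h - h * d) := by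
      rw [h2]
      calc 1 - d * h - h * d - 0 * h - (1 - d * h - h * d) * h * d
          = 1 - d * h - h * d - (h - d * (h * h) - h * d * h) * d := by noncomm_ring
        _ = 1 - d * h - h * d := by rw [hh, hdh]; noncomm_ring

theorem sign_commute {h : E} (hp : ∀ i, p i * h = h * p (i + 1)) :
    sign N p * (1 - d * h - h * d) = (1 - d * h - h * d) * sign N p := by
  calc sign N p * (1 - d * h - h * d)
      = sign N p - (sign N p * d) * h - (sign N p * h) * d := by noncomm_ring
    _ = sign N p + d * (sign N p * h) + h * (sign N p * d) := by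
        rw [C.sign_d, C.sign_h hp]; noncomm_ring; rw [C.sign_d, C.sign_h hp]; noncomm_ring
    _ = (1 - d * h - h * d) * sign N p := by
        rw [C.sign_d, C.sign_h hp]; noncomm_ring

end Cx

section Tensor

variable {k : Type u} [Field k] {V W : Type u} [AddCommGroup V] [Module k V] [AddCommGroup W] [Module k W]
variable {N N' : ℕ} {d : Module.End k V} {p : ℕ → Module.End k V}
variable {d' : Module.End k W} {p' : ℕ → Module.End k W}

/-- The tensor product of two endomorphisms. -/
noncomputable abbrev tmap (f : Module.End k V) (g : Module.End k W) : Module.End k (V ⊗[k] W) :=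
  TensorProduct.map f g

theorem tmap_mul (f f' : Module.End k V) (g g' : Module.End k W) :
    tmap f g * tmap f' g' = tmap (f * f') (g * g') :=
  (TensorProduct.map_comp f g f' g').symm

theorem tmap_one : tmap (1 : Module.End k V) (1 : Module.End k W) = 1 := TensorProduct.map_one

theorem tmap_zero_left (g : Module.End k W) : tmap (0 : Module.End k V) g = 0 :=
  TensorProduct.map_zero_left g

theorem tmap_zero_right (f : Module.End k V) : tmap f (0 : Module.End k W) = 0 :=
  TensorProduct.map_zero_right f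

theorem tmap_add_left (f f' : Module.End k V) (g : Module.End k W) : tmap (f + f') g = tmap f g + tmap f' g :=
  TensorProduct.map_add_left f f' g

theorem tmap_add_right (f : Module.End k V) (g g' : Module.End k W) : tmap f (g + g') = tmap f g + tmap f g' :=
  TensorProduct.map_add_right f g g'

theorem tmap_sub_left (f f' : Module.End k V) (g : Module.End k W) : tmap (f - f') g = tmap f g - tmap f' g := by
  rw [eq_sub_iff_add_eq, ← tmap_add_left, sub_add_cancel]

theorem tmap_sub_right (f : Module.End k V) (g g' : Module.End k W) : tmap f (g - g') = tmap f g - tmap f g' := by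
  rw [eq_sub_iff_add_eq, ← tmap_add_right, sub_add_cancel]

/-- The differential of the tensor product. -/
noncomputable def totD (N : ℕ) (d : Module.End k V) (p : ℕ → Module.End k V) (d' : Module.End k W) :
    Module.End k (V ⊗[k] W) :=
  tmap d 1 + tmap (Cx.sign N p) d'

/-- The projections of the tensor product. -/
noncomputable def totP (p : ℕ → Module.End k V) (p' : ℕ → Module.End k W) (n : ℕ) :
    Module.End k (V ⊗[k] W) :=
  ∑ i ∈ Finset.range (n + 1), tmap (p i) (p' (n - i))

theorem tot_sq (C : Cx N d p) (C' : Cx N' d' p') : totD N d p d' * totD N d p d' = 0 := by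
  simp only [totD, add_mul, mul_add, tmap_mul, C.dd, C'.dd, one_mul, mul_one, C.sign_d,
    tmap_zero_left, tmap_zero_right, zero_add, add_zero]
  rw [← tmap_add_left, neg_add_cancel, tmap_zero_left]

theorem totP_idem (C : Cx N d p) (C' : Cx N' d' p') (n : ℕ) :
    totP p p' n * totP p p' n = totP p p' n := by
  rw [totP, Finset.sum_mul_sum]
  refine Finset.sum_congr rfl fun i hi => ?_
  rw [Finset.sum_eq_single i (fun j hj hji => by
    rw [tmap_mul, C.orth i j (Ne.symm hji), tmap_zero_left]) (fun h => absurd hi h),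
    tmap_mul, C.idem, C'.idem]

theorem totP_comm (C : Cx N d p) (C' : Cx N' d' p') (n : ℕ) :
    totP p p' (n + 1) * totD N d p d' = totD N d p d' * totP p p' n := by
  simp only [totD, mul_add, add_mul]
  congr 1
  · rw [totP, totP, Finset.sum_mul, Finset.mul_sum, Finset.sum_range_succ', tmap_mul, C.zero,
      tmap_zero_left, add_zero]
    refine Finset.sum_congr rfl fun i _ => ?_
    rw [tmap_mul, tmap_mul, C.comm, mul_one, one_mul, Nat.add_sub_add_right]
  · rw [totP, totP, Finset.sum_mul, Finset.mul_sum, Finset.sum_range_succ, tmap_mul, Nat.sub_self,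
      C'.zero, tmap_zero_right, add_zero]
    refine Finset.sum_congr rfl fun i hi => ?_
    rw [tmap_mul, tmap_mul, C.p_sign, C.sign_p, Nat.succ_sub (Finset.mem_range_succ_iff.1 hi),
      C'.comm]

theorem totP_zero_comm (C : Cx N d p) (C' : Cx N' d' p') : totP p p' 0 * totD N d p d' = 0 := by
  simp [totP, totD, mul_add, tmap_mul, C.zero, C'.zero]

/-- The cohomology in a given degree. -/
abbrev coh {X : Type u} [AddCommGroup X] [Module k X] (d : Module.End k X) (q : Module.End k X) : Type u :=
  ↥(LinearMap.ker d ⊓ LinearMap.range q) ⧸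
    (LinearMap.range d).comap (LinearMap.ker d ⊓ LinearMap.range q).subtype

/-- A projection homotopic to the identity computes the cohomology. -/
theorem nonempty_range_equiv {X : Type u} [AddCommGroup X] [Module k X] {d q P H : Module.End k X}
    (hdP : d * P = 0) (hPd : P * d = 0) (hP : P * P = P) (hPq : q * P = P * q) (hq : q * q = q)
    (hH : d * H + H * d = 1 - P) :
    Nonempty (LinearMap.range (P * q) ≃ₗ[k] coh d q) := by
  have hmem : ∀ y ∈ LinearMap.range (P * q), y ∈ LinearMap.ker d ⊓ LinearMap.range q := by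
    rintro _ ⟨x, rfl⟩
    refine ⟨?_, ⟨P x, ?_⟩⟩
    · rw [SetLike.mem_coe, LinearMap.mem_ker, ← Module.End.mul_apply, ← mul_assoc, hdP, zero_mul,
        LinearMap.zero_apply]
    · rw [← Module.End.mul_apply, hPq]
  let g : LinearMap.range (P * q) →ₗ[k] coh d q :=
    ((LinearMap.range d).comap (LinearMap.ker d ⊓ LinearMap.range q).subtype).mkQ ∘ₗ
      Submodule.inclusion (fun y hy => hmem y hy)
  refine ⟨LinearEquiv.ofBijective g ⟨(injective_iff_map_eq_zero g).2 ?_, ?_⟩⟩
  · rintro ⟨_, x, rfl⟩ hy
    obtain ⟨z, hz⟩ := (Submodule.Quotient.mk_eq_zero _).1 hy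
    refine Subtype.ext ?_
    change (P * q) x = 0
    have h1 : P ((P * q) x) = (P * q) x := by rw [← Module.End.mul_apply, ← mul_assoc, hP]
    rw [← h1, ← show d z = (P * q) x from hz, ← Module.End.mul_apply, hPd, LinearMap.zero_apply]
  · intro y
    obtain ⟨⟨x, hx⟩, rfl⟩ := Submodule.mkQ_surjective _ y
    obtain ⟨hx0, w, rfl⟩ := hx
    refine ⟨⟨(P * q) w, w, rfl⟩, (Submodule.Quotient.eq _).2 ⟨-(H (q w)), ?_⟩⟩
    change d (-(H (q w))) = (P * q) w - q w
    have h1 := LinearMap.congr_fun hH (q w)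
    simp only [LinearMap.add_apply, Module.End.mul_apply, LinearMap.sub_apply, Module.End.one_apply,
      LinearMap.mem_ker.1 (SetLike.mem_coe.1 hx0), map_zero, add_zero] at h1
    rw [map_neg, h1, Module.End.mul_apply, neg_sub]

theorem exists_pseudo_inverse (d : Module.End k V) : ∃ h : Module.End k V, d * h * d = d := by
  obtain ⟨s, hs⟩ := d.rangeRestrict.exists_rightInverse_of_surjective d.range_rangeRestrict
  obtain ⟨g, hg⟩ := LinearMap.exists_extend s
  refine ⟨g, LinearMap.ext fun x => ?_⟩
  have h1 : g (d x) = s (d.rangeRestrict x) := LinearMap.congr_fun hg (d.rangeRestrict x)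
  have h2 := congrArg Subtype.val (LinearMap.congr_fun hs (d.rangeRestrict x))
  simp only [LinearMap.comp_apply, LinearMap.id_apply] at h2
  rw [Module.End.mul_apply, Module.End.mul_apply, h1]
  exact h2

/-- The Künneth formula. -/
theorem finrank_coh_tot (C : Cx N d p) (C' : Cx N' d' p') (n : ℕ)
    (hf : ∀ i ≤ n, Module.Finite k (coh d (p i))) (hf' : ∀ i ≤ n, Module.Finite k (coh d' (p' i))) :
    Module.Finite k (coh (totD N d p d') (totP p p' n)) ∧
      Module.finrank k (coh (totD N d p d') (totP p p' n)) =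
        ∑ i ∈ Finset.range (n + 1),
          Module.finrank k (coh d (p i)) * Module.finrank k (coh d' (p' (n - i))) := by
  classical
  obtain ⟨h₀, hh₀⟩ := exists_pseudo_inverse d
  obtain ⟨h₀', hh₀'⟩ := exists_pseudo_inverse d'
  obtain ⟨h, hh, hdh, dhd, hp0, hp⟩ := C.exists_homotopy hh₀
  obtain ⟨h', hh', hdh', dhd', hp0', hp'⟩ := C'.exists_homotopy hh₀'
  obtain ⟨a1, a2, a3⟩ := Cx.proj_facts C.dd hh hdh dhd
  obtain ⟨b1, b2, b3⟩ := Cx.proj_facts C'.dd hh' hdh' dhd'
  obtain ⟨P, hP⟩ : ∃ P, P = 1 - d * h - h * d := ⟨_, rfl⟩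
  obtain ⟨P', hP'⟩ : ∃ P', P' = 1 - d' * h' - h' * d' := ⟨_, rfl⟩
  have hpP : ∀ i, p i * P = P * p i := hP ▸ C.p_commute hp hp0
  have hpP' : ∀ i, p' i * P' = P' * p' i := hP' ▸ C'.p_commute hp' hp0'
  have hsP : Cx.sign N p * P = P * Cx.sign N p := hP ▸ C.sign_commute hp
  rw [← hP] at a1 a2 a3
  rw [← hP'] at b1 b2 b3
  have e : ∀ i, Nonempty (LinearMap.range (P * p i) ≃ₗ[k] coh d (p i)) := fun i =>
    nonempty_range_equiv a1 a2 a3 (hpP i) (C.idem i) (H := h) (by rw [hP]; noncomm_ring)
  have e' : ∀ i, Nonempty (LinearMap.range (P' * p' i) ≃ₗ[k] coh d' (p' i)) := fun i =>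
    nonempty_range_equiv b1 b2 b3 (hpP' i) (C'.idem i) (H := h') (by rw [hP']; noncomm_ring)
  -- the total homotopy
  obtain ⟨Q, hQ⟩ : ∃ Q, Q = tmap P P' := ⟨_, rfl⟩
  have hQQ : Q * Q = Q := by rw [hQ, tmap_mul, a3, b3]
  have hdQ : totD N d p d' * Q = 0 := by simp [totD, hQ, add_mul, tmap_mul, a1, b1]
  have hQd : Q * totD N d p d' = 0 := by simp [totD, hQ, mul_add, tmap_mul, a2, b2]
  have hPQ : totP p p' n * Q = Q * totP p p' n := by
    simp [totP, hQ, Finset.sum_mul, Finset.mul_sum, tmap_mul, hpP, hpP']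
  have hH : totD N d p d' * (tmap h 1 + tmap (Cx.sign N p * P) h') +
      (tmap h 1 + tmap (Cx.sign N p * P) h') * totD N d p d' = 1 - Q := by
    have c1 : d * (Cx.sign N p * P) = 0 := by rw [hsP, ← mul_assoc, a1, zero_mul]
    have c2 : Cx.sign N p * P * d = 0 := by rw [mul_assoc, a2, mul_zero]
    have c3 : Cx.sign N p * h + h * Cx.sign N p = 0 := by rw [C.sign_h hp, neg_add_cancel]
    have c4 : Cx.sign N p * P * Cx.sign N p = P := by
      rw [hsP, mul_assoc, C.sign_sq, mul_one]
    have c5 : Cx.sign N p * (Cx.sign N p * P) = P := by rw [← mul_assoc, C.sign_sq, one_mul]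
    have d1 : d * h + h * d = 1 - P := by rw [hP]; noncomm_ring
    have d2 : d' * h' + h' * d' = 1 - P' := by rw [hP']; noncomm_ring
    calc totD N d p d' * (tmap h 1 + tmap (Cx.sign N p * P) h') +
          (tmap h 1 + tmap (Cx.sign N p * P) h') * totD N d p d'
        = tmap (d * h + h * d) 1 + tmap (Cx.sign N p * h + h * Cx.sign N p) d' +
            tmap P (d' * h' + h' * d') := by
          simp only [totD, mul_add, add_mul, tmap_mul, one_mul, mul_one, c1, c2, c4, c5,
            tmap_zero_left, tmap_add_left, tmap_add_right]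
          abel
      _ = 1 - Q := by
          rw [d1, d2, c3, tmap_zero_left, add_zero, hQ, ← tmap_one, tmap_sub_left, tmap_sub_right,
            sub_add_sub_cancel]
  obtain ⟨eT⟩ := nonempty_range_equiv hdQ hQd hQQ hPQ (totP_idem C C' n) hH
  -- the range of the projection as a product
  let A : Fin (n + 1) → Submodule k V := fun i => LinearMap.range (P * p i)
  let B : Fin (n + 1) → Submodule k W := fun i => LinearMap.range (P' * p' (n - i))
  have hA : ∀ i j : Fin (n + 1), ∀ x : A i, (P * p j) x.1 = if i = j then x.1 else 0 := by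
    rintro i j ⟨_, x, rfl⟩
    rw [← Module.End.mul_apply, mul_assoc, ← mul_assoc (p j), hpP, mul_assoc P, ← mul_assoc P P, a3]
    split_ifs with hij
    · rw [hij, C.idem]
    · rw [C.orth j i (fun h => hij (Fin.ext h).symm), mul_zero, LinearMap.zero_apply]
  have hB : ∀ i : Fin (n + 1), ∀ x : B i, (P' * p' (n - i)) x.1 = x.1 := by
    rintro i ⟨_, x, rfl⟩
    rw [← Module.End.mul_apply, mul_assoc, ← mul_assoc (p' _), hpP', mul_assoc P', ← mul_assoc P' P',
      b3, C'.idem]
  let f : (∀ i, A i ⊗[k] B i) →ₗ[k] V ⊗[k] W :=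
    ∑ i, TensorProduct.map (A i).subtype (B i).subtype ∘ₗ LinearMap.proj i
  let g : V ⊗[k] W →ₗ[k] (∀ i, A i ⊗[k] B i) :=
    LinearMap.pi fun i => TensorProduct.map (P * p i).rangeRestrict (P' * p' (n - i)).rangeRestrict
  have hgf : ∀ x, g (f x) = x := by
    intro x
    funext j
    have h1 : ∀ i : Fin (n + 1), g (TensorProduct.map (A i).subtype (B i).subtype (x i)) j =
        if hij : i = j then hij ▸ x i else 0 := by
      intro i
      by_cases hij : i = j
      · subst hij
        rw [dif_pos rfl]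
        refine LinearMap.congr_fun (f := TensorProduct.map (P * p i).rangeRestrict
          (P' * p' (n - i)).rangeRestrict ∘ₗ TensorProduct.map (A i).subtype (B i).subtype)
          (g := LinearMap.id) (TensorProduct.ext' fun a b => ?_) (x i)
        simp only [LinearMap.comp_apply, TensorProduct.map_tmul, LinearMap.id_apply]
        congr 1
        · exact Subtype.ext ((hA i i a).trans (if_pos rfl))
        · exact Subtype.ext (hB i b)
      · rw [dif_neg hij]
        refine LinearMap.congr_fun (f := TensorProduct.map (P * p j).rangeRestrict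
          (P' * p' (n - j)).rangeRestrict ∘ₗ TensorProduct.map (A i).subtype (B i).subtype)
          (g := 0) (TensorProduct.ext' fun a b => ?_) (x i)
        rw [LinearMap.comp_apply, TensorProduct.map_tmul, TensorProduct.map_tmul,
          show (P * p j).rangeRestrict ((A i).subtype a) = 0 from
            Subtype.ext ((hA i j a).trans (if_neg hij)), TensorProduct.zero_tmul, LinearMap.zero_apply]
    simp only [f, LinearMap.sum_apply, LinearMap.comp_apply, LinearMap.proj_apply, map_sum,
      Finset.sum_apply, h1, Finset.sum_dite_eq', Finset.mem_univ, if_true]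
  have hfg : f ∘ₗ g = Q * totP p p' n := by
    refine TensorProduct.ext' fun v w => ?_
    simp only [f, g, totP, hQ, Finset.mul_sum, tmap_mul, LinearMap.comp_apply, LinearMap.sum_apply,
      LinearMap.proj_apply, LinearMap.pi_apply, TensorProduct.map_tmul, Submodule.coe_subtype,
      LinearMap.codRestrict_apply]
    rw [← Fin.sum_univ_eq_sum_range fun i => (P * p i) v ⊗ₜ[k] (P' * p' (n - i)) w]
  have hf_inj : Function.Injective f := fun a b hab => by rw [← hgf a, hab, hgf b]
  have hrange : LinearMap.range f = LinearMap.range (Q * totP p p' n) := by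
    rw [← hfg]
    refine le_antisymm ?_ (LinearMap.range_comp_le_range _ _)
    rintro _ ⟨x, rfl⟩
    exact ⟨f x, by rw [LinearMap.comp_apply, hgf]⟩
  let eF : (∀ i, A i ⊗[k] B i) ≃ₗ[k] coh (totD N d p d') (totP p p' n) :=
    ((LinearEquiv.ofInjective f hf_inj).trans (LinearEquiv.ofEq _ _ hrange)).trans eT
  haveI : ∀ i, Module.Finite k (A i) := fun i =>
    haveI := hf i (Nat.lt_succ_iff.1 i.2)
    Module.Finite.equiv (e i).some.symm
  haveI : ∀ i, Module.Finite k (B i) := fun i =>
    haveI := hf' (n - i) (Nat.sub_le _ _)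
    Module.Finite.equiv (e' (n - i)).some.symm
  refine ⟨Module.Finite.equiv eF, ?_⟩
  rw [← eF.finrank_eq, Module.finrank_pi_fintype,
    ← Fin.sum_univ_eq_sum_range fun i =>
      Module.finrank k (coh d (p i)) * Module.finrank k (coh d' (p' (n - i)))]
  refine Finset.sum_congr rfl fun i _ => ?_
  rw [Module.finrank_tensorProduct, (e i).some.finrank_eq, (e' (n - i)).some.finrank_eq]

end Tensor

end Groth.Agent.Lib.Graded.Seg
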