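import Groth.Agent.Lib.Graded.Seg.Functor
import Groth.Agent.Lib.Graded.Pieces
import Mathlib.LinearAlgebra.Dimension.Finrank
import Mathlib.LinearAlgebra.Dimension.Free

/-!
# Pieces over the field, and cohomology of homogeneous endomorphisms on them
-/

universe u

set_option maxHeartbeats 800000
set_option linter.unusedSectionVars false

open DirectSum
open scoped TensorProduct

namespace Groth.Agent.Lib.Graded.Seg

open Groth.Agent.Lib.Graded.Basic Groth.Agent.Lib.Graded.StarInj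

theorem Cx.map {E F : Type*} [Ring E] [Ring F] (f : E →+* F) {N : ℕ} {d : E} {p : ℕ → E}
    (C : Cx N d p) : Cx N (f d) (fun i => f (p i)) where
  dd := by rw [← map_mul, C.dd, map_zero]
  idem i := by rw [← map_mul, C.idem]
  orth i j h := by rw [← map_mul, C.orth i j h, map_zero]
  sum := by rw [← map_sum, C.sum, map_one]
  comm i := by rw [← map_mul, ← map_mul, C.comm]
  zero := by rw [← map_mul, C.zero, map_zero]
  big i h := by rw [C.big i h, map_zero]

variable {k : Type u} [Field k] {R : Type u} [CommRing R] [Algebra k R]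
variable (𝒜 : ℤ → Submodule k R) [GradedAlgebra 𝒜]

theorem deg0Hom_bijective [Nontrivial R] (h0 : 𝒜 0 = Submodule.span k {(1 : R)}) :
    Function.Bijective ((algebraMap k R).codRestrict (GrLC.deg0 𝒜) fun c => algebraMap_mem_zero k c) := by
  refine ⟨fun a b h => (algebraMap k R).injective (congrArg Subtype.val h), fun x => ?_⟩
  have h : (x : R) ∈ Submodule.span k {(1 : R)} := h0 ▸ x.2
  obtain ⟨c, hc⟩ := Submodule.mem_span_singleton.1 h
  exact ⟨c, Subtype.ext ((Algebra.algebraMap_eq_smul_one c).trans hc)⟩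

variable {M : Type u} [AddCommGroup M] [Module R M] [Module k M] [IsScalarTower k R M]
variable (ℳ : ℤ → AddSubgroup M) [SetLike.GradedSMul 𝒜 ℳ]

/-- A piece, as a subspace over the field. -/
def pieceK (d : ℤ) : Submodule k M where
  carrier := ℳ d
  add_mem' := add_mem
  zero_mem' := zero_mem _
  smul_mem' c x hx := by
    rw [← algebraMap_smul R c x]
    exact smul_mem' 𝒜 ℳ (algebraMap_mem_zero k c) hx (zero_add d)

variable {𝒜 ℳ}

theorem finrank_pieceK [Nontrivial R] (h0 : 𝒜 0 = Submodule.span k {(1 : R)}) {d : ℤ}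
    (P : Submodule (GrLC.deg0 𝒜) M) (hP : ∀ x, x ∈ P ↔ x ∈ ℳ d) :
    Module.finrank k (pieceK 𝒜 ℳ d) = Module.finrank (GrLC.deg0 𝒜) P ∧
      (Module.Finite (GrLC.deg0 𝒜) P → Module.Finite k (pieceK 𝒜 ℳ d)) := by
  let i : k →+* GrLC.deg0 𝒜 := (algebraMap k R).codRestrict (GrLC.deg0 𝒜) fun c => algebraMap_mem_zero k c
  let e : pieceK 𝒜 ℳ d ≃+ P :=
    { toFun := fun x => ⟨x.1, (hP _).2 x.2⟩
      invFun := fun x => ⟨x.1, (hP _).1 x.2⟩
      map_add' := fun _ _ => rfl }
  have hsm : ∀ (c : k) (x : pieceK 𝒜 ℳ d), e (c • x) = i c • e x := fun c x =>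
    Subtype.ext (algebraMap_smul R c (x : M)).symm
  refine ⟨congrArg Cardinal.toNat (rank_eq_of_equiv_equiv i e (deg0Hom_bijective 𝒜 h0) hsm), fun hfin => ?_⟩
  obtain ⟨s, hs⟩ := hfin.fg_top
  classical
  refine ⟨⟨s.image e.symm, eq_top_iff.2 fun x _ => ?_⟩⟩
  have hx : e x ∈ Submodule.span (GrLC.deg0 𝒜) (s : Set P) := hs ▸ trivial
  suffices H : ∀ y ∈ Submodule.span (GrLC.deg0 𝒜) (s : Set P), e.symm y ∈ Submodule.span k ↑(s.image e.symm) by
    have h := H _ hx
    rwa [e.symm_apply_apply] at h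
  intro y hy
  induction hy using Submodule.span_induction with
  | mem z hz => exact Submodule.subset_span (Finset.mem_coe.2 (Finset.mem_image_of_mem _ hz))
  | zero => rw [map_zero]; exact zero_mem _
  | add a b _ _ ha hb => rw [map_add]; exact add_mem ha hb
  | smul c z _ hz =>
    obtain ⟨c, rfl⟩ := (deg0Hom_bijective 𝒜 h0).2 c
    rw [show e.symm (i c • z) = c • e.symm z from e.injective (by rw [hsm, e.apply_symm_apply, e.apply_symm_apply])]
    exact Submodule.smul_mem _ _ hz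

/-- A homogeneous endomorphism on a piece. -/
noncomputable def resK (f : Module.End R M) (hf : GrLC.IsGrHom ℳ ℳ f) (d : ℤ) : Module.End k (pieceK 𝒜 ℳ d) :=
  (f.restrictScalars k).restrict (fun x hx => hf d x hx)

theorem resK_apply (f : Module.End R M) (hf : GrLC.IsGrHom ℳ ℳ f) (d : ℤ) (x : pieceK 𝒜 ℳ d) :
    (resK f hf d x : M) = f x := rfl

theorem cx_resK {N : ℕ} {D : Module.End R M} {p : ℕ → Module.End R M} (C : Cx N D p)
    (hD : GrLC.IsGrHom ℳ ℳ D) (hp : ∀ i, GrLC.IsGrHom ℳ ℳ (p i)) (d : ℤ) :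
    Cx N (resK (𝒜 := 𝒜) D hD d) (fun i => resK (𝒜 := 𝒜) (p i) (hp i) d) where
  dd := LinearMap.ext fun x => Subtype.ext (LinearMap.congr_fun C.dd (x : M))
  idem i := LinearMap.ext fun x => Subtype.ext (LinearMap.congr_fun (C.idem i) (x : M))
  orth i j h := LinearMap.ext fun x => Subtype.ext (LinearMap.congr_fun (C.orth i j h) (x : M))
  sum := LinearMap.ext fun x => Subtype.ext (by
    have h := LinearMap.congr_fun C.sum (x : M)
    rw [LinearMap.sum_apply] at h ⊢
    rw [Submodule.coe_sum]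
    exact h)
  comm i := LinearMap.ext fun x => Subtype.ext (LinearMap.congr_fun (C.comm i) (x : M))
  zero := LinearMap.ext fun x => Subtype.ext (LinearMap.congr_fun C.zero (x : M))
  big i h := LinearMap.ext fun x => Subtype.ext (LinearMap.congr_fun (C.big i h) (x : M))

variable [DirectSum.Decomposition ℳ]

/-- Cohomology on a piece from a description of the cohomology of the module. -/
theorem nonempty_coh_equiv {D q : Module.End R M} (hD : GrLC.IsGrHom ℳ ℳ D) (hq : GrLC.IsGrHom ℳ ℳ q)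
    {N : Type u} [AddCommGroup N] [Module R N] [Module k N] [IsScalarTower k R N]
    {𝒩 : ℤ → AddSubgroup N} [SetLike.GradedSMul 𝒜 𝒩]
    (f : ↥(LinearMap.ker D ⊓ LinearMap.range q) →ₗ[R] N) (d : ℤ)
    (h1 : ∀ x : ↥(LinearMap.ker D ⊓ LinearMap.range q), x.1 ∈ ℳ d → f x ∈ 𝒩 d)
    (h2 : ∀ w ∈ 𝒩 d, ∃ x : ↥(LinearMap.ker D ⊓ LinearMap.range q), x.1 ∈ ℳ d ∧ f x = w)
    (h3 : ∀ x, f x = 0 ↔ x.1 ∈ LinearMap.range D) :
    Nonempty (coh (resK (𝒜 := 𝒜) D hD d) (resK (𝒜 := 𝒜) q hq d) ≃ₗ[k] pieceK 𝒜 𝒩 d) := by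
  let Z := LinearMap.ker (resK (𝒜 := 𝒜) D hD d) ⊓ LinearMap.range (resK (𝒜 := 𝒜) q hq d)
  have hmem : ∀ z : Z, (z.1 : M) ∈ LinearMap.ker D ⊓ LinearMap.range q := by
    intro z
    obtain ⟨hz, y, hy⟩ := z.2
    exact ⟨congrArg Subtype.val (LinearMap.mem_ker.1 hz), y.1, congrArg Subtype.val hy⟩
  let g : Z →ₗ[k] pieceK 𝒜 𝒩 d :=
    { toFun := fun z => ⟨f ⟨_, hmem z⟩, h1 _ z.1.2⟩
      map_add' := fun a b => Subtype.ext ((congrArg f (Subtype.ext rfl)).trans (map_add f ⟨_, hmem a⟩ ⟨_, hmem b⟩))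
      map_smul' := fun c a => Subtype.ext (by
        show f ⟨_, _⟩ = c • f ⟨_, hmem a⟩
        rw [← algebraMap_smul R c (f ⟨_, hmem a⟩), ← map_smul]
        exact congrArg f (Subtype.ext (algebraMap_smul R c ((a.1 : pieceK 𝒜 ℳ d) : M)).symm)) }
  have hg : Function.Surjective g := by
    rintro ⟨w, hw⟩
    obtain ⟨⟨x, hx1, y, hy⟩, hx, rfl⟩ := h2 w hw
    refine ⟨⟨⟨x, hx⟩, LinearMap.mem_ker.2 (Subtype.ext hx1), ⟨proj ℳ d y, proj_mem ℳ d y⟩,
      Subtype.ext ?_⟩, Subtype.ext rfl⟩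
    change q (proj ℳ d y) = x
    rw [map_proj hq, hy, proj_of_mem ℳ hx]
  have hker : LinearMap.ker g = (LinearMap.range (resK (𝒜 := 𝒜) D hD d)).comap Z.subtype := by
    ext z
    rw [LinearMap.mem_ker, Submodule.mem_comap]
    constructor
    · intro h
      obtain ⟨y, hy⟩ := (h3 ⟨_, hmem z⟩).1 (congrArg Subtype.val h)
      refine ⟨⟨proj ℳ d y, proj_mem ℳ d y⟩, Subtype.ext ?_⟩
      change D (proj ℳ d y) = _
      rw [map_proj hD, hy, proj_of_mem ℳ z.1.2]
      rfl
    · rintro ⟨y, hy⟩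
      exact Subtype.ext ((h3 ⟨_, hmem z⟩).2 ⟨y.1, congrArg Subtype.val hy⟩)
  exact ⟨(Submodule.quotEquivOfEq _ _ hker.symm).trans (g.quotKerEquivOfSurjective hg)⟩

/-- Cohomology is invariant under isomorphisms. -/
theorem nonempty_coh_congr {V W : Type u} [AddCommGroup V] [Module k V] [AddCommGroup W] [Module k W]
    {d q : Module.End k V} {d' q' : Module.End k W} (u : V ≃ₗ[k] W) (hd : ∀ x, u (d x) = d' (u x))
    (hq : ∀ x, u (q x) = q' (u x)) : Nonempty (coh d q ≃ₗ[k] coh d' q') := by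
  have hmap : (LinearMap.ker d ⊓ LinearMap.range q).map u.toLinearMap =
      LinearMap.ker d' ⊓ LinearMap.range q' := by
    refine le_antisymm ?_ ?_
    · rintro _ ⟨x, ⟨hx, y, rfl⟩, rfl⟩
      exact ⟨LinearMap.mem_ker.2 ((hd _).symm.trans (by rw [LinearMap.mem_ker.1 hx, map_zero])),
        u y, (hq y).symm⟩
    · rintro x ⟨hx, y, rfl⟩
      refine ⟨q (u.symm y), ⟨LinearMap.mem_ker.2 (u.injective ?_), u.symm y, rfl⟩, ?_⟩
      · rw [hd, hq, u.apply_symm_apply, LinearMap.mem_ker.1 hx, map_zero]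
      · exact (hq _).trans (by rw [u.apply_symm_apply])
  let e := (u.submoduleMap (LinearMap.ker d ⊓ LinearMap.range q)).trans (LinearEquiv.ofEq _ _ hmap)
  refine ⟨Submodule.Quotient.equiv _ _ e ?_⟩
  ext x
  constructor
  · rintro ⟨z, ⟨y, hy⟩, rfl⟩
    exact ⟨u y, (hd y).symm.trans (congrArg u hy)⟩
  · rintro ⟨y, hy⟩
    refine ⟨e.symm x, ⟨u.symm y, u.injective ?_⟩, e.apply_symm_apply x⟩
    rw [hd, u.apply_symm_apply]
    exact hy.trans (congrArg Subtype.val (e.apply_symm_apply x)).symm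

/-- An element in a term killed by two endomorphisms of the factors lies in the product of their kernels. -/
theorem mem_range_map {V W V₀ W₀ : Type u} [AddCommGroup V] [Module k V] [AddCommGroup W] [Module k W]
    [AddCommGroup V₀] [Module k V₀] [AddCommGroup W₀] [Module k W₀] {f p p₁ : Module.End k V}
    {g q q₁ : Module.End k W} {i : V₀ →ₗ[k] V} {j : W₀ →ₗ[k] W} (hfp : f * p = p₁ * f) (hgq : g * q = q₁ * g)
    (hf : ∀ v, f (p v) = 0 → p v ∈ LinearMap.range i) (hg : ∀ w, g (q w) = 0 → q w ∈ LinearMap.range j)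
    {x : V ⊗[k] W} (hx : tmap f 1 x = 0) (hx' : tmap 1 g x = 0) (hpq : tmap p q x = x) :
    x ∈ LinearMap.range (TensorProduct.map i j) := by
  obtain ⟨h, hh⟩ := exists_pseudo_inverse f
  obtain ⟨h', hh'⟩ := exists_pseudo_inverse g
  have hk : ∀ v, (f * p) ((1 - h * f) v) = 0 := fun v => by
    rw [hfp, ← Module.End.mul_apply, mul_assoc, mul_sub, mul_one, ← mul_assoc f, hh, sub_self, mul_zero,
      LinearMap.zero_apply]
  have hk' : ∀ w, (g * q) ((1 - h' * g) w) = 0 := fun w => by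
    rw [hgq, ← Module.End.mul_apply, mul_assoc, mul_sub, mul_one, ← mul_assoc g, hh', sub_self, mul_zero,
      LinearMap.zero_apply]
  have h1 : tmap (h * f) 1 x = 0 := by
    rw [show tmap (h * f) (1 : Module.End k W) = tmap h 1 * tmap f 1 by rw [tmap_mul, mul_one],
      Module.End.mul_apply, hx, map_zero]
  have h2 : tmap (1 : Module.End k V) (h' * g) x = 0 := by
    rw [show tmap (1 : Module.End k V) (h' * g) = tmap 1 h' * tmap 1 g by rw [tmap_mul, mul_one],
      Module.End.mul_apply, hx', map_zero]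
  have h3 : tmap (h * f) (h' * g) x = 0 := by
    rw [show tmap (h * f) (h' * g) = tmap 1 (h' * g) * tmap (h * f) 1 by rw [tmap_mul, mul_one, one_mul],
      Module.End.mul_apply, h1, map_zero]
  have hx1 : x = tmap (p * (1 - h * f)) (q * (1 - h' * g)) x := by
    rw [← tmap_mul, tmap_sub_left, tmap_sub_right, tmap_sub_right, tmap_one, Module.End.mul_apply]
    simp only [LinearMap.sub_apply, Module.End.one_apply, h1, h2, h3, sub_zero, hpq]
  rw [hx1]
  clear hx hx' hx1 h1 h2 h3 hpq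
  induction x with
  | zero => rw [map_zero]; exact zero_mem _
  | add a b ha hb => rw [map_add]; exact add_mem ha hb
  | tmul v w =>
    obtain ⟨a, ha⟩ := hf _ (hk v)
    obtain ⟨b, hb⟩ := hg _ (hk' w)
    exact ⟨a ⊗ₜ[k] b, by rw [TensorProduct.map_tmul, ha, hb]; rfl⟩

end Groth.Agent.Lib.Graded.Seg
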