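import Groth.Agent.Lib.Graded.Seg.Tot
import Groth.Agent.Lib.Graded.Seg.Piece
import Groth.Agent.Lib.Graded.Seg.Homotopy

/-!
# A component of the Künneth map of two complexes
-/

universe u

set_option maxHeartbeats 1600000
set_option linter.unusedSectionVars false

open DirectSum
open scoped TensorProduct

namespace Groth.Agent.Lib.Graded.Seg

open Groth.Agent.Lib.Graded.Basic Groth.Agent.Lib.Graded.StarInj

section

variable {k : Type u} [Field k] {A H : Type u} [AddCommGroup A] [Module k A] [AddCommGroup H] [Module k H]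

/-- A map on the cocycles killing the boundaries, extended to everything. -/
theorem exists_extend {Z : Submodule k A} {D : Module.End k A} {c : Z →ₗ[k] H}
    (hc : ∀ x : Z, x.1 ∈ LinearMap.range D → c x = 0) :
    ∃ c' : A →ₗ[k] H, (∀ x : Z, c' x = c x) ∧ ∀ a, c' (D a) = 0 := by
  let g : Z →ₗ[k] A ⧸ LinearMap.range D := Submodule.mkQ _ ∘ₗ Z.subtype
  have hg : LinearMap.ker g ≤ LinearMap.ker c := fun x hx =>
    LinearMap.mem_ker.2 (hc x ((Submodule.Quotient.mk_eq_zero _).1 hx))
  let c₀ : LinearMap.range g →ₗ[k] H := (LinearMap.ker g).liftQ c hg ∘ₗ g.quotKerEquivRange.symm.toLinearMap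
  obtain ⟨c₁, hc₁⟩ := LinearMap.exists_extend c₀
  refine ⟨c₁ ∘ₗ Submodule.mkQ _, fun x => ?_, fun a => ?_⟩
  · show c₁ (g x) = c x
    have h := LinearMap.congr_fun hc₁ (g.quotKerEquivRange (Submodule.Quotient.mk x))
    refine Eq.trans (show c₁ (g x) = c₁ (g.quotKerEquivRange (Submodule.Quotient.mk x)).1 from rfl)
      (h.trans ?_)
    simp [c₀]
  · show c₁ (Submodule.Quotient.mk (D a)) = 0
    rw [(Submodule.Quotient.mk_eq_zero (LinearMap.range D)).2 ⟨a, rfl⟩, map_zero]

end

variable {k : Type u} [Field k] {R : Type u} [CommRing R] [Algebra k R] {𝒜 : ℤ → Submodule k R} [GradedAlgebra 𝒜]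
variable {S : Type u} [CommRing S] [Algebra k S] {ℬ : ℤ → Submodule k S} [GradedAlgebra ℬ]
variable {T : Type u} [CommRing T] [Algebra k T] {𝒯 : ℤ → Submodule k T} [GradedAlgebra 𝒯]
variable {ψ : T →ₐ[k] R ⊗[k] S}
variable {A : GrLC.GMod.{u} 𝒜} [Module k A.carrier] [IsScalarTower k R A.carrier]
variable {B : GrLC.GMod.{u} ℬ} [Module k B.carrier] [IsScalarTower k S B.carrier]

/-- A component of the Künneth map. -/
theorem exists_component (hψ : ∀ n : ℤ, (𝒯 n).map ψ.toLinearMap = GrSeg.segrePiece k 𝒜 ℬ n)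
    {DA : Module.End R A.carrier} {pA : ℕ → Module.End R A.carrier} {DB : Module.End S B.carrier}
    {pB : ℕ → Module.End S B.carrier} {N : ℕ}
    (CA : Cx N (DA.restrictScalars k) fun i => (pA i).restrictScalars k)
    (CB : Cx N (DB.restrictScalars k) fun i => (pB i).restrictScalars k)
    (hDA : GrLC.IsGrHom A.gr A.gr DA) (hpA : ∀ i, GrLC.IsGrHom A.gr A.gr (pA i))
    (hDB : GrLC.IsGrHom B.gr B.gr DB) (hpB : ∀ i, GrLC.IsGrHom B.gr B.gr (pB i))
    {G : GrLC.GMod.{u} 𝒯} {φG : G.carrier →+ A.carrier ⊗[k] B.carrier} (hG : IsSeg ψ A.gr B.gr G.gr φG)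
    {DG : G.carrier →ₗ[T] G.carrier} {πG : ℕ → G.carrier →ₗ[T] G.carrier}
    (hDG : GrLC.IsGrHom G.gr G.gr DG)
    (hφD : ∀ x, φG (DG x) = totD N (DA.restrictScalars k) (fun i => (pA i).restrictScalars k)
      (DB.restrictScalars k) (φG x))
    (hφπ : ∀ l x, φG (πG l x) = totP (fun i => (pA i).restrictScalars k) (fun i => (pB i).restrictScalars k) l (φG x))
    {i j l : ℕ} (hl : l = i + j)
    {H : Type u} [AddCommGroup H] [Module R H] [Module k H] [IsScalarTower k R H] {ℋ : ℤ → AddSubgroup H}
    (cA : ↥(LinearMap.ker DA ⊓ LinearMap.range (pA i)) →ₗ[R] H)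
    (hA1 : ∀ d, ∀ x : ↥(LinearMap.ker DA ⊓ LinearMap.range (pA i)), x.1 ∈ A.gr d → cA x ∈ ℋ d)
    (hA2 : ∀ d, ∀ w ∈ ℋ d, ∃ x : ↥(LinearMap.ker DA ⊓ LinearMap.range (pA i)), x.1 ∈ A.gr d ∧ cA x = w)
    (hA4 : Function.Surjective cA)
    (hA3 : ∀ x, cA x = 0 ↔ x.1 ∈ LinearMap.range DA)
    {H' : Type u} [AddCommGroup H'] [Module S H'] [Module k H'] [IsScalarTower k S H'] {ℋ' : ℤ → AddSubgroup H'}
    (cB : ↥(LinearMap.ker DB ⊓ LinearMap.range (pB j)) →ₗ[S] H')
    (hB1 : ∀ d, ∀ x : ↥(LinearMap.ker DB ⊓ LinearMap.range (pB j)), x.1 ∈ B.gr d → cB x ∈ ℋ' d)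
    (hB2 : ∀ d, ∀ w ∈ ℋ' d, ∃ x : ↥(LinearMap.ker DB ⊓ LinearMap.range (pB j)), x.1 ∈ B.gr d ∧ cB x = w)
    (hB4 : Function.Surjective cB)
    (hB3 : ∀ x, cB x = 0 ↔ x.1 ∈ LinearMap.range DB)
    {X : Type u} [AddCommGroup X] [Module T X] {𝒳 : ℤ → AddSubgroup X}
    (f : ↥(LinearMap.ker DG ⊓ LinearMap.range (πG l)) →ₗ[T] X)
    (hf1 : ∀ d, ∀ x : ↥(LinearMap.ker DG ⊓ LinearMap.range (πG l)), x.1 ∈ G.gr d → f x ∈ 𝒳 d)
    (hf3 : ∀ x, f x = 0 ↔ x.1 ∈ LinearMap.range DG)
    {W : Type u} [AddCommGroup W] [Module T W] {𝒲 : ℤ → AddSubgroup W} [DirectSum.Decomposition 𝒲]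
    {φW : W →+ H ⊗[k] H'} (hW : IsSeg ψ ℋ ℋ' 𝒲 φW) :
    ∃ Φ : W →ₗ[T] X, GrLC.IsGrHom 𝒲 𝒳 Φ ∧ Function.Injective Φ := by
  let ZA := LinearMap.ker DA ⊓ LinearMap.range (pA i)
  let ZB := LinearMap.ker DB ⊓ LinearMap.range (pB j)
  have hZA : ZA.IsHomogeneous A.gr := isHomogeneous_inf (isHomogeneous_ker hDA) (isHomogeneous_range (hpA i))
  have hZB : ZB.IsHomogeneous B.gr := isHomogeneous_inf (isHomogeneous_ker hDB) (isHomogeneous_range (hpB j))
  letI := subDecomp A.gr ZA hZA
  haveI := subGSMul 𝒜 A.gr ZA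
  letI := subDecomp B.gr ZB hZB
  haveI := subGSMul ℬ B.gr ZB
  obtain ⟨GZ, φZ, hZ⟩ := exists_seg (M := ZA) (N := ZB) 𝒯 (subGr A.gr ZA) (subGr B.gr ZB) hψ
  obtain ⟨inc, hinc, hφi⟩ := exists_lift hZ hG (segHom_map₀ (k := k) (f := ZA.subtype) (g := ZB.subtype)
    (fun _ _ hx => hx) (fun _ _ hx => hx))
  obtain ⟨q, hq, hφq⟩ := exists_lift hZ hW (segHom_map₀ (k := k) (f := cA) (g := cB) hA1 hB1)
  -- the image consists of cocycles
  let iAB := TensorProduct.map (ZA.subtype.restrictScalars k) (ZB.subtype.restrictScalars k)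
  have hfixA : ∀ (a : ZA) (i' : ℕ), pA i' a.1 = if i' = i then a.1 else 0 := by
    rintro ⟨_, -, w, rfl⟩ i'
    split_ifs with h
    · subst h; exact LinearMap.congr_fun (CA.idem i') w
    · exact LinearMap.congr_fun (CA.orth i' i h) w
  have hfixB : ∀ b : ZB, pB j b.1 = b.1 := by
    rintro ⟨_, -, w, rfl⟩
    exact LinearMap.congr_fun (CB.idem j) w
  have hsgn : ∀ a : ZA, Cx.sign N (fun i => (pA i).restrictScalars k) a.1 = (-1 : ℤ) ^ i • a.1 := by
    intro a
    have h := LinearMap.congr_fun (CA.sign_p i) a.1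
    rw [Module.End.mul_apply, LinearMap.smul_apply, LinearMap.coe_restrictScalars, hfixA, if_pos rfl] at h
    exact h
  have hcyc : ∀ v : ZA ⊗[k] ZB,
      totD N (DA.restrictScalars k) (fun i => (pA i).restrictScalars k) (DB.restrictScalars k) (iAB v) = 0 ∧
      totP (fun i => (pA i).restrictScalars k) (fun i => (pB i).restrictScalars k) l (iAB v) = iAB v := by
    intro v
    induction v with
    | zero => simp
    | add p q hp hq => simp only [map_add, hp.1, hp.2, hq.1, hq.2, add_zero, and_self]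
    | tmul a b =>
      refine ⟨?_, ?_⟩
      · simp only [iAB, totD, LinearMap.add_apply, TensorProduct.map_tmul, LinearMap.coe_restrictScalars,
          Submodule.coe_subtype, LinearMap.mem_ker.1 a.2.1, LinearMap.mem_ker.1 b.2.1,
          TensorProduct.zero_tmul, TensorProduct.tmul_zero, add_zero]
      · simp only [iAB, totP, LinearMap.sum_apply, TensorProduct.map_tmul, LinearMap.coe_restrictScalars,
          Submodule.coe_subtype, hfixA]
        rw [Finset.sum_eq_single i (fun i' _ h => by rw [if_neg h, TensorProduct.zero_tmul])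
          (fun h => absurd (Finset.mem_range.2 (by omega)) h), if_pos rfl, show l - i = j by omega, hfixB]
  have hinc' : ∀ x, inc x ∈ LinearMap.ker DG ⊓ LinearMap.range (πG l) := fun x =>
    ⟨LinearMap.mem_ker.2 (hG.injective (by rw [hφD, hφi, map_zero]; exact (hcyc _).1)),
      inc x, hG.injective (by rw [hφπ, hφi]; exact (hcyc _).2)⟩
  let g : GZ.carrier →ₗ[T] X := f ∘ₗ inc.codRestrict _ hinc'
  -- the two kernels agree
  have hker : LinearMap.ker q = LinearMap.ker g := by
    refine le_antisymm (le_of_hom (ℳ := GZ.gr) (isHomogeneous_ker (fun d x hx => add_zero d ▸ hq d x hx)) ?_) ?_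
    · intro d x hx hxq
      rw [LinearMap.mem_ker] at hxq ⊢
      show f _ = 0
      rw [hf3]
      -- write it as a boundary
      have h0 : TensorProduct.map (cA.restrictScalars k) (cB.restrictScalars k) (φZ x) = 0 := by
        rw [← hφq, hxq, map_zero]
      rw [← LinearMap.mem_ker, TensorProduct.map_ker
        (LinearMap.exact_subtype_ker_map (cA.restrictScalars k)) (show Function.Surjective (cA.restrictScalars k) from hA4)
        (LinearMap.exact_subtype_ker_map (cB.restrictScalars k)) (show Function.Surjective (cB.restrictScalars k) from hB4)] at h0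
      have hb : ∀ v, v ∈ LinearMap.range (LinearMap.lTensor ZA (LinearMap.ker (cB.restrictScalars k)).subtype) ⊔
          LinearMap.range (LinearMap.rTensor ZB (LinearMap.ker (cA.restrictScalars k)).subtype) →
          iAB v ∈ LinearMap.range (totD N (DA.restrictScalars k) (fun i => (pA i).restrictScalars k)
            (DB.restrictScalars k)) := by
        intro v hv
        refine (sup_le ?_ ?_ : LinearMap.range (LinearMap.lTensor ZA (LinearMap.ker (cB.restrictScalars k)).subtype) ⊔
          LinearMap.range (LinearMap.rTensor ZB (LinearMap.ker (cA.restrictScalars k)).subtype) ≤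
            Submodule.comap iAB (LinearMap.range (totD N (DA.restrictScalars k)
              (fun i => (pA i).restrictScalars k) (DB.restrictScalars k)))) hv
        · rintro _ ⟨w, rfl⟩
          rw [Submodule.mem_comap]
          induction w with
          | zero => rw [map_zero, map_zero]; exact zero_mem _
          | add p q hp hq => rw [map_add, map_add]; exact add_mem hp hq
          | tmul a b =>
            obtain ⟨u, hu⟩ := (hB3 b.1).1 b.2
            refine ⟨(-1 : ℤ) ^ i • (a.1 ⊗ₜ[k] u), ?_⟩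
            rw [map_zsmul]
            simp only [iAB, totD, LinearMap.add_apply, LinearMap.lTensor_tmul, TensorProduct.map_tmul,
              LinearMap.coe_restrictScalars, Submodule.coe_subtype, LinearMap.mem_ker.1 a.2.1,
              TensorProduct.zero_tmul, zero_add, hsgn, hu]
            rw [TensorProduct.smul_tmul', smul_smul, ← mul_pow]
            simp
        · rintro _ ⟨w, rfl⟩
          rw [Submodule.mem_comap]
          induction w with
          | zero => rw [map_zero, map_zero]; exact zero_mem _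
          | add p q hp hq => rw [map_add, map_add]; exact add_mem hp hq
          | tmul a b =>
            obtain ⟨u, hu⟩ := (hA3 a.1).1 a.2
            refine ⟨u ⊗ₜ[k] b.1, ?_⟩
            simp only [iAB, totD, LinearMap.add_apply, LinearMap.rTensor_tmul, TensorProduct.map_tmul,
              LinearMap.coe_restrictScalars, Submodule.coe_subtype, LinearMap.mem_ker.1 b.2.1,
              TensorProduct.tmul_zero, add_zero, hu, Module.End.one_apply]
      obtain ⟨y, hy⟩ := hb _ h0
      -- take the component of degree `d`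
      let Pd := TensorProduct.map (projK 𝒜 A.gr d) (projK ℬ B.gr d)
      have hPD : ∀ v, Pd (totD N (DA.restrictScalars k) (fun i => (pA i).restrictScalars k)
            (DB.restrictScalars k) v) = totD N (DA.restrictScalars k) (fun i => (pA i).restrictScalars k)
            (DB.restrictScalars k) (Pd v) := by
        intro v
        induction v with
        | zero => simp
        | add p q hp hq => simp only [map_add, hp, hq]
        | tmul a b =>
          have hs : proj A.gr d (Cx.sign N (fun i => (pA i).restrictScalars k) a) =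
              Cx.sign N (fun i => (pA i).restrictScalars k) (proj A.gr d a) := by
            simp only [Cx.sign, LinearMap.sum_apply, LinearMap.smul_apply, LinearMap.coe_restrictScalars,
              map_sum, map_zsmul, map_proj (hpA _)]
          simp only [Pd, totD, LinearMap.add_apply, map_add, TensorProduct.map_tmul]
          exact congrArg₂ (· + ·) (congrArg (· ⊗ₜ[k] _) (map_proj hDA d a).symm)
            (congrArg₂ (fun p q => p ⊗ₜ[k] q) hs (map_proj hDB d b).symm)
      have hPall : ∀ v, Pd v ∈ GrSeg.segrePiece k A.gr B.gr d := by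
        intro v
        induction v with
        | zero => rw [map_zero]; exact zero_mem _
        | add p q hp hq => rw [map_add]; exact add_mem hp hq
        | tmul a b => exact Submodule.subset_span ⟨_, proj_mem A.gr d a, _, proj_mem B.gr d b, rfl⟩
      have hPm := hPall y
      obtain ⟨z, -, hz⟩ := (hG.image_piece d).ge hPm
      refine ⟨z, hG.injective ?_⟩
      rw [hφD, hz, ← hPD, hy]
      show _ = φG (inc x)
      rw [hφi]
      refine LinearMap.eqOn_span (g := LinearMap.id) ?_
        ((hG.image_piece d).le ⟨inc x, add_zero d ▸ hinc d x hx, hφi x⟩)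
      rintro _ ⟨a, ha, b, hb, rfl⟩
      exact congrArg₂ (fun p q => p ⊗ₜ[k] q) (proj_of_mem A.gr ha) (proj_of_mem B.gr hb)
    · intro x hx
      rw [LinearMap.mem_ker] at hx ⊢
      obtain ⟨y, hy⟩ := (hf3 _).1 hx
      obtain ⟨cA', hcA, hcA0⟩ := exists_extend (Z := ZA.restrictScalars k) (D := DA.restrictScalars k)
        (c := cA.restrictScalars k) (fun a ha => (hA3 a).2 ha)
      obtain ⟨cB', hcB, hcB0⟩ := exists_extend (Z := ZB.restrictScalars k) (D := DB.restrictScalars k)
        (c := cB.restrictScalars k) (fun b hb => (hB3 b).2 hb)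
      refine hW.injective ?_
      rw [map_zero, hφq]
      have h1 : ∀ v : ZA ⊗[k] ZB, TensorProduct.map (cA.restrictScalars k) (cB.restrictScalars k) v =
          TensorProduct.map cA' cB' (iAB v) := by
        intro v
        induction v with
        | zero => simp
        | add p q hp hq => simp only [map_add, hp, hq]
        | tmul a b => exact congrArg₂ (fun p q => p ⊗ₜ[k] q) (hcA a).symm (hcB b).symm
      have h2 : ∀ v, TensorProduct.map cA' cB' (totD N (DA.restrictScalars k)
          (fun i => (pA i).restrictScalars k) (DB.restrictScalars k) v) = 0 := by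
        intro v
        induction v with
        | zero => simp
        | add p q hp hq => rw [map_add, map_add, hp, hq, add_zero]
        | tmul a b =>
          simp only [totD, LinearMap.add_apply, map_add, TensorProduct.map_tmul, hcA0, hcB0,
            TensorProduct.zero_tmul, TensorProduct.tmul_zero, add_zero]
      rw [h1, ← hφi, show inc x = DG y from hy.symm, hφD, h2]
  have hqs : ∀ d, ∀ w ∈ 𝒲 d, ∃ x ∈ GZ.gr d, q x = w := by
    intro d w hw
    suffices h : ∀ v ∈ GrSeg.segrePiece k ℋ ℋ' d, ∃ x ∈ GZ.gr d, φW (q x) = v by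
      obtain ⟨x, hx, hxw⟩ := h _ ((hW.image_piece d).le ⟨w, hw, rfl⟩)
      exact ⟨x, hx, hW.injective hxw⟩
    intro v hv
    have : v ∈ (GrSeg.segrePiece k (subGr A.gr ZA) (subGr B.gr ZB) d).map
        (TensorProduct.map (cA.restrictScalars k) (cB.restrictScalars k)) := by
      rw [GrSeg.segrePiece, Submodule.map_span]
      refine Submodule.span_mono ?_ hv
      rintro _ ⟨a, ha, b, hb, rfl⟩
      obtain ⟨a', ha', rfl⟩ := hA2 d a ha
      obtain ⟨b', hb', rfl⟩ := hB2 d b hb
      exact ⟨a' ⊗ₜ[k] b', ⟨a', ha', b', hb', rfl⟩, rfl⟩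
    obtain ⟨u, hu, rfl⟩ := this
    obtain ⟨x, hx, rfl⟩ := (hZ.image_piece d).ge hu
    exact ⟨x, hx, hφq x⟩
  have hsur : Function.Surjective q := fun w => by
    induction w using induction_hom 𝒲 with
    | zero => exact ⟨0, map_zero q⟩
    | add a b ha hb =>
      obtain ⟨u, rfl⟩ := ha
      obtain ⟨v, rfl⟩ := hb
      exact ⟨u + v, map_add q u v⟩
    | hom d w hw =>
      obtain ⟨x, -, hx⟩ := hqs d w hw
      exact ⟨x, hx⟩
  let e := q.quotKerEquivOfSurjective hsur
  let Φ : W →ₗ[T] X := (LinearMap.ker q).liftQ g hker.le ∘ₗ e.symm.toLinearMap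
  have hΦ : ∀ x, Φ (q x) = g x := fun x => by
    show (LinearMap.ker q).liftQ g hker.le (e.symm (q x)) = g x
    rw [show e.symm (q x) = Submodule.Quotient.mk x from e.symm_apply_eq.2 rfl, Submodule.liftQ_apply]
  refine ⟨Φ, fun d w hw => ?_, (injective_iff_map_eq_zero Φ).2 fun w hw => ?_⟩
  · obtain ⟨x, hx, rfl⟩ := hqs d w hw
    rw [hΦ]
    exact hf1 d _ (add_zero d ▸ hinc d x hx)
  · obtain ⟨x, rfl⟩ := hsur w
    rw [hΦ, ← LinearMap.mem_ker, ← hker, LinearMap.mem_ker] at hw
    exact hw

end Groth.Agent.Lib.Graded.Seg
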