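import Groth.Agent.Lib.Graded.Seg.Canonical

/-!
# The envelope of the residue field of a graded algebra, and its linear forms
-/

universe u

set_option maxHeartbeats 1600000
set_option linter.unusedSectionVars false

open DirectSum
open scoped TensorProduct

namespace Groth.Agent.Lib.Graded.Seg

open Groth.Agent.Lib.Graded.Basic Groth.Agent.Lib.Graded.StarInj

variable {k : Type u} [Field k] {R : Type u} [CommRing R] [Algebra k R] {𝒜 : ℤ → Submodule k R} [GradedAlgebra 𝒜]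
variable {m : HomogeneousIdeal 𝒜}
variable {E' : Type u} [AddCommGroup E'] [Module R E']
  {𝓔 : ℤ → AddSubgroup E'} [DirectSum.Decomposition 𝓔] [SetLike.GradedSMul 𝒜 𝓔]
variable {e : (R ⧸ m.toIdeal) →ₗ[R] E'}
variable {C : Type u} [AddCommGroup C] [Module R C] {𝒞 : ℤ → AddSubgroup C} [DirectSum.Decomposition 𝒞]
  [SetLike.GradedSMul 𝒜 𝒞]

/-- The same envelope for the pieces. -/
theorem hull_pieces (he : GrLC.IsStarInjHull 𝒜 (GrLC.quotGr 𝒜 m) 𝓔 e) :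
    GrLC.IsStarInjHull (SigmaChange.pieces 𝒜) (GrLC.quotGr (SigmaChange.pieces 𝒜) (SigmaChange.ideal m)) 𝓔
      (e : (R ⧸ (SigmaChange.ideal m).toIdeal) →ₗ[R] E') :=
  { toIsStarEss := ⟨he.injective, he.grHom, he.essential⟩
    starInj := SigmaChange.isStarInj he.starInj }

theorem hpos_pieces (hpos : ∀ n : ℤ, n < 0 → 𝒜 n = ⊥) (n : ℤ) (hn : n < 0) : SigmaChange.pieces 𝒜 n = ⊥ :=
  (AddSubgroup.eq_bot_iff_forall _).2 fun x hx => (Submodule.eq_bot_iff _).1 (hpos n hn) x hx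

variable [Nontrivial R] (hpos : ∀ n : ℤ, n < 0 → 𝒜 n = ⊥) (h0 : 𝒜 0 = Submodule.span k {(1 : R)})
  (hm : m.toIdeal = Ideal.span (⋃ n ∈ Set.Ioi (0 : ℤ), (𝒜 n : Set R)))
  (he : GrLC.IsStarInjHull 𝒜 (GrLC.quotGr 𝒜 m) 𝓔 e)

include hpos h0 hm he

theorem hull_u1_mem : Dual0.u1 (m := SigmaChange.ideal m) e ∈ 𝓔 0 :=
  Dual0.u1_mem (hull_pieces he).toIsStarEss

theorem hull_u1_ne_zero : Dual0.u1 (m := SigmaChange.ideal m) e ≠ 0 :=
  Dual0.u1_ne_zero (hpos_pieces hpos) (isField_deg0 h0) hm (hull_pieces he).toIsStarEss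

/-- The degree zero part of the envelope is the line through the socle generator. -/
theorem eq_smul_hull_u1 [Module k E'] [IsScalarTower k R E'] {x : E'} (hx : x ∈ 𝓔 0) : ∃ c : k, x = c • Dual0.u1 (m := SigmaChange.ideal m) e := by
  obtain ⟨c, hc⟩ := Dual0.eq_smul_u1 (hpos_pieces hpos) (isField_deg0 h0) hm (hull_pieces he).toIsStarEss hx
  obtain ⟨c', hc'⟩ := (deg0Hom_bijective 𝒜 h0).2 ⟨c.1, c.2⟩
  refine ⟨c', hc.trans ?_⟩
  rw [← algebraMap_smul R c', show algebraMap k R c' = c.1 from congrArg Subtype.val hc']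
  rfl

/-- A map into the envelope is determined by its form on one piece. -/
theorem homDeg_eq_zero {f : C →ₗ[R] E'} {d : ℤ} (hf : GrLC.IsGrHomDeg 𝒞 𝓔 f d)
    (hz : ∀ x ∈ 𝒞 (-d), f x = 0) : f = 0 := by
  haveI : SetLike.GradedSMul (SigmaChange.pieces 𝒜) 𝒞 := ⟨fun {_ _ _ _} hr hx =>
    SetLike.GradedSMul.smul_mem (A := 𝒜) (B := 𝒞) hr hx⟩
  have h := Dual0.form_injective (𝒜 := SigmaChange.pieces 𝒜) (𝒞 := 𝒞) (hpos_pieces hpos) (isField_deg0 h0) hm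
    (hull_pieces he).toIsStarEss d (a₁ := ⟨f, hf⟩) (a₂ := 0) (by
      rw [map_zero]
      refine LinearMap.ext fun x => ?_
      show (Dual0.line (hpos_pieces hpos) (isField_deg0 h0) hm (hull_pieces he).toIsStarEss).symm ⟨f x, _⟩ = 0
      rw [LinearEquiv.map_eq_zero_iff]
      exact Subtype.ext (hz x.1 x.2))
  exact congrArg Subtype.val h

/-- Maps into the envelope separate homogeneous elements. -/
theorem exists_hom_ne_zero {g : ℤ} {x : C} (hx : x ∈ 𝒞 g) (hx0 : x ≠ 0) :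
    ∃ f : C →ₗ[R] E', GrLC.IsGrHomDeg 𝒞 𝓔 f (-g) ∧ f x ≠ 0 := by
  haveI : SetLike.GradedSMul (SigmaChange.pieces 𝒜) 𝒞 := ⟨fun {_ _ _ _} hr hx =>
    SetLike.GradedSMul.smul_mem (A := 𝒜) (B := 𝒞) hr hx⟩
  have hF : IsField (GrLC.deg0 (SigmaChange.pieces 𝒜)) := isField_deg0 h0
  letI := hF.toField
  let xx : GrLC.comp (SigmaChange.pieces 𝒜) 𝒞 (- -g) := ⟨x, show x ∈ 𝒞 (- -g) by rwa [neg_neg]⟩
  obtain ⟨l, hl⟩ : ∃ l : Module.Dual (GrLC.deg0 (SigmaChange.pieces 𝒜))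
      (GrLC.comp (SigmaChange.pieces 𝒜) 𝒞 (- -g)), l xx ≠ 0 := by
    by_contra hc
    simp only [not_exists, not_not] at hc
    exact hx0 (congrArg Subtype.val ((Module.forall_dual_apply_eq_zero_iff _ xx).1 hc))
  obtain ⟨f, hf⟩ := Dual0.form_surjective (hpos_pieces hpos) (isField_deg0 h0) hm (hull_pieces he) (-g) l
  refine ⟨f.1, f.2, fun hfx => hl ?_⟩
  rw [← LinearMap.congr_fun hf xx]
  show (Dual0.line (hpos_pieces hpos) (isField_deg0 h0) hm (hull_pieces he).toIsStarEss).symm ⟨f.1 x, _⟩ = 0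
  rw [LinearEquiv.map_eq_zero_iff]
  exact Subtype.ext hfx

omit hpos h0 hm he

/-- The inverse of the identification defining a canonical module respects degrees. -/
theorem exists_homDeg_preimage {n : ℕ} {I : GrLC.StarInjRes 𝒜 𝒜} {a : HomogeneousIdeal 𝒜}
    [Module.Finite R C] {φ : (C →ₗ[R] E') ≃ₗ[R] I.H a n}
    (hφ : ∀ d (f : C →ₗ[R] E'), GrLC.IsGrHomDeg 𝒞 𝓔 f d → φ f ∈ I.Hgr a n d) {d : ℤ} {u : I.H a n}
    (hu : u ∈ I.Hgr a n d) : GrLC.IsGrHomDeg 𝒞 𝓔 (φ.symm u) d := by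
  classical
  haveI : SetLike.GradedSMul (SigmaChange.pieces 𝒜) 𝒞 := ⟨fun {_ _ _ _} hr hx =>
    SetLike.GradedSMul.smul_mem (A := 𝒜) (B := 𝒞) hr hx⟩
  haveI : SetLike.GradedSMul (SigmaChange.pieces 𝒜) 𝓔 := ⟨fun {_ _ _ _} hr hx =>
    SetLike.GradedSMul.smul_mem (A := 𝒜) (B := 𝓔) hr hx⟩
  letI := Res.hgrDecomp I a n
  obtain ⟨f, rfl⟩ := φ.surjective u
  rw [LinearEquiv.symm_apply_apply]
  obtain ⟨D, c, hc, rfl⟩ := Dual0.exists_sum_components (𝒜 := SigmaChange.pieces 𝒜) (𝒞 := 𝒞) (𝓔 := 𝓔) f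
  have h2 : ∀ b, proj (I.Hgr a n) d (φ (c b)) = if d = b then φ (c b) else 0 := fun b => by
    split_ifs with hb
    · subst hb
      exact proj_of_mem (I.Hgr a n) (hφ d _ (hc d))
    · exact proj_of_mem_ne (I.Hgr a n) (hφ b _ (hc b)) (Ne.symm hb)
  have h1 := proj_of_mem (I.Hgr a n) hu
  rw [map_sum, map_sum, Finset.sum_congr rfl fun b _ => h2 b, Finset.sum_ite_eq] at h1
  have h3 : (∑ b ∈ D, c b) = if d ∈ D then c d else 0 := φ.injective (by
    rw [map_sum, ← h1]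
    split_ifs <;> simp)
  rw [h3]
  split_ifs
  · exact hc d
  · exact fun g x _ => zero_mem _

end Groth.Agent.Lib.Graded.Seg
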