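import Groth.Agent.Lib.Graded.Seg.TopIso
import Groth.Agent.Lib.Graded.Seg.HullK
import Mathlib.LinearAlgebra.Contraction

/-!
# The canonical module of a Segre product
-/

universe u

set_option maxHeartbeats 1600000
set_option linter.unusedSectionVars false

open DirectSum
open scoped TensorProduct

namespace Groth.Agent.Lib.Graded.Seg

open Groth.Agent.Lib.Graded.Basic Groth.Agent.Lib.Graded.StarInj

variable {k : Type u} [Field k] {R : Type u} [CommRing R] [Algebra k R] {𝒜 : ℤ → Submodule k R} [GradedAlgebra 𝒜]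
variable {S : Type u} [CommRing S] [Algebra k S] {ℬ : ℤ → Submodule k S} [GradedAlgebra ℬ]
variable {T : Type u} [CommRing T] [Algebra k T] {𝒯 : ℤ → Submodule k T} [GradedAlgebra 𝒯]
variable {ψ : T →ₐ[k] R ⊗[k] S}

section SmulHom

variable {M : Type u} [AddCommGroup M] [Module R M] [Module k M] [IsScalarTower k R M]
variable {N : Type u} [AddCommGroup N] [Module S N] [Module k N] [IsScalarTower k S N]
variable {ℳ : ℤ → AddSubgroup M} {𝒩 : ℤ → AddSubgroup N}
variable {M' N' : Type u} [AddCommGroup M'] [Module R M'] [Module k M'] [IsScalarTower k R M']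
variable [AddCommGroup N'] [Module S N'] [Module k N'] [IsScalarTower k S N']
variable {ℳ' : ℤ → AddSubgroup M'} {𝒩' : ℤ → AddSubgroup N'} {Φ : M ⊗[k] N →ₗ[k] M' ⊗[k] N'} {e : ℤ}

theorem SegHom.smul (h : SegHom R S ℳ 𝒩 ℳ' 𝒩' Φ e) (c : k) : SegHom R S ℳ 𝒩 ℳ' 𝒩' (c • Φ) e where
  comm z v := by rw [LinearMap.smul_apply, LinearMap.smul_apply, h.comm, map_smul]
  piece d v hv := Submodule.smul_mem _ c (h.piece d v hv)

end SmulHom

/-- The inverse of a canonical identification, over the field. -/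
noncomputable def symmK {C E' H : Type u} [AddCommGroup C] [Module R C] [Module k C] [IsScalarTower k R C]
    [AddCommGroup E'] [Module R E'] [Module k E'] [IsScalarTower k R E'] [AddCommGroup H] [Module R H]
    [Module k H] [IsScalarTower k R H] (φ : (C →ₗ[R] E') ≃ₗ[R] H) : H →ₗ[k] (C →ₗ[k] E') where
  toFun u := (φ.symm u).restrictScalars k
  map_add' u v := by rw [map_add]; rfl
  map_smul' c u := LinearMap.ext fun x => by
    rw [← algebraMap_smul R c u, map_smul, RingHom.id_apply]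
    exact algebraMap_smul R c (φ.symm u x)

variable {mR : HomogeneousIdeal 𝒜} {mS : HomogeneousIdeal ℬ} {mT : HomogeneousIdeal 𝒯}
variable {ER : Type u} [AddCommGroup ER] [Module R ER] {𝓔R : ℤ → AddSubgroup ER} [DirectSum.Decomposition 𝓔R]
  [SetLike.GradedSMul 𝒜 𝓔R] {eR : (R ⧸ mR.toIdeal) →ₗ[R] ER}
variable {CR : Type u} [AddCommGroup CR] [Module R CR] [Module k CR] [IsScalarTower k R CR]
  {𝒞R : ℤ → AddSubgroup CR} [DirectSum.Decomposition 𝒞R] [SetLike.GradedSMul 𝒜 𝒞R]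
variable {ES : Type u} [AddCommGroup ES] [Module S ES] {𝓔S : ℤ → AddSubgroup ES} [DirectSum.Decomposition 𝓔S]
  [SetLike.GradedSMul ℬ 𝓔S] {eS : (S ⧸ mS.toIdeal) →ₗ[S] ES}
variable {CS : Type u} [AddCommGroup CS] [Module S CS] [Module k CS] [IsScalarTower k S CS]
  {𝒞S : ℤ → AddSubgroup CS} [DirectSum.Decomposition 𝒞S] [SetLike.GradedSMul ℬ 𝒞S]
variable {ET : Type u} [AddCommGroup ET] [Module T ET] {𝓔T : ℤ → AddSubgroup ET} [DirectSum.Decomposition 𝓔T]
  [SetLike.GradedSMul 𝒯 𝓔T] {eT : (T ⧸ mT.toIdeal) →ₗ[T] ET}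
variable {P : Type u} [AddCommGroup P] [Module T P] {𝒬 : ℤ → AddSubgroup P} [DirectSum.Decomposition 𝒬]
  [SetLike.GradedSMul 𝒯 𝒬] {φ : P →+ CR ⊗[k] CS}

/-- The Segre product of canonical modules is a canonical module. -/
theorem isStarCanonical_seg [Algebra.FiniteType k R] [Algebra.FiniteType k S] [IsNoetherianRing R]
    [IsNoetherianRing S] [IsNoetherianRing T] [Nontrivial R] [Nontrivial S] [Nontrivial T] [Module.Finite T P]
    (hposR : ∀ n : ℤ, n < 0 → 𝒜 n = ⊥) (h0R : 𝒜 0 = Submodule.span k {(1 : R)})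
    (hposS : ∀ n : ℤ, n < 0 → ℬ n = ⊥) (h0S : ℬ 0 = Submodule.span k {(1 : S)})
    (hposT : ∀ n : ℤ, n < 0 → 𝒯 n = ⊥) (h0T : 𝒯 0 = Submodule.span k {(1 : T)})
    (hψi : Function.Injective ψ)
    (hψ : ∀ n : ℤ, (𝒯 n).map ψ.toLinearMap = GrSeg.segrePiece k 𝒜 ℬ n)
    (hmR : mR.toIdeal = Ideal.span (⋃ n ∈ Set.Ioi (0 : ℤ), (𝒜 n : Set R)))
    (hmS : mS.toIdeal = Ideal.span (⋃ n ∈ Set.Ioi (0 : ℤ), (ℬ n : Set S)))
    (hmT : mT.toIdeal = Ideal.span (⋃ n ∈ Set.Ioi (0 : ℤ), (𝒯 n : Set T)))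
    (I : GrLC.StarInjRes 𝒜 𝒜) (J : GrLC.StarInjRes ℬ ℬ) (IT : GrLC.StarInjRes 𝒯 𝒯)
    {r s : ℕ} (hr : ringKrullDim R = r) (hs : ringKrullDim S = s) (h2r : 2 ≤ r) (h2s : 2 ≤ s)
    (heR : GrLC.IsStarInjHull 𝒜 (GrLC.quotGr 𝒜 mR) 𝓔R eR) (hCR : GrLC.IsStarCanonical 𝒜 𝒞R 𝓔R mR r I)
    (heS : GrLC.IsStarInjHull ℬ (GrLC.quotGr ℬ mS) 𝓔S eS) (hCS : GrLC.IsStarCanonical ℬ 𝒞S 𝓔S mS s J)
    (heT : GrLC.IsStarInjHull 𝒯 (GrLC.quotGr 𝒯 mT) 𝓔T eT)
    (hP : IsSeg ψ 𝒞R 𝒞S 𝒬 φ) : GrLC.IsStarCanonical 𝒯 𝒬 𝓔T mT (r + s - 1) IT := by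
  classical
  haveI := hCR.1
  haveI := hCS.1
  obtain ⟨-, φR, hφR⟩ := id hCR
  obtain ⟨-, φS, hφS⟩ := id hCS
  letI : Module k ER := Module.compHom _ (algebraMap k R)
  haveI : IsScalarTower k R ER := IsScalarTower.of_algebraMap_smul fun _ _ => rfl
  letI : Module k ES := Module.compHom _ (algebraMap k S)
  haveI : IsScalarTower k S ES := IsScalarTower.of_algebraMap_smul fun _ _ => rfl
  letI : Module k (I.H mR r) := Module.compHom _ (algebraMap k R)
  haveI : IsScalarTower k R (I.H mR r) := IsScalarTower.of_algebraMap_smul fun _ _ => rfl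
  letI : Module k (J.H mS s) := Module.compHom _ (algebraMap k S)
  haveI : IsScalarTower k S (J.H mS s) := IsScalarTower.of_algebraMap_smul fun _ _ => rfl
  letI : Module k P := Module.compHom _ (algebraMap k T)
  haveI : IsScalarTower k T P := IsScalarTower.of_algebraMap_smul fun _ _ => rfl
  letI := Res.hgrDecomp I mR r
  haveI := Res.hgrGSMul I mR r
  letI := Res.hgrDecomp J mS s
  haveI := Res.hgrGSMul J mS s
  letI := Res.hgrDecomp IT mT (r + s - 1)
  haveI := Res.hgrGSMul IT mT (r + s - 1)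
  obtain ⟨W, φW, hW⟩ := exists_seg (M := I.H mR r) (N := J.H mS s) 𝒯 (I.Hgr mR r) (J.Hgr mS s) hψ
  obtain ⟨GE, φE, hGE⟩ := exists_seg (M := ER) (N := ES) 𝒯 𝓔R 𝓔S hψ
  letI : Module k W.carrier := Module.compHom _ (algebraMap k T)
  haveI : IsScalarTower k T W.carrier := IsScalarTower.of_algebraMap_smul fun _ _ => rfl
  letI : Module k ((asPieces I).H mR r) := (inferInstance : Module k (I.H mR r))
  haveI : IsScalarTower k R ((asPieces I).H mR r) := (inferInstance : IsScalarTower k R (I.H mR r))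
  letI : Module k ((asPieces J).H mS s) := (inferInstance : Module k (J.H mS s))
  haveI : IsScalarTower k S ((asPieces J).H mS s) := (inferInstance : IsScalarTower k S (J.H mS s))
  obtain ⟨Φ, hΦ⟩ := exists_top_iso (ℳ := SigmaChange.pieces 𝒜) (𝒩 := SigmaChange.pieces ℬ)
    (𝒬 := SigmaChange.pieces 𝒯) hposR h0R hposS h0S hposT h0T hψ hmR hmS hmT (asPieces I) (asPieces J)
    (isSeg_self hψi hψ) (asPieces IT) (by rw [Module.supportDim_self_eq_ringKrullDim, hr])
    (by rw [Module.supportDim_self_eq_ringKrullDim, hs]) h2r h2s (W := W.carrier) (𝒲 := W.gr) hW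
  -- the socle generator of the product
  let uR := Dual0.u1 (m := SigmaChange.ideal mR) eR
  let uS := Dual0.u1 (m := SigmaChange.ideal mS) eS
  have huR : uR ∈ 𝓔R 0 := hull_u1_mem hposR h0R hmR heR
  have huS : uS ∈ 𝓔S 0 := hull_u1_mem hposS h0S hmS heS
  obtain ⟨e0, he0, he0'⟩ := (hGE.image_piece 0).ge
    (show uR ⊗ₜ[k] uS ∈ GrSeg.segrePiece k 𝓔R 𝓔S 0 from Submodule.subset_span ⟨uR, huR, uS, huS, rfl⟩)
  have hu0 : uR ⊗ₜ[k] uS ≠ 0 := by
    intro h
    have hinj := tmap_injective (k := k) (f := LinearMap.toSpanSingleton k ER uR)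
      (g := LinearMap.toSpanSingleton k ES uS)
      (smul_left_injective k (hull_u1_ne_zero hposR h0R hmR heR))
      (smul_left_injective k (hull_u1_ne_zero hposS h0S hmS heS))
    have h2 : ((1 : k) ⊗ₜ[k] (1 : k)) = 0 := hinj (by
      rw [TensorProduct.map_tmul, map_zero, LinearMap.toSpanSingleton_apply_one,
        LinearMap.toSpanSingleton_apply_one, h])
    have h3 := congrArg (TensorProduct.lid k k) h2
    simp at h3
  obtain ⟨μ, hμ, hμ0⟩ := exists_hom_ne_zero (𝒞 := GE.gr) hposT h0T hmT heT he0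
    (fun h => hu0 (by rw [← he0', h, map_zero]))
  rw [neg_zero] at hμ
  -- the Hom tensor map
  let Φk : I.H mR r ⊗[k] J.H mS s →ₗ[k] (CR ⊗[k] CS →ₗ[k] ER ⊗[k] ES) :=
    TensorProduct.homTensorHomMap (.id k) CR CS ER ES ∘ₗ
      TensorProduct.map (symmK (k := k) φR) (symmK (k := k) φS)
  have hΦt : ∀ u v, Φk (u ⊗ₜ[k] v) =
      TensorProduct.map ((φR.symm u).restrictScalars k) ((φS.symm v).restrictScalars k) := fun u v => by
    simp [Φk, symmK]
  have hact : ∀ z v x, Φk (GrSeg.act k R S (I.H mR r) (J.H mS s) z v) x = GrSeg.act k R S ER ES z (Φk v x) := by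
    intro z v x
    induction z with
    | zero => simp
    | add a b ha hb => simp only [map_add, LinearMap.add_apply, ha, hb]
    | tmul a b =>
      induction v with
      | zero => simp
      | add p q hp hq => simp only [map_add, LinearMap.add_apply, hp, hq]
      | tmul u v =>
        rw [GrSeg.act_tmul, hΦt, hΦt]
        induction x with
        | zero => simp
        | add p q hp hq => simp only [map_add, hp, hq]
        | tmul c c' => simp [GrSeg.act_tmul]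
  have hseg : ∀ d, ∀ v ∈ GrSeg.segrePiece k (I.Hgr mR r) (J.Hgr mS s) d,
      SegHom R S 𝒞R 𝒞S 𝓔R 𝓔S (Φk v) d := by
    intro d v hv
    induction hv using Submodule.span_induction with
    | mem x hx =>
      obtain ⟨u, hu, w, hw, rfl⟩ := hx
      rw [hΦt]
      exact segHom_map (exists_homDeg_preimage (fun d f hf => hφR d f hf) hu)
        (exists_homDeg_preimage (fun d f hf => hφS d f hf) hw)
    | zero => rw [map_zero]; exact segHom_zero
    | add a b _ _ ha hb => rw [map_add]; exact ha.add hb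
    | smul c a _ ha => rw [map_smul]; exact ha.smul c
  have hex : ∀ w : W.carrier, ∃ F : P →ₗ[T] GE.carrier, ∀ p, φE (F p) = Φk (φW w) (φ p) := by
    intro w
    induction w using induction_hom W.gr with
    | zero => exact ⟨0, fun p => by simp⟩
    | add a b ha hb =>
      obtain ⟨F, hF⟩ := ha
      obtain ⟨F', hF'⟩ := hb
      exact ⟨F + F', fun p => by rw [LinearMap.add_apply, map_add, hF, hF', map_add, map_add]; rfl⟩
    | hom d w hw =>
      obtain ⟨F, -, hF⟩ := exists_lift hP hGE (hseg d _ ((hW.image_piece d).le ⟨w, hw, rfl⟩))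
      exact ⟨F, hF⟩
  choose F hF using hex
  let Ψ : W.carrier →ₗ[T] (P →ₗ[T] ET) := LinearMap.llcomp T P GE.carrier ET μ ∘ₗ
    { toFun := F
      map_add' := fun a b => LinearMap.ext fun p => hGE.injective (by
        rw [LinearMap.add_apply, map_add φE, hF, hF, hF, map_add φW, map_add Φk]; rfl)
      map_smul' := fun t a => LinearMap.ext fun p => hGE.injective (by
        rw [RingHom.id_apply, LinearMap.smul_apply, hGE.map_smul, hF, hF, hW.map_smul, hact]) }
  have hFdeg : ∀ d, ∀ w ∈ W.gr d, GrLC.IsGrHomDeg 𝒬 GE.gr (F w) d := fun d w hw => by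
    obtain ⟨F', hF'1, hF'2⟩ := exists_lift hP hGE (hseg d _ ((hW.image_piece d).le ⟨w, hw, rfl⟩))
    rw [show F w = F' from LinearMap.ext fun p => hGE.injective ((hF w p).trans (hF'2 p).symm)]
    exact hF'1
  have hΨdeg : ∀ d, ∀ w ∈ W.gr d, GrLC.IsGrHomDeg 𝒬 𝓔T (Ψ w) d := fun d w hw g x hx => by
    have h := hμ _ _ (hFdeg d w hw g x hx)
    rwa [add_zero] at h
  -- injectivity in each degree
  have hfinR : ∀ d, Module.Finite k (pieceK 𝒜 𝒞R d) := fun d => by
    haveI := Pieces.isNoetherian_comp 𝒜 𝒞R d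
    exact (finrank_pieceK (𝒜 := 𝒜) (ℳ := 𝒞R) h0R (GrLC.comp 𝒜 𝒞R d) fun x => Iff.rfl).2 inferInstance
  have hfinS : ∀ d, Module.Finite k (pieceK ℬ 𝒞S d) := fun d => by
    haveI := Pieces.isNoetherian_comp ℬ 𝒞S d
    exact (finrank_pieceK (𝒜 := ℬ) (ℳ := 𝒞S) h0S (GrLC.comp ℬ 𝒞S d) fun x => Iff.rfl).2 inferInstance
  have hΨinj : ∀ d, ∀ w ∈ W.gr d, (∀ p ∈ 𝒬 (-d), Ψ w p = 0) → w = 0 := by
    intro d w hw hz
    haveI := hfinR (-d)
    haveI := hfinS (-d)
    have h1 : ∀ x ∈ GrSeg.segrePiece k 𝒞R 𝒞S (-d), Φk (φW w) x = 0 := by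
      intro x hx
      obtain ⟨p, hp, rfl⟩ := (hP.image_piece (-d)).ge hx
      have hy := hFdeg d w hw (-d) p hp
      rw [neg_add_cancel] at hy
      rw [← hF]
      obtain ⟨c, hc⟩ : ∃ c : k, φE (F w p) = c • (uR ⊗ₜ[k] uS) := by
        have hmem := (hGE.image_piece 0).le ⟨F w p, hy, rfl⟩
        refine (Submodule.mem_span_singleton.1 ((Submodule.span_le.2 ?_ :
          GrSeg.segrePiece k 𝓔R 𝓔S 0 ≤ Submodule.span k {uR ⊗ₜ[k] uS}) hmem)).imp fun c h => h.symm
        rintro _ ⟨a, ha, b, hb, rfl⟩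
        obtain ⟨ca, rfl⟩ := eq_smul_hull_u1 hposR h0R hmR heR ha
        obtain ⟨cb, rfl⟩ := eq_smul_hull_u1 hposS h0S hmS heS hb
        refine Submodule.mem_span_singleton.2 ⟨ca * cb, ?_⟩
        rw [TensorProduct.smul_tmul', TensorProduct.tmul_smul, TensorProduct.smul_tmul', smul_smul, mul_comm]
      have hFe : F w p = algebraMap k T c • e0 := hGE.injective (by
        rw [hc, hGE.map_smul, he0', act_algebraMap])
      have h2 : μ (F w p) = 0 := hz p hp
      rw [hFe, map_smul] at h2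
      rcases eq_or_ne c 0 with rfl | hc0
      · rw [hc, zero_smul]
      · exact absurd (((IsUnit.map (algebraMap k T) (isUnit_iff_ne_zero.2 hc0)).smul_eq_zero).1 h2) hμ0
    -- nondegeneracy of the tensor pairing
    let ms := TensorProduct.map (pieceK 𝒜 (I.Hgr mR r) d).subtype (pieceK ℬ (J.Hgr mS s) d).subtype
    obtain ⟨v, hv⟩ : φW w ∈ LinearMap.range ms := by
      refine (Submodule.span_le.2 ?_ : GrSeg.segrePiece k (I.Hgr mR r) (J.Hgr mS s) d ≤ LinearMap.range ms)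
        ((hW.image_piece d).le ⟨w, hw, rfl⟩)
      rintro _ ⟨p, hp, q, hq, rfl⟩
      exact ⟨(⟨p, hp⟩ : pieceK 𝒜 (I.Hgr mR r) d) ⊗ₜ[k] (⟨q, hq⟩ : pieceK ℬ (J.Hgr mS s) d), rfl⟩
    let ρR : pieceK 𝒜 (I.Hgr mR r) d →ₗ[k] (pieceK 𝒜 𝒞R (-d) →ₗ[k] ER) :=
      LinearMap.lcomp k ER (pieceK 𝒜 𝒞R (-d)).subtype ∘ₗ symmK (k := k) φR ∘ₗ (pieceK 𝒜 (I.Hgr mR r) d).subtype
    let ρS : pieceK ℬ (J.Hgr mS s) d →ₗ[k] (pieceK ℬ 𝒞S (-d) →ₗ[k] ES) :=
      LinearMap.lcomp k ES (pieceK ℬ 𝒞S (-d)).subtype ∘ₗ symmK (k := k) φS ∘ₗ (pieceK ℬ (J.Hgr mS s) d).subtype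
    have hρR : Function.Injective ρR := (injective_iff_map_eq_zero _).2 fun u hu => Subtype.ext (by
      have h := homDeg_eq_zero hposR h0R hmR heR (exists_homDeg_preimage (fun d f hf => hφR d f hf) u.2)
        fun x hx => LinearMap.congr_fun hu ⟨x, hx⟩
      simpa using congrArg φR h)
    have hρS : Function.Injective ρS := (injective_iff_map_eq_zero _).2 fun u hu => Subtype.ext (by
      have h := homDeg_eq_zero hposS h0S hmS heS (exists_homDeg_preimage (fun d f hf => hφS d f hf) u.2)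
        fun x hx => LinearMap.congr_fun hu ⟨x, hx⟩
      simpa using congrArg φS h)
    let Ξ : pieceK 𝒜 (I.Hgr mR r) d ⊗[k] pieceK ℬ (J.Hgr mS s) d →ₗ[k]
        (pieceK 𝒜 𝒞R (-d) ⊗[k] pieceK ℬ 𝒞S (-d) →ₗ[k] ER ⊗[k] ES) :=
      (homTensorHomEquiv k _ _ ER ES).toLinearMap ∘ₗ TensorProduct.map ρR ρS
    have hΞinj : Function.Injective Ξ := (homTensorHomEquiv k _ _ ER ES).injective.comp (tmap_injective hρR hρS)
    have hΞ : ∀ z x, Ξ z x = Φk (ms z)
        (TensorProduct.map (pieceK 𝒜 𝒞R (-d)).subtype (pieceK ℬ 𝒞S (-d)).subtype x) := by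
      intro z x
      induction z with
      | zero => simp
      | add p q hp hq => simp only [map_add, LinearMap.add_apply, hp, hq]
      | tmul u v =>
        simp only [Ξ, LinearMap.comp_apply, TensorProduct.map_tmul, LinearEquiv.coe_coe,
          homTensorHomEquiv_apply, TensorProduct.homTensorHomMap_apply, ms, hΦt, Submodule.coe_subtype]
        induction x with
        | zero => simp
        | add p q hp hq => simp only [map_add, hp, hq]
        | tmul c c' => rfl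
    have hv0 : v = 0 := hΞinj (by
      rw [map_zero]
      refine LinearMap.ext fun x => ?_
      rw [LinearMap.zero_apply, hΞ, hv]
      refine h1 _ ?_
      induction x with
      | zero => rw [map_zero]; exact zero_mem _
      | add p q hp hq => rw [map_add]; exact add_mem hp hq
      | tmul p q => exact Submodule.subset_span ⟨p.1, p.2, q.1, q.2, rfl⟩)
    exact hW.injective (by rw [← hv, hv0, map_zero, map_zero])
  -- dimensions
  have hposR' : ∀ n : ℤ, n < 0 → ∀ c ∈ 𝒜 n, c = 0 := fun n hn c hc => by rwa [hposR n hn, Submodule.mem_bot] at hc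
  have hdimP : ∀ d, Module.Finite k (pieceK 𝒯 W.gr d) ∧ Module.Finite k (pieceK 𝒯 𝒬 (-d)) ∧
      Module.finrank k (pieceK 𝒯 W.gr d) = Module.finrank k (pieceK 𝒯 𝒬 (-d)) := fun d => by
    haveI := hfinR (-d)
    haveI := hfinS (-d)
    obtain ⟨a1, a2⟩ := finrank_pieceK (𝒜 := 𝒜) (ℳ := I.Hgr mR r) h0R (I.Hcomp mR r d) fun x => Iff.rfl
    obtain ⟨b1, b2⟩ := finrank_pieceK (𝒜 := ℬ) (ℳ := J.Hgr mS s) h0S (J.Hcomp mS s d) fun x => Iff.rfl
    haveI := a2 (FinitenessApp.finite_Hcomp hposR' (hmR.trans span_pos_eq)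
      (GrLC.GMod.of 𝒜 R (SigmaChange.pieces 𝒜)) (inferInstanceAs (Module.Finite R R)) (asPieces I) r d)
    haveI := b2 (FinitenessApp.finite_Hcomp
      (fun n hn c hc => by rwa [hposS n hn, Submodule.mem_bot] at hc) (hmS.trans span_pos_eq)
      (GrLC.GMod.of ℬ S (SigmaChange.pieces ℬ)) (inferInstanceAs (Module.Finite S S)) (asPieces J) s d)
    obtain ⟨hf, hd⟩ := finrank_seg_piece (𝒜 := 𝒜) (ℬ := ℬ) (𝒯 := 𝒯) hW d
    obtain ⟨hf', hd'⟩ := finrank_seg_piece (𝒜 := 𝒜) (ℬ := ℬ) (𝒯 := 𝒯) hP (-d)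
    refine ⟨hf, hf', ?_⟩
    rw [hd, hd', a1, b1, (finrank_pieceK (𝒜 := 𝒜) (ℳ := 𝒞R) h0R (GrLC.comp 𝒜 𝒞R (-d)) fun x => Iff.rfl).1,
      (finrank_pieceK (𝒜 := ℬ) (ℳ := 𝒞S) h0S (GrLC.comp ℬ 𝒞S (-d)) fun x => Iff.rfl).1,
      ← finrank_canonical hposR h0R hmR heR hCR (-d), ← finrank_canonical hposS h0S hmS heS hCS (-d), neg_neg]
  letI : Module k ET := Module.compHom _ (algebraMap k T)
  haveI : IsScalarTower k T ET := IsScalarTower.of_algebraMap_smul fun _ _ => rfl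
  let uT := Dual0.u1 (m := SigmaChange.ideal mT) eT
  have hsur : ∀ d, ∀ f : P →ₗ[T] ET, GrLC.IsGrHomDeg 𝒬 𝓔T f d → ∃ w ∈ W.gr d, Ψ w = f := by
    intro d f hf
    obtain ⟨hfW, hfP, hd⟩ := hdimP d
    haveI := hfW
    haveI := hfP
    let ιT := LinearMap.toSpanSingleton k ET uT
    have hι : Function.Injective ιT := smul_left_injective k (hull_u1_ne_zero hposT h0T hmT heT)
    have hrange : ∀ g : P →ₗ[T] ET, GrLC.IsGrHomDeg 𝒬 𝓔T g d →
        ∀ p : pieceK 𝒯 𝒬 (-d), g p.1 ∈ LinearMap.range ιT := fun g hg p => by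
      obtain ⟨c, hc⟩ := eq_smul_hull_u1 hposT h0T hmT heT (show g p.1 ∈ 𝓔T 0 by
        have h := hg (-d) p.1 p.2
        rwa [neg_add_cancel] at h)
      exact ⟨c, hc.symm⟩
    let form : ∀ g : P →ₗ[T] ET, GrLC.IsGrHomDeg 𝒬 𝓔T g d → (pieceK 𝒯 𝒬 (-d) →ₗ[k] k) := fun g hg =>
      (LinearEquiv.ofInjective ιT hι).symm.toLinearMap ∘ₗ
        ((g.restrictScalars k) ∘ₗ (pieceK 𝒯 𝒬 (-d)).subtype).codRestrict _ (hrange g hg)
    have hform : ∀ g hg p, ιT (form g hg p) = g p.1 := fun g hg p =>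
      congrArg Subtype.val ((LinearEquiv.ofInjective ιT hι).apply_symm_apply ⟨g p.1, hrange g hg p⟩)
    let L : pieceK 𝒯 W.gr d →ₗ[k] (pieceK 𝒯 𝒬 (-d) →ₗ[k] k) :=
      { toFun := fun w => form (Ψ w.1) (hΨdeg d _ w.2)
        map_add' := fun a b => LinearMap.ext fun p =>
          hι ((hform _ (hΨdeg d _ (a + b).2) p).trans ((LinearMap.congr_fun (map_add Ψ a.1 b.1) p.1).trans
            ((congrArg₂ (· + ·) (hform _ (hΨdeg d _ a.2) p).symm (hform _ (hΨdeg d _ b.2) p).symm).trans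
              (map_add ιT _ _).symm)))
        map_smul' := fun c a => LinearMap.ext fun p =>
          hι ((hform _ (hΨdeg d _ (c • a).2) p).trans
            ((LinearMap.congr_fun (Ψ.map_smul_of_tower c a.1) p.1).trans
              ((congrArg (c • ·) (hform _ (hΨdeg d _ a.2) p).symm).trans (map_smul ιT c _).symm))) }
    have hLinj : Function.Injective L := (injective_iff_map_eq_zero _).2 fun w hw =>
      Subtype.ext (hΨinj d w.1 w.2 fun p hp => by
        rw [← hform _ (hΨdeg d _ w.2) ⟨p, hp⟩, show form (Ψ w.1) (hΨdeg d _ w.2) = 0 from hw]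
        simp)
    obtain ⟨w, hw⟩ := (LinearMap.injective_iff_surjective_of_finrank_eq_finrank
      (hd.trans Subspace.dual_finrank_eq.symm)).1 hLinj (form f hf)
    refine ⟨w.1, w.2, sub_eq_zero.1 (homDeg_eq_zero hposT h0T hmT heT (d := d)
      (fun g x hx => sub_mem (hΨdeg d _ w.2 g x hx) (hf g x hx)) fun p hp => ?_)⟩
    rw [LinearMap.sub_apply, sub_eq_zero, ← hform _ (hΨdeg d _ w.2) ⟨p, hp⟩, ← hform f hf ⟨p, hp⟩]
    exact congrArg ιT (LinearMap.congr_fun hw ⟨p, hp⟩)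
  have hbij : Function.Bijective Ψ := by
    refine ⟨(injective_iff_map_eq_zero Ψ).2 fun w hw => eq_zero_of_proj W.gr fun d =>
      hΨinj d _ (proj_mem W.gr d w) fun p hp => ?_, fun f => ?_⟩
    · have h1 : ∀ g, ∀ x : W.carrier, x ∈ W.gr g → proj 𝓔T 0 (Ψ x p) = if g = d then Ψ x p else 0 := by
        intro g x hx
        split_ifs with hg
        · subst hg
          refine proj_of_mem 𝓔T ?_
          have h := hΨdeg g x hx (-g) p hp
          rwa [neg_add_cancel] at h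
        · exact proj_of_mem_ne 𝓔T (hΨdeg g x hx (-d) p hp) (by omega)
      have h2 : ∀ x : W.carrier, proj 𝓔T 0 (Ψ x p) = Ψ (proj W.gr d x) p := by
        intro x
        induction x using induction_hom W.gr with
        | zero => simp
        | add a b ha hb => simp only [map_add, LinearMap.add_apply, ha, hb]
        | hom g x hx =>
          rw [h1 g x hx]
          split_ifs with hg
          · subst hg; rw [proj_of_mem W.gr hx]
          · rw [proj_of_mem_ne W.gr hx hg, map_zero, LinearMap.zero_apply]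
      rw [← h2, hw, LinearMap.zero_apply, map_zero]
    · haveI : SetLike.GradedSMul (SigmaChange.pieces 𝒯) 𝒬 := ⟨fun {_ _ _ _} hr hx =>
        SetLike.GradedSMul.smul_mem (A := 𝒯) (B := 𝒬) hr hx⟩
      obtain ⟨D, c, hc, rfl⟩ :=
        Dual0.exists_sum_components (𝒜 := SigmaChange.pieces 𝒯) (𝒞 := 𝒬) (𝓔 := 𝓔T) f
      choose w hw using fun d => hsur d (c d) (hc d)
      exact ⟨∑ d ∈ D, w d, by rw [map_sum]; exact Finset.sum_congr rfl fun d _ => (hw d).2⟩
  refine ⟨inferInstance, (LinearEquiv.ofBijective Ψ hbij).symm.trans Φ, fun d f hf => ?_⟩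
  obtain ⟨w, hw, rfl⟩ := hsur d f hf
  show Φ ((LinearEquiv.ofBijective Ψ hbij).symm (Ψ w)) ∈ _
  rw [show (LinearEquiv.ofBijective Ψ hbij).symm (Ψ w) = w from (LinearEquiv.ofBijective Ψ hbij).symm_apply_apply w]
  exact hΦ d w hw

end Groth.Agent.Lib.Graded.Seg
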