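import Groth.Agent.Lib.Graded.Seg.TorsionFree
import Groth.Prelude.Def_GrSeg

/-!
# Segre products of graded modules and of maps between them
-/

universe u

set_option maxHeartbeats 800000
set_option linter.unusedSectionVars false

open DirectSum
open scoped TensorProduct

namespace Groth.Agent.Lib.Graded.Seg

open Groth.Agent.Lib.Graded.Basic Groth.Agent.Lib.Graded.StarInj

variable {k : Type u} [Field k] {R S T : Type u} [CommRing R] [Algebra k R] [CommRing S] [Algebra k S]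
  [CommRing T] [Algebra k T]
variable {𝒜 : ℤ → Submodule k R} [GradedAlgebra 𝒜] {ℬ : ℤ → Submodule k S} [GradedAlgebra ℬ]
variable {𝒯 : ℤ → Submodule k T} [GradedAlgebra 𝒯] {ψ : T →ₐ[k] R ⊗[k] S}
variable {M : Type u} [AddCommGroup M] [Module R M] [Module k M] [IsScalarTower k R M]
variable {N : Type u} [AddCommGroup N] [Module S N] [Module k N] [IsScalarTower k S N]
variable {ℳ : ℤ → AddSubgroup M} [DirectSum.Decomposition ℳ] [SetLike.GradedSMul 𝒜 ℳ]
variable {𝒩 : ℤ → AddSubgroup N} [DirectSum.Decomposition 𝒩] [SetLike.GradedSMul ℬ 𝒩]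

section Pieces

variable (k) in
theorem algebraMap_mem_zero (c : k) : algebraMap k R c ∈ 𝒜 0 := by
  rw [Algebra.algebraMap_eq_smul_one]
  exact Submodule.smul_mem _ c SetLike.GradedOne.one_mem

variable (𝒜 ℳ) in
/-- The projection onto a piece, as a linear map over the field. -/
noncomputable def projK (d : ℤ) : M →ₗ[k] M where
  toFun := proj ℳ d
  map_add' := map_add _
  map_smul' c x := by
    rw [RingHom.id_apply, ← algebraMap_smul R c x,
      proj_smul_of_mem 𝒜 ℳ (algebraMap_mem_zero k c) d x, sub_zero, algebraMap_smul]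

end Pieces

section Act

theorem act_mul (z w : R ⊗[k] S) (v : M ⊗[k] N) :
    GrSeg.act k R S M N (z * w) v = GrSeg.act k R S M N z (GrSeg.act k R S M N w v) := by
  induction z with
  | zero => simp
  | add a b ha hb => simp [add_mul, ha, hb]
  | tmul a b =>
    induction w with
    | zero => simp
    | add c d hc hd => simp [mul_add, hc, hd]
    | tmul c d =>
      induction v with
      | zero => simp
      | add p q hp hq => rw [map_add, map_add, map_add, hp, hq]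
      | tmul m n => simp [Algebra.TensorProduct.tmul_mul_tmul, GrSeg.act_tmul, mul_smul]

theorem act_one (v : M ⊗[k] N) : GrSeg.act k R S M N 1 v = v := by
  induction v with
  | zero => simp
  | add p q hp hq => simp [hp, hq]
  | tmul m n => simp [Algebra.TensorProduct.one_def, GrSeg.act_tmul]

theorem act_algebraMap (c : k) (v : M ⊗[k] N) :
    GrSeg.act k R S M N (ψ (algebraMap k T c)) v = c • v := by
  rw [AlgHom.commutes, Algebra.algebraMap_eq_smul_one, map_smul, LinearMap.smul_apply, act_one]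

end Act

/-- `G` is, through `φ`, the Segre product of `ℳ` and `𝒩`. -/
structure IsSeg (ψ : T →ₐ[k] R ⊗[k] S) (ℳ : ℤ → AddSubgroup M) (𝒩 : ℤ → AddSubgroup N)
    {G : Type u} [AddCommGroup G] [Module T G] (𝒢 : ℤ → AddSubgroup G) (φ : G →+ M ⊗[k] N) : Prop where
  injective : Function.Injective φ
  image_piece : ∀ n : ℤ, φ '' (𝒢 n : Set G) = (GrSeg.segrePiece k ℳ 𝒩 n : Set (M ⊗[k] N))
  map_smul : ∀ (t : T) (p : G), φ (t • p) = GrSeg.act k R S M N (ψ t) (φ p)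

theorem isSeg_of_isSegreMod {P : Type u} [AddCommGroup P] [Module T P] [Module k P] [IsScalarTower k T P]
    {𝒬 : ℤ → AddSubgroup P} [DirectSum.Decomposition 𝒬] {φ : P →ₗ[k] M ⊗[k] N}
    (hP : GrSeg.IsSegreMod ψ ℳ 𝒩 𝒬 φ) : IsSeg ψ ℳ 𝒩 𝒬 φ.toAddMonoidHom :=
  ⟨hP.injective, hP.image_piece, hP.map_smul⟩

variable (hψ : ∀ n : ℤ, (𝒯 n).map ψ.toLinearMap = GrSeg.segrePiece k 𝒜 ℬ n)

include hψ in
theorem act_mem_segrePiece {i d : ℤ} {t : T} (ht : t ∈ 𝒯 i) {v : M ⊗[k] N}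
    (hv : v ∈ GrSeg.segrePiece k ℳ 𝒩 d) :
    GrSeg.act k R S M N (ψ t) v ∈ GrSeg.segrePiece k ℳ 𝒩 (i + d) := by
  have hw : ψ t ∈ GrSeg.segrePiece k 𝒜 ℬ i := hψ i ▸ Submodule.mem_map_of_mem ht
  have h := Submodule.apply_mem_map₂ (GrSeg.act k R S M N) hw hv
  rw [GrSeg.segrePiece, GrSeg.segrePiece, Submodule.map₂_span_span] at h
  refine Submodule.span_le.2 ?_ h
  rintro _ ⟨_, ⟨r, hr, s, hs, rfl⟩, _, ⟨a, ha, b, hb, rfl⟩, rfl⟩
  show GrSeg.act k R S M N (r ⊗ₜ[k] s) (a ⊗ₜ[k] b) ∈ _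
  rw [GrSeg.act_tmul]
  exact Submodule.subset_span ⟨_, smul_mem_add 𝒜 ℳ hr ha, _, smul_mem_add ℬ 𝒩 hs hb, rfl⟩

variable (𝒯) (ℳ) (𝒩) in
include hψ in
/-- Segre products of graded modules exist. -/
theorem exists_seg : ∃ (G : GrLC.GMod.{u} 𝒯) (φ : G.carrier →+ M ⊗[k] N), IsSeg ψ ℳ 𝒩 G.gr φ := by
  classical
  let S0 : Submodule k (M ⊗[k] N) := ⨆ d, GrSeg.segrePiece k ℳ 𝒩 d
  have hle : ∀ d, GrSeg.segrePiece k ℳ 𝒩 d ≤ S0 := fun d => le_iSup (fun d => GrSeg.segrePiece k ℳ 𝒩 d) d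
  have hclosed : ∀ (t : T) (v : M ⊗[k] N), v ∈ S0 → GrSeg.act k R S M N (ψ t) v ∈ S0 := by
    intro t
    induction t using induction_hom 𝒯 with
    | zero => intro v _; rw [map_zero, map_zero, LinearMap.zero_apply]; exact zero_mem _
    | add a b ha hb =>
      intro v hv
      rw [map_add, map_add, LinearMap.add_apply]
      exact add_mem (ha v hv) (hb v hv)
    | hom i t ht =>
      intro v hv
      induction hv using Submodule.iSup_induction' with
      | mem d y hy => exact hle _ (act_mem_segrePiece hψ ht hy)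
      | zero => rw [map_zero]; exact zero_mem _
      | add a b _ _ ha hb => rw [map_add]; exact add_mem ha hb
  letI : Module T S0 :=
    { smul := fun t v => ⟨GrSeg.act k R S M N (ψ t) v.1, hclosed t v.1 v.2⟩
      one_smul := fun v => Subtype.ext (show GrSeg.act k R S M N (ψ 1) v.1 = v.1 by rw [map_one, act_one])
      mul_smul := fun a b v => Subtype.ext (show GrSeg.act k R S M N (ψ (a * b)) v.1 = _ by
        rw [map_mul, act_mul]; rfl)
      smul_zero := fun a => Subtype.ext (map_zero _)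
      smul_add := fun a v w => Subtype.ext (map_add _ _ _)
      add_smul := fun a b v => Subtype.ext (show GrSeg.act k R S M N (ψ (a + b)) v.1 = _ by
        rw [map_add, map_add]; rfl)
      zero_smul := fun v => Subtype.ext (show GrSeg.act k R S M N (ψ 0) v.1 = 0 by
        rw [map_zero, map_zero]; rfl) }
  let gr : ℤ → AddSubgroup S0 := fun d => (GrSeg.segrePiece k ℳ 𝒩 d).toAddSubgroup.comap S0.toAddSubgroup.subtype
  let πd : ℤ → M ⊗[k] N →ₗ[k] M ⊗[k] N := fun d => TensorProduct.map (projK 𝒜 ℳ d) (projK ℬ 𝒩 d)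
  have hπmem : ∀ d v, πd d v ∈ GrSeg.segrePiece k ℳ 𝒩 d := by
    intro d v
    induction v with
    | zero => rw [map_zero]; exact zero_mem _
    | add a b ha hb => rw [map_add]; exact add_mem ha hb
    | tmul m n => exact Submodule.subset_span ⟨_, proj_mem ℳ d m, _, proj_mem 𝒩 d n, rfl⟩
  let π : ℤ → S0 →+ S0 := fun d =>
    AddMonoidHom.mk' (fun v => ⟨πd d v.1, hle d (hπmem d v.1)⟩) fun a b => Subtype.ext (map_add (πd d) a.1 b.1)
  have key : ∀ d e, ∀ v ∈ GrSeg.segrePiece k ℳ 𝒩 e, πd d v = if e = d then v else 0 := by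
    intro d e v hv
    refine LinearMap.eqOn_span (f := πd d) (g := if e = d then LinearMap.id else 0) ?_ hv |>.trans ?_
    · rintro _ ⟨a, ha, b, hb, rfl⟩
      simp only [πd, TensorProduct.map_tmul]
      change proj ℳ d a ⊗ₜ[k] proj 𝒩 d b = _
      split_ifs with h
      · subst h; rw [proj_of_mem ℳ ha, proj_of_mem 𝒩 hb, LinearMap.id_apply]
      · rw [proj_of_mem_ne ℳ ha h, TensorProduct.zero_tmul, LinearMap.zero_apply]
    · split_ifs <;> rfl
  letI := decompositionOfProj gr π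
    (fun g x hx => Subtype.ext ((key g g x.1 hx).trans (if_pos rfl)))
    (fun g h hne x hx => Subtype.ext ((key g h x.1 hx).trans (if_neg hne)))
    (fun x => by
      obtain ⟨x, hx⟩ := x
      induction hx using Submodule.iSup_induction' with
      | mem d y hy => exact ⟨DirectSum.of (fun i => gr i) d ⟨⟨y, hle d hy⟩, hy⟩,
          DirectSum.coeAddMonoidHom_of gr d _⟩
      | zero => exact ⟨0, map_zero _⟩
      | add a b ha hb iha ihb =>
        obtain ⟨u, hu⟩ := iha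
        obtain ⟨v, hv⟩ := ihb
        exact ⟨u + v, by rw [map_add, hu, hv]; rfl⟩)
  haveI : SetLike.GradedSMul 𝒯 gr := ⟨fun {i j t v} ht hv => act_mem_segrePiece hψ ht hv⟩
  refine ⟨{ carrier := S0, gr := gr }, S0.subtype.toAddMonoidHom, S0.injective_subtype, fun n => ?_,
    fun t p => rfl⟩
  ext v
  constructor
  · rintro ⟨w, hw, rfl⟩
    exact hw
  · intro hv
    exact ⟨⟨v, hle n hv⟩, hv, rfl⟩

variable (R S) in
/-- A map of tensor products compatible with the actions and the pieces. -/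
structure SegHom (ℳ : ℤ → AddSubgroup M) (𝒩 : ℤ → AddSubgroup N)
    {M' N' : Type u} [AddCommGroup M'] [Module R M'] [Module k M'] [IsScalarTower k R M']
    [AddCommGroup N'] [Module S N'] [Module k N'] [IsScalarTower k S N']
    (ℳ' : ℤ → AddSubgroup M') (𝒩' : ℤ → AddSubgroup N') (Φ : M ⊗[k] N →ₗ[k] M' ⊗[k] N') (e : ℤ) : Prop where
  comm : ∀ z v, Φ (GrSeg.act k R S M N z v) = GrSeg.act k R S M' N' z (Φ v)
  piece : ∀ d, ∀ v ∈ GrSeg.segrePiece k ℳ 𝒩 d, Φ v ∈ GrSeg.segrePiece k ℳ' 𝒩' (d + e)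

section Hom

variable {M' : Type u} [AddCommGroup M'] [Module R M'] [Module k M'] [IsScalarTower k R M']
variable {N' : Type u} [AddCommGroup N'] [Module S N'] [Module k N'] [IsScalarTower k S N']
variable {ℳ' : ℤ → AddSubgroup M'} {𝒩' : ℤ → AddSubgroup N'}
variable {Φ Φ' : M ⊗[k] N →ₗ[k] M' ⊗[k] N'} {e : ℤ}

theorem segHom_map {f : M →ₗ[R] M'} {g : N →ₗ[S] N'} (hf : GrLC.IsGrHomDeg ℳ ℳ' f e)
    (hg : GrLC.IsGrHomDeg 𝒩 𝒩' g e) :
    SegHom R S ℳ 𝒩 ℳ' 𝒩' (TensorProduct.map (f.restrictScalars k) (g.restrictScalars k)) e where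
  comm z v := by
    induction z with
    | zero => simp
    | add a b ha hb => simp [ha, hb]
    | tmul a b =>
      induction v with
      | zero => simp
      | add p q hp hq => simp only [map_add, hp, hq]
      | tmul m n => simp [GrSeg.act_tmul]
  piece d v hv := by
    have hle : GrSeg.segrePiece k ℳ 𝒩 d ≤ (GrSeg.segrePiece k ℳ' 𝒩' (d + e)).comap
        (TensorProduct.map (f.restrictScalars k) (g.restrictScalars k)) := by
      refine Submodule.span_le.2 ?_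
      rintro _ ⟨a, ha, b, hb, rfl⟩
      exact Submodule.subset_span ⟨f a, hf d a ha, g b, hg d b hb, rfl⟩
    exact hle hv

theorem segHom_map₀ {f : M →ₗ[R] M'} {g : N →ₗ[S] N'} (hf : GrLC.IsGrHom ℳ ℳ' f)
    (hg : GrLC.IsGrHom 𝒩 𝒩' g) :
    SegHom R S ℳ 𝒩 ℳ' 𝒩' (TensorProduct.map (f.restrictScalars k) (g.restrictScalars k)) 0 :=
  segHom_map (fun d x hx => by rw [add_zero]; exact hf d x hx) (fun d x hx => by rw [add_zero]; exact hg d x hx)

theorem SegHom.add (h : SegHom R S ℳ 𝒩 ℳ' 𝒩' Φ e) (h' : SegHom R S ℳ 𝒩 ℳ' 𝒩' Φ' e) :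
    SegHom R S ℳ 𝒩 ℳ' 𝒩' (Φ + Φ') e where
  comm z v := by rw [LinearMap.add_apply, LinearMap.add_apply, h.comm, h'.comm, map_add]
  piece d v hv := add_mem (h.piece d v hv) (h'.piece d v hv)

theorem segHom_zero : SegHom R S ℳ 𝒩 ℳ' 𝒩' (0 : M ⊗[k] N →ₗ[k] M' ⊗[k] N') e where
  comm z v := by simp
  piece d v _ := zero_mem _

theorem segHom_sum {κ : Type} (s : Finset κ) {f : κ → M ⊗[k] N →ₗ[k] M' ⊗[k] N'}
    (h : ∀ i ∈ s, SegHom R S ℳ 𝒩 ℳ' 𝒩' (f i) e) : SegHom R S ℳ 𝒩 ℳ' 𝒩' (∑ i ∈ s, f i) e :=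
  Finset.sum_induction f (fun g => SegHom R S ℳ 𝒩 ℳ' 𝒩' g e) (fun _ _ => SegHom.add) segHom_zero h

variable {G : Type u} [AddCommGroup G] [Module T G] {𝒢 : ℤ → AddSubgroup G} [DirectSum.Decomposition 𝒢]
variable {G' : Type u} [AddCommGroup G'] [Module T G'] {𝒢' : ℤ → AddSubgroup G'}
variable {φ : G →+ M ⊗[k] N} {φ' : G' →+ M' ⊗[k] N'}

/-- Compatible maps of tensor products restrict to the Segre products. -/
theorem exists_lift (hG : IsSeg ψ ℳ 𝒩 𝒢 φ) (hG' : IsSeg ψ ℳ' 𝒩' 𝒢' φ')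
    (h : SegHom R S ℳ 𝒩 ℳ' 𝒩' Φ e) :
    ∃ F : G →ₗ[T] G', GrLC.IsGrHomDeg 𝒢 𝒢' F e ∧ ∀ x, φ' (F x) = Φ (φ x) := by
  have hex : ∀ x, ∃ y, φ' y = Φ (φ x) := by
    intro x
    induction x using induction_hom 𝒢 with
    | zero => exact ⟨0, by simp⟩
    | add a b ha hb =>
      obtain ⟨u, hu⟩ := ha
      obtain ⟨v, hv⟩ := hb
      exact ⟨u + v, by rw [map_add, map_add, map_add, hu, hv]⟩
    | hom d y hy =>
      obtain ⟨z, -, hz⟩ := (hG'.image_piece (d + e)).ge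
        (h.piece d _ ((hG.image_piece d).le ⟨y, hy, rfl⟩))
      exact ⟨z, hz⟩
  choose F hF using hex
  refine ⟨{ toFun := F, map_add' := fun a b => hG'.injective ?_, map_smul' := fun t a => hG'.injective ?_ },
    fun d x hx => ?_, hF⟩
  · rw [hF, map_add, map_add, map_add, hF, hF]
  · rw [hF, RingHom.id_apply, hG.map_smul, hG'.map_smul, hF, h.comm]
  · obtain ⟨z, hz, hzx⟩ := (hG'.image_piece (d + e)).ge (h.piece d _ ((hG.image_piece d).le ⟨x, hx, rfl⟩))
    show F x ∈ 𝒢' (d + e)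
    rw [← hG'.injective (hzx.trans (hF x).symm)]
    exact hz

end Hom

section Inv

variable {G : Type u} [AddCommGroup G] [Module T G] {𝒢 : ℤ → AddSubgroup G} [DirectSum.Decomposition 𝒢]
variable {φ : G →+ M ⊗[k] N}

theorem Inv.pow {e : M →ₗ[R] M} {c : ℤ} {r : R} {ρ : M →ₗ[R] M} (hr : r ∈ 𝒜 c)
    (hρ : GrLC.IsGrHomDeg ℳ ℳ ρ (-c)) (h1 : r • ρ = e) (h2 : ρ ∘ₗ e = ρ) (h3 : e ∘ₗ ρ = ρ) :
    ∀ b : ℕ, 0 < b → r ^ b ∈ 𝒜 ((b : ℤ) * c) ∧ ∃ σ : M →ₗ[R] M,
      GrLC.IsGrHomDeg ℳ ℳ σ (-((b : ℤ) * c)) ∧ r ^ b • σ = e ∧ σ ∘ₗ e = σ ∧ e ∘ₗ σ = σ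
  | 0, h => absurd h (lt_irrefl 0)
  | 1, _ => ⟨by simpa using hr, ρ, by simpa using hρ, by rw [pow_one, h1], h2, h3⟩
  | b + 2, _ => by
    obtain ⟨hm, σ, hσ, g1, g2, g3⟩ := Inv.pow hr hρ h1 h2 h3 (b + 1) b.succ_pos
    have hee : e ∘ₗ e = e := by
      conv_lhs => arg 1; rw [← h1]
      rw [LinearMap.smul_comp, h2, h1]
    refine ⟨?_, ρ ∘ₗ σ, fun d x hx => ?_, ?_, ?_, ?_⟩
    · have h := SetLike.GradedMul.mul_mem hm hr
      rw [← pow_succ] at h
      convert h using 2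
      push_cast; ring
    · rw [show d + -(((b + 2 : ℕ) : ℤ) * c) = d + -(((b + 1 : ℕ) : ℤ) * c) + -c by push_cast; ring]
      exact hρ _ _ (hσ d x hx)
    · calc r ^ (b + 2) • ρ ∘ₗ σ = (r • ρ) ∘ₗ (r ^ (b + 1) • σ) := by
            rw [LinearMap.smul_comp, LinearMap.comp_smul, smul_smul, ← pow_succ']
        _ = e := by rw [h1, g1, hee]
    · rw [LinearMap.comp_assoc, g2]
    · rw [← LinearMap.comp_assoc, h3]

include hψ in
theorem Inv.seg (hG : IsSeg ψ ℳ 𝒩 𝒢 φ) {e : M →ₗ[R] M} {e' : N →ₗ[S] N} (he : Inv 𝒜 ℳ e)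
    (he' : Inv ℬ 𝒩 e') : ∃ E : G →ₗ[T] G, Inv 𝒯 𝒢 E ∧
      ∀ x, φ (E x) = TensorProduct.map (e.restrictScalars k) (e'.restrictScalars k) (φ x) := by
  obtain ⟨hdeg, c, hc, r, hr, ρ, hρ, h1, h2, h3⟩ := he
  obtain ⟨hdeg', c', hc', s, hs, ρ', hρ', h1', h2', h3'⟩ := he'
  obtain ⟨hm, σ, hσ, g1, g2, g3⟩ := Inv.pow hr hρ h1 h2 h3 c'.toNat (by omega)
  obtain ⟨hm', σ', hσ', g1', g2', g3'⟩ := Inv.pow hs hρ' h1' h2' h3' c.toNat (by omega)
  rw [Int.toNat_of_nonneg (le_of_lt hc')] at hm hσ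
  rw [Int.toNat_of_nonneg (le_of_lt hc), mul_comm] at hm' hσ'
  obtain ⟨t, ht, hψt⟩ : ∃ t ∈ 𝒯 (c' * c), ψ t = (r ^ c'.toNat) ⊗ₜ[k] (s ^ c.toNat) := by
    have h : (r ^ c'.toNat) ⊗ₜ[k] (s ^ c.toNat) ∈ GrSeg.segrePiece k 𝒜 ℬ (c' * c) :=
      Submodule.subset_span ⟨_, hm, _, hm', rfl⟩
    rw [← hψ] at h
    exact h
  obtain ⟨E, hE, hφE⟩ := exists_lift hG hG (segHom_map₀ (k := k) hdeg hdeg')
  obtain ⟨F, hF, hφF⟩ := exists_lift hG hG (segHom_map (k := k) hσ hσ')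
  refine ⟨E, ⟨fun d x hx => add_zero d ▸ hE d x hx, c' * c, mul_pos hc' hc, t, ht, F, hF,
    LinearMap.ext fun x => hG.injective ?_, LinearMap.ext fun x => hG.injective ?_,
    LinearMap.ext fun x => hG.injective ?_⟩, hφE⟩
  · rw [LinearMap.smul_apply, hG.map_smul, hφF, hφE, hψt]
    induction φ x with
    | zero => simp
    | add p q hp hq => rw [map_add, map_add, map_add, hp, hq]
    | tmul m n =>
      simp only [TensorProduct.map_tmul, GrSeg.act_tmul, LinearMap.coe_restrictScalars]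
      rw [← g1, ← g1']
      rfl
  · rw [LinearMap.comp_apply, hφF, hφE, hφF, ← LinearMap.comp_apply, ← TensorProduct.map_comp,
      ← LinearMap.restrictScalars_comp, ← LinearMap.restrictScalars_comp, g2, g2']
  · rw [LinearMap.comp_apply, hφE, hφF, ← LinearMap.comp_apply, ← TensorProduct.map_comp,
      ← LinearMap.restrictScalars_comp, ← LinearMap.restrictScalars_comp, g3, g3']

include hψ in
theorem mem_invSums_seg (hG : IsSeg ψ ℳ 𝒩 𝒢 φ) {f : M →ₗ[R] M} (hf : f ∈ invSums 𝒜 ℳ) {g : N →ₗ[S] N}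
    (hg : g ∈ invSums ℬ 𝒩) : ∃ F ∈ invSums 𝒯 𝒢,
      ∀ x, φ (F x) = TensorProduct.map (f.restrictScalars k) (g.restrictScalars k) (φ x) := by
  induction hf using AddSubmonoid.closure_induction with
  | zero => exact ⟨0, zero_mem _, fun x => by simp [LinearMap.restrictScalars_zero]⟩
  | add a b _ _ ha hb =>
    obtain ⟨A, hA, hA'⟩ := ha
    obtain ⟨B, hB, hB'⟩ := hb
    exact ⟨A + B, add_mem hA hB, fun x => by
      simp [LinearMap.restrictScalars_add, TensorProduct.map_add_left, hA', hB']⟩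
  | mem e he =>
    induction hg using AddSubmonoid.closure_induction with
    | zero => exact ⟨0, zero_mem _, fun x => by simp [LinearMap.restrictScalars_zero]⟩
    | add a b _ _ ha hb =>
      obtain ⟨A, hA, hA'⟩ := ha
      obtain ⟨B, hB, hB'⟩ := hb
      exact ⟨A + B, add_mem hA hB, fun x => by
        simp [LinearMap.restrictScalars_add, TensorProduct.map_add_right, hA', hB']⟩
    | mem e' he' =>
      obtain ⟨E, hE, hE'⟩ := Inv.seg hψ hG he he'
      exact ⟨E, AddSubmonoid.subset_closure hE, hE'⟩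

include hψ in
theorem id_mem_invSums_seg (hG : IsSeg ψ ℳ 𝒩 𝒢 φ) (hM : (LinearMap.id : M →ₗ[R] M) ∈ invSums 𝒜 ℳ)
    (hN : (LinearMap.id : N →ₗ[S] N) ∈ invSums ℬ 𝒩) : (LinearMap.id : G →ₗ[T] G) ∈ invSums 𝒯 𝒢 := by
  obtain ⟨F, hF, hF'⟩ := mem_invSums_seg hψ hG hM hN
  rwa [show (LinearMap.id : G →ₗ[T] G) = F from LinearMap.ext fun x => hG.injective (by
    rw [hF', LinearMap.restrictScalars_id, LinearMap.restrictScalars_id, TensorProduct.map_id]
    rfl)]

end Inv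

end Groth.Agent.Lib.Graded.Seg
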