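import Groth.Agent.Lib.Graded.Seg.TopIso
import Groth.Agent.Lib.Graded.FieldDeg0
import Groth.Agent.Lib.Graded.Seg.HullK

/-!
# Generators of Segre products of shifted standard algebras
-/

universe u

set_option maxHeartbeats 1600000
set_option linter.unusedSectionVars false

open DirectSum
open scoped TensorProduct

namespace Groth.Agent.Lib.Graded.Seg

open Groth.Agent.Lib.Graded.Basic Groth.Agent.Lib.Graded.StarInj

variable {k : Type u} [Field k] {R : Type u} [CommRing R] [Algebra k R] {𝒜 : ℤ → Submodule k R} [GradedAlgebra 𝒜]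

/-- In a standard graded algebra each piece is generated by the one below. -/
theorem piece_succ_le (hstd : Ideal.span (⋃ n ∈ Set.Ioi (0 : ℤ), (𝒜 n : Set R)) =
    Ideal.span ((𝒜 1 : Submodule k R) : Set R)) {n : ℤ} (hn : 0 ≤ n) :
    𝒜 (n + 1) ≤ Submodule.span k {x | ∃ a ∈ 𝒜 1, ∃ b ∈ 𝒜 n, x = a * b} := by
  intro x hx
  have h : x ∈ Ideal.span ((𝒜 1 : Submodule k R) : Set R) :=
    hstd ▸ Ideal.subset_span (Set.mem_biUnion (Set.mem_Ioi.2 (by omega)) hx)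
  suffices H : ∀ y ∈ Ideal.span ((𝒜 1 : Submodule k R) : Set R),
      proj 𝒜 (n + 1) y ∈ Submodule.span k {x | ∃ a ∈ 𝒜 1, ∃ b ∈ 𝒜 n, x = a * b} by
    have h2 := H x h
    rwa [proj_of_mem 𝒜 hx] at h2
  intro y hy
  induction hy using Submodule.span_induction with
  | mem a ha =>
    rcases eq_or_ne n 0 with rfl | hne
    · rw [zero_add, proj_of_mem 𝒜 (show a ∈ 𝒜 1 from ha)]
      exact Submodule.subset_span ⟨a, ha, 1, SetLike.one_mem_graded 𝒜, (mul_one a).symm⟩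
    · rw [proj_of_mem_ne 𝒜 (show a ∈ 𝒜 1 from ha) (by omega)]
      exact zero_mem _
  | zero => rw [map_zero]; exact zero_mem _
  | add p q _ _ hp hq => rw [map_add]; exact add_mem hp hq
  | smul c z hz ihz =>
    clear ihz
    induction hz using Submodule.span_induction generalizing c with
    | mem a ha =>
      rw [proj_smul_mem 𝒜 𝒜 (show a ∈ 𝒜 1 from ha), add_sub_cancel_right]
      exact Submodule.subset_span ⟨a, ha, _, proj_mem 𝒜 n c, by rw [smul_eq_mul, mul_comm]⟩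
    | zero => rw [smul_zero, map_zero]; exact zero_mem _
    | add p q _ _ hp hq => rw [smul_add, map_add]; exact add_mem (hp c) (hq c)
    | smul c' a _ ha => rw [smul_smul]; exact ha (c * c')

variable {S : Type u} [CommRing S] [Algebra k S] {ℬ : ℤ → Submodule k S} [GradedAlgebra ℬ]
variable {T : Type u} [CommRing T] [Algebra k T] {𝒯 : ℤ → Submodule k T} [GradedAlgebra 𝒯]
variable {ψ : T →ₐ[k] R ⊗[k] S}
variable {P : Type u} [AddCommGroup P] [Module T P] [Module k P] [IsScalarTower k T P]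
  {𝒬 : ℤ → AddSubgroup P} [DirectSum.Decomposition 𝒬] [SetLike.GradedSMul 𝒯 𝒬] {φ : P →+ R ⊗[k] S}

/-- The generators of the Segre product of two shifted standard algebras. -/
theorem finrank_gens [Nontrivial R] [Nontrivial S] [Nontrivial T]
    (hposR : ∀ n : ℤ, n < 0 → 𝒜 n = ⊥) (hposS : ∀ n : ℤ, n < 0 → ℬ n = ⊥)
    (h0S : ℬ 0 = Submodule.span k {(1 : S)})
    (hposT : ∀ n : ℤ, n < 0 → 𝒯 n = ⊥) (h0T : 𝒯 0 = Submodule.span k {(1 : T)})
    (hψ : ∀ n : ℤ, (𝒯 n).map ψ.toLinearMap = GrSeg.segrePiece k 𝒜 ℬ n)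
    (hstdR : Ideal.span (⋃ n ∈ Set.Ioi (0 : ℤ), (𝒜 n : Set R)) = Ideal.span ((𝒜 1 : Submodule k R) : Set R))
    (hstdS : Ideal.span (⋃ n ∈ Set.Ioi (0 : ℤ), (ℬ n : Set S)) = Ideal.span ((ℬ 1 : Submodule k S) : Set S))
    {mT : HomogeneousIdeal 𝒯} (hmT : mT.toIdeal = Ideal.span (⋃ n ∈ Set.Ioi (0 : ℤ), (𝒯 n : Set T)))
    {a b : ℤ} (hab : b ≤ a) [Module.Finite k (𝒜 (a - b))]
    (hP : IsSeg ψ (shiftGr (SigmaChange.pieces 𝒜) a) (shiftGr (SigmaChange.pieces ℬ) b) 𝒬 φ) :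
    Module.finrank (T ⧸ mT.toIdeal) ((T ⧸ mT.toIdeal) ⊗[T] P) = Module.finrank k (𝒜 (a - b)) := by
  classical
  have hF : IsField (GrLC.deg0 (SigmaChange.pieces 𝒯)) := isField_deg0 h0T
  have hmT' : (SigmaChange.ideal mT).toIdeal =
      Ideal.span (⋃ n ∈ Set.Ioi (0 : ℤ), (SigmaChange.pieces 𝒯 n : Set T)) := hmT
  have hproj0 : ∀ t ∈ mT.toIdeal, proj 𝒯 0 t = 0 := fun t ht => by
    have h := FieldDeg0.proj_zero_of_mem (hpos_pieces hposT) hF hmT' ht
    rwa [SigmaChange.proj_pieces] at h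
  have hlow : ∀ g, g < -b → ∀ p ∈ 𝒬 g, p = 0 := fun g hg p hp => by
    have h : φ p ∈ GrSeg.segrePiece k (shiftGr (SigmaChange.pieces 𝒜) a) (shiftGr (SigmaChange.pieces ℬ) b) g :=
      (hP.image_piece g).le ⟨p, hp, rfl⟩
    have hbot : GrSeg.segrePiece k (shiftGr (SigmaChange.pieces 𝒜) a) (shiftGr (SigmaChange.pieces ℬ) b) g ≤ ⊥ :=
      Submodule.span_le.2 (by
        rintro _ ⟨x, -, y, hy, rfl⟩
        have hy0 : y ∈ ℬ (g + b) := hy
        rw [hposS _ (by omega), Submodule.mem_bot] at hy0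
        simp [hy0])
    exact hP.injective (((Submodule.mem_bot k).1 (hbot h)).trans (map_zero φ).symm)
  let N : Submodule T P := mT.toIdeal • ⊤
  have hN0 : ∀ p ∈ N, proj 𝒬 (-b) p = 0 := by
    intro p hp
    refine Submodule.smul_induction_on hp (fun t ht p _ => ?_) (fun x y hx hy => by rw [map_add, hx, hy, add_zero])
    rw [← sum_proj 𝒯 t, Finset.sum_smul, map_sum]
    refine Finset.sum_eq_zero fun i _ => ?_
    rw [proj_smul_of_mem 𝒯 𝒬 (proj_mem 𝒯 i t)]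
    rcases lt_trichotomy i 0 with h | rfl | h
    · have hi := proj_mem 𝒯 i t
      rw [hposT i h, Submodule.mem_bot] at hi
      rw [hi, zero_smul]
    · rw [hproj0 t ht, zero_smul]
    · rw [hlow _ (by omega) _ (proj_mem 𝒬 _ p), smul_zero]
  have hT1 : ∀ x ∈ 𝒜 1, ∀ y ∈ ℬ 1, ∃ t ∈ 𝒯 1, ψ t = x ⊗ₜ[k] y := fun x hx y hy => by
    obtain ⟨t, ht, htx⟩ := Submodule.mem_map.1
      ((hψ 1).ge (Submodule.subset_span ⟨x, hx, y, hy, rfl⟩))
    exact ⟨t, ht, htx⟩
  have hNg : ∀ g, -b < g → ∀ p ∈ 𝒬 g, p ∈ N := by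
    intro g hg p hp
    let Nk : Submodule k (R ⊗[k] S) :=
      { carrier := φ '' (N : Set P)
        zero_mem' := ⟨0, N.zero_mem, map_zero φ⟩
        add_mem' := by
          rintro _ _ ⟨x, hx, rfl⟩ ⟨y, hy, rfl⟩
          exact ⟨x + y, N.add_mem hx hy, map_add φ x y⟩
        smul_mem' := by
          rintro c _ ⟨x, hx, rfl⟩
          exact ⟨algebraMap k T c • x, N.smul_mem _ hx, (hP.map_smul _ x).trans (act_algebraMap c _)⟩ }
    suffices h : GrSeg.segrePiece k (shiftGr (SigmaChange.pieces 𝒜) a) (shiftGr (SigmaChange.pieces ℬ) b) g ≤ Nk by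
      obtain ⟨q, hq, hqp⟩ := h ((hP.image_piece g).le ⟨p, hp, rfl⟩)
      rwa [← hP.injective hqp]
    refine Submodule.span_le.2 ?_
    rintro _ ⟨x, hx, y, hy, rfl⟩
    have hx' : x ∈ 𝒜 (g + a - 1 + 1) := by rw [sub_add_cancel]; exact hx
    have hy' : y ∈ ℬ (g + b - 1 + 1) := by rw [sub_add_cancel]; exact hy
    have h2 := piece_succ_le hstdR (by omega) hx'
    have h3 := piece_succ_le hstdS (by omega) hy'
    have hxy : x ⊗ₜ[k] y ∈ Submodule.map₂ (TensorProduct.mk k R S)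
        (Submodule.span k {x | ∃ a' ∈ 𝒜 1, ∃ b' ∈ 𝒜 (g + a - 1), x = a' * b'})
        (Submodule.span k {x | ∃ a' ∈ ℬ 1, ∃ b' ∈ ℬ (g + b - 1), x = a' * b'}) :=
      Submodule.apply_mem_map₂ _ h2 h3
    rw [Submodule.map₂_span_span] at hxy
    refine (Submodule.span_le.2 ?_ : _ ≤ Nk) hxy
    rintro _ ⟨_, ⟨x1, hx1, x2, hx2, rfl⟩, _, ⟨y1, hy1, y2, hy2, rfl⟩, rfl⟩
    obtain ⟨t, ht, htx⟩ := hT1 x1 hx1 y1 hy1
    obtain ⟨q, hq, hqx⟩ := (hP.image_piece (g - 1)).ge (show x2 ⊗ₜ[k] y2 ∈ GrSeg.segrePiece k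
        (shiftGr (SigmaChange.pieces 𝒜) a) (shiftGr (SigmaChange.pieces ℬ) b) (g - 1) from
      Submodule.subset_span ⟨x2, show x2 ∈ 𝒜 (g - 1 + a) by rwa [sub_add_eq_add_sub],
        y2, show y2 ∈ ℬ (g - 1 + b) by rwa [sub_add_eq_add_sub], rfl⟩)
    refine ⟨t • q, Submodule.smul_mem_smul ?_ trivial, ?_⟩
    · rw [hmT]
      exact Ideal.subset_span (Set.mem_biUnion (Set.mem_Ioi.2 one_pos) ht)
    · rw [hP.map_smul, htx, hqx, GrSeg.act_tmul]
      rfl
  -- the quotient is the lowest piece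
  let f : pieceK 𝒯 𝒬 (-b) →ₗ[k] P ⧸ N := (Submodule.mkQ N).restrictScalars k ∘ₗ (pieceK 𝒯 𝒬 (-b)).subtype
  have hf : Function.Bijective f := by
    refine ⟨(injective_iff_map_eq_zero f).2 fun x hx => Subtype.ext ?_, fun y => ?_⟩
    · have h : proj 𝒬 (-b) x.1 = 0 := hN0 _ ((Submodule.Quotient.mk_eq_zero N).1 hx)
      rwa [proj_of_mem 𝒬 (show x.1 ∈ 𝒬 (-b) from x.2)] at h
    · obtain ⟨p, rfl⟩ := N.mkQ_surjective y
      refine ⟨⟨proj 𝒬 (-b) p, proj_mem 𝒬 (-b) p⟩, ?_⟩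
      show Submodule.Quotient.mk _ = Submodule.Quotient.mk p
      rw [Submodule.Quotient.eq]
      show proj 𝒬 (-b) p - p ∈ N
      induction p using induction_hom 𝒬 with
      | zero => rw [map_zero, sub_zero]; exact zero_mem _
      | add u v hu hv => rw [map_add, add_sub_add_comm]; exact add_mem hu hv
      | hom g u hu =>
        rcases lt_trichotomy g (-b) with h | h | h
        · rw [hlow g h u hu, map_zero, sub_zero]; exact zero_mem _
        · subst h; rw [proj_of_mem 𝒬 hu, sub_self]; exact zero_mem _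
        · rw [proj_of_mem_ne 𝒬 hu h.ne', zero_sub]; exact neg_mem (hNg g h u hu)
  have hQ : Function.Bijective (algebraMap k (T ⧸ mT.toIdeal)) := by
    have hmax := FieldDeg0.isMaximal (hpos_pieces hposT) hF hmT'
    refine ⟨fun u v huv => ?_, fun y => ?_⟩
    · by_contra hne
      refine hmax.ne_top (Ideal.eq_top_of_isUnit_mem (SigmaChange.ideal mT).toIdeal
        (x := algebraMap k T (u - v)) ?_ ((isUnit_iff_ne_zero.2 (sub_ne_zero.2 hne)).map (algebraMap k T)))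
      rw [map_sub]
      exact Ideal.Quotient.eq.1 huv
    · obtain ⟨t, rfl⟩ := Ideal.Quotient.mk_surjective y
      have h := proj_mem 𝒯 0 t
      rw [h0T, Submodule.mem_span_singleton] at h
      obtain ⟨c, hc⟩ := h
      refine ⟨c, Ideal.Quotient.eq.2 ?_⟩
      rw [show algebraMap k T c = proj 𝒯 0 t by rw [← hc, Algebra.algebraMap_eq_smul_one]]
      refine (FieldDeg0.mem_iff (hpos_pieces hposT) hF hmT').2 ?_
      rw [map_sub, SigmaChange.proj_pieces, SigmaChange.proj_pieces, proj_of_mem 𝒯 (proj_mem 𝒯 0 t), sub_self]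
  have hrank : Module.finrank (T ⧸ mT.toIdeal) ((T ⧸ mT.toIdeal) ⊗[T] P) = Module.finrank k (pieceK 𝒯 𝒬 (-b)) := by
    let e := TensorProduct.quotTensorEquivQuotSMul P mT.toIdeal
    let e' : pieceK 𝒯 𝒬 (-b) ≃+ (T ⧸ mT.toIdeal) ⊗[T] P :=
      (LinearEquiv.ofBijective f hf).toAddEquiv.trans e.symm.toAddEquiv
    refine (congrArg Cardinal.toNat (rank_eq_of_equiv_equiv (algebraMap k (T ⧸ mT.toIdeal)) e' hQ
      fun c x => ?_)).symm
    show e.symm (f (c • x)) = algebraMap k (T ⧸ mT.toIdeal) c • e.symm (f x)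
    rw [map_smul, ← algebraMap_smul T c (f x), map_smul,
      ← algebraMap_smul (T ⧸ mT.toIdeal) (algebraMap k T c) (e.symm (f x))]
    rfl
  haveI : SetLike.GradedSMul 𝒜 (shiftGr (SigmaChange.pieces 𝒜) a) := shiftGSMul 𝒜 (SigmaChange.pieces 𝒜) a
  haveI : SetLike.GradedSMul ℬ (shiftGr (SigmaChange.pieces ℬ) b) := shiftGSMul ℬ (SigmaChange.pieces ℬ) b
  have h1 : pieceK 𝒜 (shiftGr (SigmaChange.pieces 𝒜) a) (-b) = 𝒜 (a - b) := SetLike.ext fun x => by
    show x ∈ 𝒜 (-b + a) ↔ _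
    rw [neg_add_eq_sub]
  have h2 : pieceK ℬ (shiftGr (SigmaChange.pieces ℬ) b) (-b) = Submodule.span k {(1 : S)} := by
    rw [← h0S]
    refine SetLike.ext fun x => ?_
    show x ∈ ℬ (-b + b) ↔ _
    rw [neg_add_cancel]
  haveI : Module.Finite k (pieceK 𝒜 (shiftGr (SigmaChange.pieces 𝒜) a) (-b)) := h1 ▸ inferInstance
  haveI : Module.Finite k (pieceK ℬ (shiftGr (SigmaChange.pieces ℬ) b) (-b)) := h2 ▸ inferInstance
  rw [hrank, (finrank_seg_piece (𝒜 := 𝒜) (ℬ := ℬ) (𝒯 := 𝒯) hP (-b)).2, h1, h2,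
    finrank_span_singleton one_ne_zero, mul_one]

end Groth.Agent.Lib.Graded.Seg
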