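import Groth.Agent.Lib.Graded.Seg.HullK
import Groth.Agent.Lib.Graded.IntGraded
import Groth.Agent.Lib.Graded.FieldDeg0
import Groth.Agent.H19.Bass.Gorenstein

/-!
# The canonical module of a Gorenstein graded algebra
-/

universe u

set_option maxHeartbeats 1600000
set_option linter.unusedSectionVars false

open DirectSum
open scoped TensorProduct

namespace Groth.Agent.Lib.Graded.Seg

open Groth.Agent.Lib.Graded.Basic Groth.Agent.Lib.Graded.StarInj

variable {k : Type u} [Field k] {R : Type u} [CommRing R] [Algebra k R] {𝒜 : ℤ → Submodule k R} [GradedAlgebra 𝒜]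
variable {m : HomogeneousIdeal 𝒜}
variable {E' : Type u} [AddCommGroup E'] [Module R E']
  {𝓔 : ℤ → AddSubgroup E'} [DirectSum.Decomposition 𝓔] [SetLike.GradedSMul 𝒜 𝓔]
variable {e : (R ⧸ m.toIdeal) →ₗ[R] E'}
variable [Nontrivial R] (hpos : ∀ n : ℤ, n < 0 → 𝒜 n = ⊥) (h0 : 𝒜 0 = Submodule.span k {(1 : R)})
  (hm : m.toIdeal = Ideal.span (⋃ n ∈ Set.Ioi (0 : ℤ), (𝒜 n : Set R)))

include hpos h0 hm

theorem isStarLocal_irr : GrLC.IsStarLocal (SigmaChange.pieces 𝒜) (SigmaChange.ideal m) := by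
  have hmax := FieldDeg0.isMaximal (hpos_pieces hpos) (isField_deg0 h0)
    (show (SigmaChange.ideal m).toIdeal = _ from hm)
  have hle := FieldDeg0.le_of_ne_top (hpos_pieces hpos) (isField_deg0 h0)
    (show (SigmaChange.ideal m).toIdeal = _ from hm)
  refine ⟨⟨fun h => hmax.ne_top (congrArg HomogeneousIdeal.toIdeal h), fun K hK => ?_⟩, fun n hn => ?_⟩
  · refine HomogeneousIdeal.ext (by_contra fun hne => ?_)
    exact hK.not_ge (hle K hne)
  · exact (hn.le_iff_eq (fun h => hmax.ne_top (congrArg HomogeneousIdeal.toIdeal h))).1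
      (hle n fun h => hn.1 (HomogeneousIdeal.ext h)) |>.symm

theorem height_irr {n : ℕ} (hn : ringKrullDim R = n) : (SigmaChange.ideal m).toIdeal.height = n := by
  have h := FieldDeg0.ringKrullDim_eq (hpos_pieces hpos) (isField_deg0 h0)
    (show (SigmaChange.ideal m).toIdeal = _ from hm)
  rw [hn] at h
  exact_mod_cast h.symm

variable (he : GrLC.IsStarInjHull 𝒜 (GrLC.quotGr 𝒜 m) 𝓔 e)
include he

/-- The pieces of the envelope are dual to those of the ring. -/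
theorem finrank_hull [IsNoetherianRing R] [Module k E'] [IsScalarTower k R E'] (d : ℤ) :
    Module.Finite k (pieceK 𝒜 𝓔 d) ∧ Module.finrank k (pieceK 𝒜 𝓔 d) = Module.finrank k (𝒜 (-d)) := by
  let 𝒜' := SigmaChange.pieces 𝒜
  have hF : IsField (GrLC.deg0 𝒜') := isField_deg0 h0
  letI := hF.toField
  have h := Dual0.equiv (𝒞 := 𝒜') (hpos_pieces hpos) hF (show (SigmaChange.ideal m).toIdeal = _ from hm)
    (hull_pieces he) d
  let v : GrLC.homDeg 𝒜' 𝒜' 𝓔 d ≃ₗ[GrLC.deg0 𝒜'] GrLC.comp 𝒜' 𝓔 d :=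
    { toFun := fun f => ⟨f.1 1, by
        have h1 := f.2 0 1 (SetLike.one_mem_graded 𝒜)
        rwa [zero_add] at h1⟩
      map_add' := fun _ _ => rfl
      map_smul' := fun _ _ => rfl
      invFun := fun x => ⟨LinearMap.toSpanSingleton R E' x.1, fun g r hr => by
        rw [LinearMap.toSpanSingleton_apply]
        exact SetLike.GradedSMul.smul_mem (A := 𝒜) (B := 𝓔) hr x.2⟩
      left_inv := fun f => Subtype.ext (LinearMap.ext_ring (by simp))
      right_inv := fun x => Subtype.ext (by simp) }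
  haveI : IsNoetherian R R := inferInstance
  haveI : IsNoetherian (GrLC.deg0 𝒜') (GrLC.comp 𝒜' 𝒜' (-d)) := Pieces.isNoetherian_comp 𝒜' 𝒜' (-d)
  let w := v.symm.trans h
  haveI : Module.Finite (GrLC.deg0 𝒜') (GrLC.comp 𝒜' 𝓔 d) := Module.Finite.equiv w.symm
  obtain ⟨h1, h2⟩ := finrank_pieceK (𝒜 := 𝒜) (ℳ := 𝓔) h0 (GrLC.comp 𝒜' 𝓔 d) fun x => Iff.rfl
  refine ⟨h2 (Module.Finite.equiv w.symm :), ?_⟩
  rw [h1, ← finrank_piece_ring h0 (-d)]
  exact w.finrank_eq.trans Subspace.dual_finrank_eq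

/-- The top local cohomology of a Gorenstein algebra is the envelope, shifted by the `a`-invariant. -/
theorem exists_gor_top [IsNoetherianRing R] [LocCoh.IsGorensteinRing R] {n : ℕ} (hn : ringKrullDim R = n)
    (I : GrLC.StarInjRes 𝒜 𝒜) :
    ∃ (a : ℤ) (φ : I.H m n ≃ₗ[R] E'), GrLC.endDeg (I.Hgr m n) = ((a : WithTop ℤ) : WithBot (WithTop ℤ)) ∧
      (∀ d, ∀ u ∈ I.Hgr m n d, φ u ∈ 𝓔 (d - a)) ∧ ∀ d, ∀ x ∈ 𝓔 (d - a), φ.symm x ∈ I.Hgr m n d := by
  let I' : GrLC.StarInjRes (SigmaChange.pieces 𝒜) (SigmaChange.pieces 𝒜) :=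
    SigmaChange.res (ℳ := 𝒜) (ℳ' := SigmaChange.pieces 𝒜) (fun _ _ hx => hx) I
  haveI : (SigmaChange.ideal m).toIdeal.IsPrime := (FieldDeg0.isMaximal (hpos_pieces hpos) (isField_deg0 h0)
    (show (SigmaChange.ideal m).toIdeal = _ from hm)).isPrime
  obtain ⟨g, φ₀, hφ₀⟩ := H19.Bass.Gorenstein.exists_top_equiv (isStarLocal_irr hpos h0 hm) n
    (height_irr hpos h0 hm hn) I' E' 𝓔 e (hull_pieces he)
  let φ : I.H m n ≃ₗ[R] E' := φ₀
  have hφ : GrLC.IsGrHomDeg (I.Hgr m n) 𝓔 φ.toLinearMap g := hφ₀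
  letI := Res.hgrDecomp I m n
  have hinv : ∀ d, ∀ x ∈ 𝓔 (d + g), φ.symm x ∈ I.Hgr m n d := fun d x hx => by
    have h1 := map_proj_deg hφ d (φ.symm x)
    rw [LinearEquiv.coe_coe, φ.apply_symm_apply, proj_of_mem 𝓔 hx] at h1
    rw [← φ.eq_symm_apply.2 h1]
    exact proj_mem (I.Hgr m n) d _
  have hEpos : ∀ d, 0 < d → ∀ x ∈ 𝓔 d, x = 0 := fun d hd x hx => by
    by_contra hx0
    obtain ⟨f, hf, hfx⟩ := exists_hom_ne_zero (𝒞 := 𝓔) hpos h0 hm he hx hx0
    -- maps out of the line through `x`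
    have h1 : LinearMap.toSpanSingleton R E' x = 0 := homDeg_eq_zero (𝒞 := SigmaChange.pieces 𝒜) hpos h0 hm he
      (d := d) (fun g r hr => by
        rw [LinearMap.toSpanSingleton_apply]
        exact SetLike.GradedSMul.smul_mem (A := 𝒜) (B := 𝓔) hr hx) fun r hr => by
      rw [hpos_pieces hpos _ (show -d < 0 by omega), AddSubgroup.mem_bot] at hr
      rw [hr, map_zero]
    exact hx0 (by simpa using LinearMap.congr_fun h1 1)
  refine ⟨-g, φ, le_antisymm ((IntGraded.endDeg_le_iff _).2 fun d hd => ?_) (IntGraded.le_endDeg _ ?_),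
    fun d u hu => ?_, fun d x hx => hinv d x (by rwa [sub_neg_eq_add] at hx)⟩
  · refine (AddSubgroup.eq_bot_iff_forall _).2 fun u hu => φ.injective ?_
    rw [map_zero]
    exact hEpos _ (by omega) _ (hφ d u hu)
  · intro h
    have h1 := hinv (-g) (Dual0.u1 (m := SigmaChange.ideal m) e) (by
      rw [neg_add_cancel]; exact hull_u1_mem hpos h0 hm he)
    rw [h, AddSubgroup.mem_bot, LinearEquiv.map_eq_zero_iff] at h1
    exact hull_u1_ne_zero hpos h0 hm he h1
  · rw [sub_neg_eq_add]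
    exact hφ d u hu

omit he

/-- A Gorenstein algebra, shifted by its `a`-invariant, is its canonical module. -/
theorem isStarCanonical_shift [IsNoetherianRing R] [LocCoh.IsGorensteinRing R] {n : ℕ} (hn : ringKrullDim R = n)
    (I : GrLC.StarInjRes 𝒜 𝒜) {a : ℤ}
    (ha : GrLC.endDeg (I.Hgr m n) = ((a : WithTop ℤ) : WithBot (WithTop ℤ)))
    (he : GrLC.IsStarInjHull 𝒜 (GrLC.quotGr 𝒜 m) 𝓔 e) :
    letI := shiftDecomp (SigmaChange.pieces 𝒜) a
    haveI := shiftGSMul 𝒜 (SigmaChange.pieces 𝒜) a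
    GrLC.IsStarCanonical 𝒜 (shiftGr (SigmaChange.pieces 𝒜) a) 𝓔 m n I := by
  letI := shiftDecomp (SigmaChange.pieces 𝒜) a
  haveI := shiftGSMul 𝒜 (SigmaChange.pieces 𝒜) a
  obtain ⟨a', φ, ha', -, hφ⟩ := exists_gor_top hpos h0 hm he hn I
  obtain rfl : a' = a := by
    rw [ha, WithBot.coe_inj, WithTop.coe_inj] at ha'
    exact ha'.symm
  refine ⟨inferInstance, (LinearMap.ringLmapEquivSelf R R E').trans φ.symm, fun d f hf => ?_⟩
  show φ.symm (f 1) ∈ I.Hgr m n d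
  refine hφ d _ ?_
  have h := hf (-a') 1 (by
    rw [mem_shiftGr, neg_add_cancel]
    exact SetLike.one_mem_graded 𝒜)
  rwa [neg_add_eq_sub] at h

end Groth.Agent.Lib.Graded.Seg
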