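import Groth.Agent.Lib.Graded.FieldDeg0
import Groth.Agent.Lib.Graded.CMGrowth
import Groth.Agent.Lib.Graded.CMVanish
import Groth.Agent.Lib.Graded.RegDeg
import Groth.Agent.Lib.Graded.Avoid
import Groth.Agent.Lib.Graded.FinitenessApp
import Groth.Agent.Lib.Graded.Dual0
import Mathlib.LinearAlgebra.FreeModule.Finite.Matrix
import Mathlib.LinearAlgebra.Dual.Lemmas

/-!
# Below the `a`-invariant the top local cohomology has dimension at least two
-/

universe u

set_option maxHeartbeats 2000000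
set_option linter.unusedSectionVars false

namespace Groth.Agent.Lib.Graded.Seg

open Groth.Agent.Lib.Graded Groth.Agent.Lib.Graded.StarInj GrLC

/-- The top local cohomology of a standard Cohen-Macaulay algebra of dimension at least two has
dimension at least two in each degree below the `a`-invariant. -/
theorem two_le_finrank (R : Type u) [CommRing R] [LocCoh.IsCohenMacaulayRing R] (𝒜 : ℤ → AddSubgroup R) [GradedRing 𝒜] (hpos : ∀ n : ℤ, n < 0 → 𝒜 n = ⊥) (h0 : IsField (GrLC.deg0 𝒜)) (m : HomogeneousIdeal 𝒜) (hm : GrLC.IsStarLocal 𝒜 m) (hmsp : m.toIdeal = Ideal.span (⋃ n ∈ Set.Ioi (0 : ℤ), (𝒜 n : Set R))) (hstd : Ideal.span (⋃ n ∈ Set.Ioi (0 : ℤ), (𝒜 n : Set R)) = Ideal.span ((𝒜 1 : AddSubgroup R) : Set R)) (n : ℕ) (hn : ringKrullDim R = n) (h2 : 2 ≤ n) (I : GrLC.StarInjRes 𝒜 𝒜) (a : ℤ) (ha : GrLC.endDeg (I.Hgr m n) = ((a : WithTop ℤ) : WithBot (WithTop ℤ))) (j : ℤ) (hj : -a < j) : 2 ≤ Module.finrank (GrLC.deg0 𝒜) (I.Hcomp m n (-j))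 := by
  classical
  letI : Field (GrLC.deg0 𝒜) := h0.toField
  haveI : IsNoetherianRing R := inferInstance
  have hstd1 : m.toIdeal = Ideal.span ((𝒜 1 : AddSubgroup R) : Set R) := hmsp.trans hstd
  have hpos' : ∀ i : ℤ, i < 0 → ∀ c ∈ 𝒜 i, c = 0 := fun i hi c hc => by rwa [hpos i hi, AddSubgroup.mem_bot] at hc
  have hm' : m.toIdeal = (FGInduction.posIdeal 𝒜).toIdeal := hmsp.trans (FGInduction.span_iUnion_Ioi 𝒜)
  have hfinH : Module.Finite (GrLC.deg0 𝒜) (I.Hcomp m n (-j)) := FinitenessApp.finite_Hcomp hpos' hm' (GrLC.GMod.of 𝒜 R 𝒜) (inferInstanceAs (Module.Finite R R)) I n (-j)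
  letI := Res.hgrDecomp I m n
  haveI := Res.hgrGSMul I m n
  haveI : Module.Finite (GrLC.deg0 𝒜) (I.Hcomp m n a) := FinitenessApp.finite_Hcomp hpos' hm' (GrLC.GMod.of 𝒜 R 𝒜) (inferInstanceAs (Module.Finite R R)) I n a
  haveI := hfinH
  have hane : I.Hgr m n a ≠ ⊥ := by
    intro hbot
    have hle : GrLC.endDeg (I.Hgr m n) ≤ (((a - 1 : ℤ) : WithTop ℤ) : WithBot (WithTop ℤ)) := by
      refine (IntGraded.endDeg_le_iff _).2 fun g hg => ?_
      by_contra hne
      have := IntGraded.le_endDeg _ hne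
      rw [ha, WithBot.coe_le_coe, WithTop.coe_le_coe] at this
      exact hne ((show g = a by omega) ▸ hbot)
    rw [ha, WithBot.coe_le_coe, WithTop.coe_le_coe] at hle
    omega
  obtain ⟨z, hz, hz0⟩ : ∃ z ∈ I.Hgr m n a, z ≠ 0 := by
    by_contra hc
    simp only [not_exists, not_and, not_not] at hc
    exact hane ((AddSubgroup.eq_bot_iff_forall _).2 hc)
  let zz : I.Hcomp m n a := ⟨z, hz⟩
  obtain ⟨l, hl⟩ : ∃ l : Module.Dual (GrLC.deg0 𝒜) (I.Hcomp m n a), l zz ≠ 0 := by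
    by_contra hc
    simp only [not_exists, not_not] at hc
    exact hz0 (congrArg Subtype.val ((Module.forall_dual_apply_eq_zero_iff (GrLC.deg0 𝒜) zz).1 hc))
  let Λ : I.H m n →+ GrLC.deg0 𝒜 :=
    { toFun := fun ξ => l ⟨Basic.proj (I.Hgr m n) a ξ, Basic.proj_mem (I.Hgr m n) a ξ⟩
      map_zero' := by
        rw [← map_zero l]
        exact congrArg l (Subtype.ext (map_zero _))
      map_add' := fun x y => by
        rw [← map_add l]
        exact congrArg l (Subtype.ext (map_add (Basic.proj (I.Hgr m n) a) x y)) }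
  have hΛz : Λ z = l zz := congrArg l (Subtype.ext (Basic.proj_of_mem (I.Hgr m n) hz))
  have hΛne : ∀ ξ (g : ℤ), ξ ∈ I.Hgr m n g → g ≠ a → Λ ξ = 0 := fun ξ g hξ hg => by
    change l ⟨_, _⟩ = 0
    rw [← map_zero l]
    exact congrArg l (Subtype.ext (Basic.proj_of_mem_ne (I.Hgr m n) hξ hg))
  let J : Ideal R :=
    { carrier := {f | ∀ ξ, Λ (f • ξ) = 0}
      zero_mem' := fun ξ => by rw [zero_smul, map_zero]
      add_mem' := fun {f g} hf hg ξ => by rw [add_smul, map_add, hf ξ, hg ξ, add_zero]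
      smul_mem' := fun c f hf ξ => by rw [smul_eq_mul, mul_comm, mul_smul]; exact hf (c • ξ) }
  have hJhom : ∀ (i : ℤ), ∀ f ∈ J, Basic.proj 𝒜 i f ∈ J := by
    intro i f hf ξ
    induction ξ using Basic.induction_hom (I.Hgr m n) with
    | zero => rw [smul_zero, map_zero]
    | add x y hx hy => rw [smul_add, map_add, hx, hy, add_zero]
    | hom g ξ hξ =>
      by_cases hig : i + g = a
      · have h1 := hf ξ
        change l ⟨_, _⟩ = 0 at h1 ⊢
        rw [← h1]
        refine congrArg l (Subtype.ext ?_)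
        change Basic.proj (I.Hgr m n) a (Basic.proj 𝒜 i f • ξ) = Basic.proj (I.Hgr m n) a (f • ξ)
        rw [Basic.proj_smul_mem 𝒜 (I.Hgr m n) hξ, Basic.proj_smul_mem 𝒜 (I.Hgr m n) hξ,
          show a - g = i by omega, Basic.proj_of_mem 𝒜 (Basic.proj_mem 𝒜 i f)]
      · exact hΛne _ _ (Basic.smul_mem_add 𝒜 _ (Basic.proj_mem 𝒜 i f) hξ) hig
  have hzd : ∀ e : ℤ, 0 < e → ∀ f ∈ 𝒜 e, f ∈ J → ¬ IsSMulRegular R f := by
    intro e he' f hf hfJ hreg
    let P : Submodule R R := LinearMap.range (f • (LinearMap.id : R →ₗ[R] R))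
    have hP : P.IsHomogeneous 𝒜 := SmulSeq.isHomogeneous_range_smul hf
    letI := Basic.qDecomp 𝒜 P hP
    haveI := Basic.qGSMul 𝒜 𝒜 P
    obtain ⟨F⟩ := Res.nonempty_starInjRes 𝒜 (Basic.qGr 𝒜 P)
    obtain ⟨g, δ, hg, -, hker, -, -, -⟩ := SmulSeq.exists_seq m hf hreg (π := P.mkQ)
      (Basic.isGrHom_mkQ (ℳ := 𝒜) P) P.mkQ_surjective P.ker_mkQ I F
    have hvan : F.Hgr m n a = ⊥ := by
      refine (Van.V_toMod_iff F).1 (CMVanish.V_of_supportDim_lt _ ?_)
      rw [Module.supportDim_eq_ringKrullDim_quotient_annihilator, Ideal.annihilator_quotient]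
      have hspan : P = Ideal.span {f} := by
        refine (RegDeg.range_smul_id f R).trans ?_
        rw [Ideal.smul_eq_mul, Ideal.mul_top]
      rw [hspan]
      have h1 := ringKrullDim_quotient_succ_le_of_nonZeroDivisor (R := R) (r := f)
        (mem_nonZeroDivisors_iff_right.2 fun x hx => isSMulRegular_iff_right_eq_zero_of_smul.1 hreg x (by rwa [smul_eq_mul, mul_comm]))
      rw [hn] at h1
      obtain h2 | ⟨d, hd⟩ : ringKrullDim (R ⧸ Ideal.span {f}) = ⊥ ∨
          ∃ d : ℕ∞, ringKrullDim (R ⧸ Ideal.span {f}) = (d : WithBot ℕ∞) := by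
        cases hcase : ringKrullDim (R ⧸ Ideal.span {f}) with
        | bot => exact Or.inl rfl
        | coe d => exact Or.inr ⟨d, rfl⟩
      · rw [h2]; exact WithBot.bot_lt_coe _
      · rw [hd] at h1 ⊢
        have h3 : d + 1 ≤ (n : ℕ∞) := by exact_mod_cast h1
        have h4 : d < (n : ℕ∞) := lt_of_lt_of_le (ENat.lt_add_one_iff (ne_top_of_le_ne_top
          (ENat.natCast_ne_top n) (le_self_add.trans h3)) |>.2 le_rfl) h3
        exact_mod_cast h4
    have h1 : g n z ∈ F.Hgr m n a := hg n a z hz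
    rw [hvan, AddSubgroup.mem_bot, hker n z] at h1
    obtain ⟨w, hw⟩ := h1
    exact hl (hΛz ▸ hw ▸ hfJ w)
  have hJne : J ≠ ⊤ := fun h => hl (by
    have := (h ▸ Submodule.mem_top : (1 : R) ∈ J) z
    rwa [one_smul, hΛz] at this)
  obtain ⟨P, hP, hJP, hPm⟩ : ∃ P ∈ associatedPrimes R R, J ≤ P ∧ P ≤ m.toIdeal := by
    have hJm : ∀ f ∈ J, Basic.proj 𝒜 0 f = 0 := fun f hf => by
      by_contra hne
      exact hJne (Ideal.eq_top_of_isUnit_mem _ (hJhom 0 f hf)
        ((FieldDeg0.eq_zero_or_unit hpos h0 (Basic.proj_mem 𝒜 0 f)).resolve_left hne))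
    by_contra hc
    simp only [not_exists, not_and] at hc
    have hfin := associatedPrimes.finite R R
    let S := hfin.toFinset.filter fun p => p ≤ m.toIdeal
    have hS : ∀ p ∈ S, p ∈ associatedPrimes R R ∧ p ≤ m.toIdeal := fun p hp =>
      ⟨hfin.mem_toFinset.1 (Finset.mem_filter.1 hp).1, (Finset.mem_filter.1 hp).2⟩
    obtain ⟨k, hk, r, hr, hrJ, hrP⟩ := Avoid.exists_pos_hom_not_mem (𝒜 := 𝒜)
      (fun q hq r hr => by rwa [hpos q hq, AddSubgroup.mem_bot] at hr) J S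
      (fun p hp => (hS p hp).1.1) (fun p hp => by
        by_contra hcp
        simp only [not_exists, not_and, not_not] at hcp
        refine hc p (hS p hp).1 (fun f hf => ?_) (hS p hp).2
        rw [← Basic.sum_proj 𝒜 f]
        refine sum_mem fun i _ => ?_
        rcases lt_trichotomy i 0 with hi | rfl | hi
        · have := Basic.proj_mem 𝒜 i f
          rw [hpos i hi, AddSubgroup.mem_bot] at this
          rw [this]; exact zero_mem _
        · rw [hJm f hf]; exact zero_mem _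
        · exact hcp i hi _ (Basic.proj_mem 𝒜 i f) (hJhom i f hf))
    refine hzd k hk r hr hrJ (isSMulRegular_iff_right_eq_zero_of_smul.2 fun x hx => ?_)
    by_contra hx0
    obtain ⟨g, hg⟩ := Basic.exists_proj_ne_zero 𝒜 hx0
    have hrx : r • Basic.proj 𝒜 g x = 0 := by
      have h1 := Basic.proj_smul_of_mem 𝒜 𝒜 hr (k + g) x
      rwa [hx, map_zero, add_sub_cancel_left, eq_comm] at h1
    obtain ⟨d, t, ht, ht0, hprime⟩ := Ass.exists_prime_ann 𝒜 𝒜 (Basic.proj_mem 𝒜 g x) hg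
    set Q := (Submodule.span R {t • Basic.proj 𝒜 g x}).annihilator with hQdef
    have hQass : Q ∈ associatedPrimes R R := by
      refine isAssociatedPrime_iff.2 ⟨hprime, t • Basic.proj 𝒜 g x, ?_⟩
      ext s
      rw [hQdef, Submodule.mem_annihilator_span_singleton, Submodule.mem_colon_singleton, Submodule.mem_bot]
    have hQm : Q ≤ m.toIdeal := FieldDeg0.le_of_ne_top hpos h0 hmsp
      ⟨Q, Ass.isHomogeneous_ann 𝒜 𝒜 (Basic.smul_mem_add 𝒜 𝒜 ht (Basic.proj_mem 𝒜 g x))⟩ hprime.ne_top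
    refine hrP Q (Finset.mem_filter.2 ⟨hfin.mem_toFinset.2 hQass, hQm⟩) ?_
    rw [hQdef, Submodule.mem_annihilator_span_singleton, smul_comm, hrx, smul_zero]
  obtain ⟨i, hi, hij⟩ : ∃ i : ℕ, 0 < i ∧ (i : ℤ) = a + j := ⟨(a + j).toNat, by omega, by omega⟩
  obtain ⟨f₁, hf₁, f₂, hf₂, hind⟩ := CMGrowth.exists_pair hpos hm h0 hstd1 hn h2 hP hPm hi
  have hmul : ∀ f ∈ 𝒜 (i : ℤ), ∀ ξ : I.Hcomp m n (-j), f • (ξ : I.H m n) ∈ I.Hgr m n a := fun f hf ξ => by
    have := Basic.smul_mem_add 𝒜 (I.Hgr m n) hf (show (ξ : I.H m n) ∈ I.Hgr m n (-j) from ξ.2)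
    rwa [show (i : ℤ) + -j = a by omega] at this
  let ψ : ∀ f ∈ 𝒜 (i : ℤ), Module.Dual (GrLC.deg0 𝒜) (I.Hcomp m n (-j)) := fun f hf =>
    { toFun := fun ξ => l ⟨f • (ξ : I.H m n), hmul f hf ξ⟩
      map_add' := fun x y => by
        rw [← map_add l]
        exact congrArg l (Subtype.ext (smul_add f (x : I.H m n) y))
      map_smul' := fun c x => by
        rw [RingHom.id_apply, ← map_smul l]
        exact congrArg l (Subtype.ext (smul_comm f (c : R) (x : I.H m n))) }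
  have hLI : LinearIndependent (GrLC.deg0 𝒜) ![ψ f₁ hf₁, ψ f₂ hf₂] := by
    refine LinearIndependent.pair_iff.2 fun c d hcd => hind c d (hJP fun ξ => ?_)
    have hf : (c : R) * f₁ + (d : R) * f₂ ∈ 𝒜 (i : ℤ) := by
      refine add_mem ?_ ?_
      · have := SetLike.mul_mem_graded (show (c : R) ∈ 𝒜 0 from c.2) hf₁
        rwa [zero_add] at this
      · have := SetLike.mul_mem_graded (show (d : R) ∈ 𝒜 0 from d.2) hf₂
        rwa [zero_add] at this
    induction ξ using Basic.induction_hom (I.Hgr m n) with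
    | zero => rw [smul_zero, map_zero]
    | add x y hx hy => rw [smul_add, map_add, hx, hy, add_zero]
    | hom g ξ hξ =>
      by_cases hg : g = -j
      · subst hg
        have h1 := LinearMap.congr_fun hcd ⟨ξ, hξ⟩
        have h2 : ψ _ hf ⟨ξ, hξ⟩ = (c • ψ f₁ hf₁ + d • ψ f₂ hf₂) ⟨ξ, hξ⟩ := by
          change l _ = c • l _ + d • l _
          rw [← map_smul l, ← map_smul l, ← map_add l]
          refine congrArg l (Subtype.ext ?_)
          change ((c : R) * f₁ + (d : R) * f₂) • ξ = (c : R) • f₁ • ξ + (d : R) • f₂ • ξ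
          rw [add_smul, mul_smul, mul_smul]
        rw [h1] at h2
        have h3 : Λ (((c : R) * f₁ + (d : R) * f₂) • ξ) = ψ _ hf ⟨ξ, hξ⟩ :=
          congrArg l (Subtype.ext (Basic.proj_of_mem (I.Hgr m n) (hmul _ hf ⟨ξ, hξ⟩)))
        rw [h3, h2]
        rfl
      · exact hΛne _ _ (Basic.smul_mem_add 𝒜 _ hf hξ) (by omega)
  haveI := hfinH
  haveI : Module.Finite (GrLC.deg0 𝒜) (Module.Dual (GrLC.deg0 𝒜) (I.Hcomp m n (-j))) := inferInstance
  have h := hLI.fintype_card_le_finrank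
  rwa [Fintype.card_fin, Subspace.dual_finrank_eq] at h

end Groth.Agent.Lib.Graded.Seg
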