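import Groth.Agent.Lib.Graded.Seg.TopIso
import Groth.Agent.Lib.Graded.Seg.GorShift
import Groth.Agent.Lib.Graded.Seg.TopDim
import Groth.Agent.S18650
import Groth.Agent.S18656

/-!
# Gorenstein Segre products have Gorenstein factors
-/

universe u

set_option maxHeartbeats 1600000
set_option linter.unusedSectionVars false

open DirectSum
open scoped TensorProduct

namespace Groth.Agent.Lib.Graded.Seg

open Groth.Agent.Lib.Graded.Basic Groth.Agent.Lib.Graded.StarInj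

variable {k : Type u} [Field k] {R : Type u} [CommRing R] [Algebra k R] {𝒜 : ℤ → Submodule k R} [GradedAlgebra 𝒜]

section One

variable [Nontrivial R] [IsNoetherianRing R] {m : HomogeneousIdeal 𝒜}
  (hpos : ∀ n : ℤ, n < 0 → 𝒜 n = ⊥) (h0 : 𝒜 0 = Submodule.span k {(1 : R)})
  (hm : m.toIdeal = Ideal.span (⋃ n ∈ Set.Ioi (0 : ℤ), (𝒜 n : Set R)))

include hpos h0 hm

/-- The socle of the envelope of the residue field lives in degree zero. -/
theorem socle_hull {E' : Type u} [AddCommGroup E'] [Module R E'] {𝓔 : ℤ → AddSubgroup E'}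
    [DirectSum.Decomposition 𝓔] [SetLike.GradedSMul 𝒜 𝓔] {e : (R ⧸ m.toIdeal) →ₗ[R] E'}
    (he : GrLC.IsStarInjHull 𝒜 (GrLC.quotGr 𝒜 m) 𝓔 e) {g : ℤ} {z : E'} (hz : z ∈ 𝓔 g) (hg : g ≠ 0)
    (hsoc : ∀ t ∈ m.toIdeal, t • z = 0) : z = 0 := by
  have h1 : LinearMap.toSpanSingleton R E' z = 0 := homDeg_eq_zero (𝒞 := SigmaChange.pieces 𝒜) hpos h0 hm he
    (d := g) (fun i r hr => by
      rw [LinearMap.toSpanSingleton_apply]
      exact SetLike.GradedSMul.smul_mem (A := 𝒜) (B := 𝓔) hr hz) fun r hr => by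
    rw [LinearMap.toSpanSingleton_apply]
    rcases lt_or_gt_of_ne hg with h | h
    · exact hsoc r (hm ▸ Ideal.subset_span (Set.mem_biUnion (Set.mem_Ioi.2 (by omega : 0 < -g)) hr))
    · rw [hpos_pieces hpos _ (show -g < 0 by omega), AddSubgroup.mem_bot] at hr
      rw [hr, zero_smul]
  simpa using LinearMap.congr_fun h1 1

/-- A top local cohomology with a socle of dimension one is dual to a quotient of the ring; if the
dimensions agree the ring is Gorenstein. -/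
theorem gor_of_socle [LocCoh.IsCohenMacaulayRing R] {n : ℕ} (hn : ringKrullDim R = n)
    (I : GrLC.StarInjRes 𝒜 𝒜) [Module k (I.H m n)] [IsScalarTower k R (I.H m n)]
    [SetLike.GradedSMul 𝒜 (I.Hgr m n)] {c : ℤ}
    (hone : Module.finrank k (pieceK 𝒜 (I.Hgr m n) c) = 1)
    (hsoc : ∀ d, ∀ x ∈ I.Hgr m n d, (∀ t ∈ m.toIdeal, t • x = 0) → x ≠ 0 → d = c) :
    (∀ d, Module.finrank k (pieceK 𝒜 (I.Hgr m n) d) ≤ Module.finrank k (𝒜 (c - d))) ∧
      ((∀ d, Module.finrank k (pieceK 𝒜 (I.Hgr m n) d) = Module.finrank k (𝒜 (c - d))) →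
        LocCoh.IsGorensteinRing R) := by
  haveI : (SigmaChange.ideal m).toIdeal.IsPrime := (FieldDeg0.isMaximal (hpos_pieces hpos) (isField_deg0 h0)
    (show (SigmaChange.ideal m).toIdeal = _ from hm)).isPrime
  letI := Res.hgrDecomp I m n
  letI := HullPrime.quotDecomp m
  haveI := HullPrime.quotGSMul m
  obtain ⟨E, e, he⟩ := StarInj.exists_hull 𝒜 (GrLC.quotGr 𝒜 m)
  obtain ⟨u, hu0, huspan⟩ := finrank_eq_one_iff'.1 hone
  have hu0' : (u : I.H m n) ≠ 0 := fun h => hu0 (Subtype.ext h)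
  obtain ⟨g, hg, hgu⟩ := exists_hom_ne_zero (𝒞 := I.Hgr m n) hpos h0 hm he (show (u : I.H m n) ∈ I.Hgr m n c from u.2) hu0'
  letI := shiftDecomp E.gr (-c)
  haveI := shiftGSMul 𝒜 E.gr (-c)
  have hg' : GrLC.IsGrHom (I.Hgr m n) (shiftGr E.gr (-c)) g := fun d x hx => hg d x hx
  have htors : GrLC.gam (SigmaChange.ideal m).toIdeal (I.H m n) = ⊤ := eq_top_iff.2 fun x _ => by
    obtain ⟨z, rfl⟩ := Submodule.mkQ_surjective _ x
    obtain ⟨N, hN⟩ := z.2.1
    exact ⟨N, fun r hr => by rw [← map_smul, show r • z = 0 from Subtype.ext (hN r hr), map_zero]⟩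
  haveI : SetLike.GradedSMul (SigmaChange.pieces 𝒜) (I.Hgr m n) := ⟨fun {_ _ _ _} hr hx =>
    SetLike.GradedSMul.smul_mem (A := 𝒜) (B := I.Hgr m n) hr hx⟩
  have hinj : Function.Injective g := by
    rw [← LinearMap.ker_eq_bot, ← inf_top_eq (a := LinearMap.ker g), ← htors]
    refine H19.Bass.Gorenstein.inf_gam_eq_bot (𝒜 := SigmaChange.pieces 𝒜) (m := SigmaChange.ideal m)
      (𝒳 := I.Hgr m n) (isHomogeneous_ker hg') fun d x hxg hx hsx => ?_
    by_contra hx0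
    obtain rfl := hsoc d x hx hsx hx0
    obtain ⟨l, hl⟩ := huspan ⟨x, hx⟩
    have hlx : algebraMap k R l • (u : I.H m n) = x := (algebraMap_smul R l _).trans (congrArg Subtype.val hl)
    rw [LinearMap.mem_ker, ← hlx, map_smul] at hxg
    rcases eq_or_ne l 0 with rfl | hl0
    · rw [map_zero, zero_smul] at hlx; exact hx0 hlx.symm
    · exact hgu (((IsUnit.map (algebraMap k R) (isUnit_iff_ne_zero.2 hl0)).smul_eq_zero).1 hxg)
  letI : Module k E.carrier := Module.compHom _ (algebraMap k R)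
  haveI : IsScalarTower k R E.carrier := IsScalarTower.of_algebraMap_smul fun _ _ => rfl
  have hE : ∀ d, Module.Finite k (pieceK 𝒜 (shiftGr E.gr (-c)) d) ∧
      Module.finrank k (pieceK 𝒜 (shiftGr E.gr (-c)) d) = Module.finrank k (𝒜 (c - d)) := fun d => by
    have h : pieceK 𝒜 (shiftGr E.gr (-c)) d = pieceK 𝒜 E.gr (d + -c) := SetLike.ext fun x => Iff.rfl
    rw [h, show c - d = -(d + -c) by ring]
    exact finrank_hull hpos h0 hm he (d + -c)
  refine ⟨fun d => ?_, fun hdim => ?_⟩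
  · haveI := (hE d).1
    let f : pieceK 𝒜 (I.Hgr m n) d →ₗ[k] pieceK 𝒜 (shiftGr E.gr (-c)) d :=
      (g.restrictScalars k).restrict fun x hx => hg' d x hx
    exact (LinearMap.finrank_le_finrank_of_injective (f := f)
      fun a b h => Subtype.ext (hinj (congrArg Subtype.val h))).trans (hE d).2.le
  · obtain ⟨hb, -⟩ := bijective_of_finrank (𝒯 := 𝒜) (𝒳 := shiftGr E.gr (-c)) hg' hinj (fun d => (hE d).1)
      (fun d => (hE d).2.trans (hdim d).symm)
    let I' : GrLC.StarInjRes (SigmaChange.pieces 𝒜) (SigmaChange.pieces 𝒜) :=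
      SigmaChange.res (ℳ := 𝒜) (ℳ' := SigmaChange.pieces 𝒜) (fun _ _ hx => hx) I
    let X : GrLC.GMod.{u} (SigmaChange.pieces 𝒜) := SigmaChange.gmod (StarInj.shiftMod 𝒜 E.gr (-c))
    exact (Groth.Agent.S18650.result R (SigmaChange.pieces 𝒜) (SigmaChange.ideal m) (isStarLocal_irr hpos h0 hm) n
      (height_irr hpos h0 hm hn) I').2 ⟨X, LinearEquiv.ofBijective g hb,
        fun A B f hf hinj g hg => StarInj.isStarInj_shiftMod he.starInj (-c) (SigmaChange.ungmod A)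
          (SigmaChange.ungmod B) f hf hinj g hg, hg'⟩

/-- A bounded grading with a nonzero piece has a degree. -/
theorem exists_endDeg {A : Type u} [AddCommGroup A] {𝔸 : ℤ → AddSubgroup A} {d : ℤ} (hd : 𝔸 d ≠ ⊥)
    (hneg : GrLC.endDeg 𝔸 < 0) : ∃ a : ℤ, GrLC.endDeg 𝔸 = ((a : WithTop ℤ) : WithBot (WithTop ℤ)) := by
  cases h : GrLC.endDeg 𝔸 with
  | bot =>
    have h1 := IntGraded.le_endDeg 𝔸 hd
    rw [h] at h1
    exact absurd h1 (WithBot.bot_lt_coe _).not_ge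
  | coe y =>
    cases y with
    | top =>
      rw [h] at hneg
      exact absurd hneg.le (by
        rw [show (0 : WithBot (WithTop ℤ)) = (((0 : ℤ) : WithTop ℤ) : WithBot (WithTop ℤ)) from rfl, WithBot.coe_le_coe]
        simp)
    | coe a => exact ⟨a, rfl⟩

end One

variable {S : Type u} [CommRing S] [Algebra k S] {ℬ : ℤ → Submodule k S} [GradedAlgebra ℬ]
variable {T : Type u} [CommRing T] [Algebra k T] {𝒯 : ℤ → Submodule k T} [GradedAlgebra 𝒯]
variable {ψ : T →ₐ[k] R ⊗[k] S}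

theorem tmul_ne_zero {V W : Type u} [AddCommGroup V] [Module k V] [AddCommGroup W] [Module k W] {v : V} {w : W}
    (hv : v ≠ 0) (hw : w ≠ 0) : v ⊗ₜ[k] w ≠ 0 := by
  intro h
  have hinj := tmap_injective (k := k) (f := LinearMap.toSpanSingleton k V v)
    (g := LinearMap.toSpanSingleton k W w) (smul_left_injective k hv) (smul_left_injective k hw)
  have h2 : ((1 : k) ⊗ₜ[k] (1 : k)) = 0 := hinj (by
    rw [TensorProduct.map_tmul, map_zero, LinearMap.toSpanSingleton_apply_one,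
      LinearMap.toSpanSingleton_apply_one, h])
  have h3 := congrArg (TensorProduct.lid k k) h2
  simp at h3

/-- If a Segre product is Gorenstein then so are the factors, and their `a`-invariants agree. -/
theorem gor_factors [Algebra.FiniteType k R] [Algebra.FiniteType k S] [IsNoetherianRing R] [IsNoetherianRing S]
    [IsNoetherianRing T] [Nontrivial R] [Nontrivial S] [Nontrivial T] [LocCoh.IsCohenMacaulayRing R]
    [LocCoh.IsCohenMacaulayRing S] [LocCoh.IsGorensteinRing T]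
    (hposR : ∀ n : ℤ, n < 0 → 𝒜 n = ⊥) (h0R : 𝒜 0 = Submodule.span k {(1 : R)})
    (hposS : ∀ n : ℤ, n < 0 → ℬ n = ⊥) (h0S : ℬ 0 = Submodule.span k {(1 : S)})
    (hposT : ∀ n : ℤ, n < 0 → 𝒯 n = ⊥) (h0T : 𝒯 0 = Submodule.span k {(1 : T)})
    (hψi : Function.Injective ψ)
    (hψ : ∀ n : ℤ, (𝒯 n).map ψ.toLinearMap = GrSeg.segrePiece k 𝒜 ℬ n)
    {mR : HomogeneousIdeal 𝒜} (hmR : mR.toIdeal = Ideal.span (⋃ n ∈ Set.Ioi (0 : ℤ), (𝒜 n : Set R)))
    (hstdR : Ideal.span (⋃ n ∈ Set.Ioi (0 : ℤ), (𝒜 n : Set R)) = Ideal.span ((𝒜 1 : Submodule k R) : Set R))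
    {mS : HomogeneousIdeal ℬ} (hmS : mS.toIdeal = Ideal.span (⋃ n ∈ Set.Ioi (0 : ℤ), (ℬ n : Set S)))
    (hstdS : Ideal.span (⋃ n ∈ Set.Ioi (0 : ℤ), (ℬ n : Set S)) = Ideal.span ((ℬ 1 : Submodule k S) : Set S))
    (I : GrLC.StarInjRes 𝒜 𝒜) (J : GrLC.StarInjRes ℬ ℬ)
    {r s : ℕ} (hr : ringKrullDim R = r) (hs : ringKrullDim S = s) (h2r : 2 ≤ r) (h2s : 2 ≤ s)
    (hdimT : ringKrullDim T = ((r + s - 1 : ℕ) : WithBot ℕ∞))
    (hnegR : GrLC.endDeg (I.Hgr mR r) < 0) (hnegS : GrLC.endDeg (J.Hgr mS s) < 0) :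
    LocCoh.IsGorensteinRing R ∧ LocCoh.IsGorensteinRing S ∧
      GrLC.endDeg (I.Hgr mR r) = GrLC.endDeg (J.Hgr mS s) := by
  classical
  let mT : HomogeneousIdeal 𝒯 := FGInduction.posIdeal 𝒯
  have hmT : mT.toIdeal = Ideal.span (⋃ n ∈ Set.Ioi (0 : ℤ), (𝒯 n : Set T)) := span_pos_eq.symm
  letI := HullPrime.quotDecomp mT
  haveI := HullPrime.quotGSMul mT
  obtain ⟨ET, eT, heT⟩ := StarInj.exists_hull 𝒯 (GrLC.quotGr 𝒯 mT)
  letI : Module k ET.carrier := Module.compHom _ (algebraMap k T)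
  haveI : IsScalarTower k T ET.carrier := IsScalarTower.of_algebraMap_smul fun _ _ => rfl
  obtain ⟨IT⟩ := Res.nonempty_starInjRes 𝒯 𝒯
  obtain ⟨c, φ, -, hφ1, hφ2⟩ := exists_gor_top hposT h0T hmT heT hdimT IT
  letI : Module k (I.H mR r) := Module.compHom _ (algebraMap k R)
  haveI : IsScalarTower k R (I.H mR r) := IsScalarTower.of_algebraMap_smul fun _ _ => rfl
  letI : Module k ((asPieces I).H mR r) := (inferInstance : Module k (I.H mR r))
  haveI : IsScalarTower k R ((asPieces I).H mR r) := (inferInstance : IsScalarTower k R (I.H mR r))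
  letI : Module k (J.H mS s) := Module.compHom _ (algebraMap k S)
  haveI : IsScalarTower k S (J.H mS s) := IsScalarTower.of_algebraMap_smul fun _ _ => rfl
  letI : Module k ((asPieces J).H mS s) := (inferInstance : Module k (J.H mS s))
  haveI : IsScalarTower k S ((asPieces J).H mS s) := (inferInstance : IsScalarTower k S (J.H mS s))
  letI := Res.hgrDecomp I mR r
  haveI := Res.hgrGSMul I mR r
  letI := Res.hgrDecomp J mS s
  haveI := Res.hgrGSMul J mS s
  letI := Res.hgrDecomp IT mT (r + s - 1)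
  haveI := Res.hgrGSMul IT mT (r + s - 1)
  obtain ⟨W, φW, hW⟩ := exists_seg (M := I.H mR r) (N := J.H mS s) 𝒯 (I.Hgr mR r) (J.Hgr mS s) hψ
  letI : Module k W.carrier := Module.compHom _ (algebraMap k T)
  haveI : IsScalarTower k T W.carrier := IsScalarTower.of_algebraMap_smul fun _ _ => rfl
  obtain ⟨Φ, hΦ⟩ := exists_top_iso (ℳ := SigmaChange.pieces 𝒜) (𝒩 := SigmaChange.pieces ℬ)
    (𝒬 := SigmaChange.pieces 𝒯) hposR h0R hposS h0S hposT h0T hψ hmR hmS hmT (asPieces I) (asPieces J)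
    (isSeg_self hψi hψ) (asPieces IT) (by rw [Module.supportDim_self_eq_ringKrullDim, hr])
    (by rw [Module.supportDim_self_eq_ringKrullDim, hs]) h2r h2s (W := W.carrier) (𝒲 := W.gr) hW
  let Θ : W.carrier ≃ₗ[T] ET.carrier := Φ.trans φ
  have hΘ1 : ∀ d, ∀ w ∈ W.gr d, Θ w ∈ ET.gr (d - c) := fun d w hw => hφ1 d _ (hΦ d w hw)
  have hΘ2 : ∀ d, ∀ x ∈ ET.gr (d - c), Θ.symm x ∈ W.gr d := fun d x hx => by
    have hdeg : GrLC.IsGrHomDeg W.gr ET.gr Θ.toLinearMap (-c) := fun d w hw => by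
      rw [← sub_eq_add_neg]
      exact hΘ1 d w hw
    have h1 := map_proj_deg hdeg d (Θ.symm x)
    rw [LinearEquiv.coe_coe, Θ.apply_symm_apply, proj_of_mem ET.gr (by rwa [← sub_eq_add_neg])] at h1
    rw [← Θ.eq_symm_apply.2 h1]
    exact proj_mem W.gr d _
  -- dimensions
  have hR' : ∀ n : ℤ, n < 0 → ∀ c ∈ 𝒜 n, c = 0 := fun n hn c hc => by rwa [hposR n hn, Submodule.mem_bot] at hc
  have hS' : ∀ n : ℤ, n < 0 → ∀ c ∈ ℬ n, c = 0 := fun n hn c hc => by rwa [hposS n hn, Submodule.mem_bot] at hc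
  have hfR : ∀ d, Module.Finite k (pieceK 𝒜 (I.Hgr mR r) d) ∧ Module.finrank k (pieceK 𝒜 (I.Hgr mR r) d) =
      Module.finrank (GrLC.deg0 𝒜) (I.Hcomp mR r d) := fun d => by
    obtain ⟨a1, a2⟩ := finrank_pieceK (𝒜 := 𝒜) (ℳ := I.Hgr mR r) h0R (I.Hcomp mR r d) fun x => Iff.rfl
    exact ⟨a2 (FinitenessApp.finite_Hcomp hR' (hmR.trans span_pos_eq)
      (GrLC.GMod.of 𝒜 R (SigmaChange.pieces 𝒜)) (inferInstanceAs (Module.Finite R R)) (asPieces I) r d), a1⟩
  have hfS : ∀ d, Module.Finite k (pieceK ℬ (J.Hgr mS s) d) ∧ Module.finrank k (pieceK ℬ (J.Hgr mS s) d) =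
      Module.finrank (GrLC.deg0 ℬ) (J.Hcomp mS s d) := fun d => by
    obtain ⟨b1, b2⟩ := finrank_pieceK (𝒜 := ℬ) (ℳ := J.Hgr mS s) h0S (J.Hcomp mS s d) fun x => Iff.rfl
    exact ⟨b2 (FinitenessApp.finite_Hcomp hS' (hmS.trans span_pos_eq)
      (GrLC.GMod.of ℬ S (SigmaChange.pieces ℬ)) (inferInstanceAs (Module.Finite S S)) (asPieces J) s d), b1⟩
  have hfA : ∀ d, Module.Finite k (𝒜 d) := fun d => by
    haveI := Pieces.isNoetherian_comp 𝒜 (SigmaChange.pieces 𝒜) d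
    have h := (finrank_pieceK (𝒜 := 𝒜) h0R (GrLC.comp 𝒜 (SigmaChange.pieces 𝒜) d) fun x => Iff.rfl).2 inferInstance
    rwa [show pieceK 𝒜 (SigmaChange.pieces 𝒜) d = 𝒜 d from SetLike.ext fun x => Iff.rfl] at h
  have hfB : ∀ d, Module.Finite k (ℬ d) := fun d => by
    haveI := Pieces.isNoetherian_comp ℬ (SigmaChange.pieces ℬ) d
    have h := (finrank_pieceK (𝒜 := ℬ) h0S (GrLC.comp ℬ (SigmaChange.pieces ℬ) d) fun x => Iff.rfl).2 inferInstance
    rwa [show pieceK ℬ (SigmaChange.pieces ℬ) d = ℬ d from SetLike.ext fun x => Iff.rfl] at h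
  have hprod : ∀ d, Module.finrank k (pieceK 𝒜 (I.Hgr mR r) d) * Module.finrank k (pieceK ℬ (J.Hgr mS s) d) =
      Module.finrank k (𝒜 (c - d)) * Module.finrank k (ℬ (c - d)) := fun d => by
    haveI := (hfR d).1
    haveI := (hfS d).1
    haveI := hfA (c - d)
    haveI := hfB (c - d)
    haveI : Module.Finite k (pieceK 𝒜 (SigmaChange.pieces 𝒜) (c - d)) :=
      (show pieceK 𝒜 (SigmaChange.pieces 𝒜) (c - d) = 𝒜 (c - d) from SetLike.ext fun x => Iff.rfl) ▸ inferInstance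
    haveI : Module.Finite k (pieceK ℬ (SigmaChange.pieces ℬ) (c - d)) :=
      (show pieceK ℬ (SigmaChange.pieces ℬ) (c - d) = ℬ (c - d) from SetLike.ext fun x => Iff.rfl) ▸ inferInstance
    let u : pieceK 𝒯 W.gr d ≃ₗ[k] pieceK 𝒯 ET.gr (d - c) :=
      { ((Θ.toLinearMap.restrictScalars k).restrict fun w hw => hΘ1 d w hw :
          pieceK 𝒯 W.gr d →ₗ[k] pieceK 𝒯 ET.gr (d - c)) with
        invFun := fun x => ⟨Θ.symm x.1, hΘ2 d x.1 x.2⟩
        left_inv := fun w => Subtype.ext (Θ.symm_apply_apply w.1)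
        right_inv := fun x => Subtype.ext (Θ.apply_symm_apply x.1) }
    rw [← (finrank_seg_piece (𝒜 := 𝒜) (ℬ := ℬ) (𝒯 := 𝒯) hW d).2, u.finrank_eq,
      (finrank_hull hposT h0T hmT heT (d - c)).2, neg_sub,
      show 𝒯 (c - d) = pieceK 𝒯 (SigmaChange.pieces 𝒯) (c - d) from SetLike.ext fun x => Iff.rfl,
      (finrank_seg_piece (𝒜 := 𝒜) (ℬ := ℬ) (𝒯 := 𝒯) (isSeg_self hψi hψ) (c - d)).2,
      show pieceK 𝒜 (SigmaChange.pieces 𝒜) (c - d) = 𝒜 (c - d) from SetLike.ext fun x => Iff.rfl,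
      show pieceK ℬ (SigmaChange.pieces ℬ) (c - d) = ℬ (c - d) from SetLike.ext fun x => Iff.rfl]
  have hc1 : Module.finrank k (pieceK 𝒜 (I.Hgr mR r) c) = 1 ∧ Module.finrank k (pieceK ℬ (J.Hgr mS s) c) = 1 := by
    have h := hprod c
    rw [sub_self, h0R, h0S, finrank_span_singleton one_ne_zero, finrank_span_singleton one_ne_zero, one_mul] at h
    exact ⟨Nat.eq_one_of_mul_eq_one_right h, Nat.eq_one_of_mul_eq_one_left h⟩
  have hneR : I.Hgr mR r c ≠ ⊥ := fun h => by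
    have h1 := hc1.1
    rw [show pieceK 𝒜 (I.Hgr mR r) c = ⊥ from (Submodule.eq_bot_iff _).2 fun x hx =>
      (AddSubgroup.eq_bot_iff_forall _).1 h x hx, finrank_bot] at h1
    exact zero_ne_one h1
  have hneS : J.Hgr mS s c ≠ ⊥ := fun h => by
    have h1 := hc1.2
    rw [show pieceK ℬ (J.Hgr mS s) c = ⊥ from (Submodule.eq_bot_iff _).2 fun x hx =>
      (AddSubgroup.eq_bot_iff_forall _).1 h x hx, finrank_bot] at h1
    exact zero_ne_one h1
  obtain ⟨a, ha⟩ := exists_endDeg hposR h0R hmR hneR hnegR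
  obtain ⟨b, hb⟩ := exists_endDeg hposS h0S hmS hneS hnegS
  let I' : GrLC.StarInjRes (SigmaChange.pieces 𝒜) (SigmaChange.pieces 𝒜) :=
    SigmaChange.res (ℳ := 𝒜) (ℳ' := SigmaChange.pieces 𝒜) (fun _ _ hx => hx) I
  let J' : GrLC.StarInjRes (SigmaChange.pieces ℬ) (SigmaChange.pieces ℬ) :=
    SigmaChange.res (ℳ := ℬ) (ℳ' := SigmaChange.pieces ℬ) (fun _ _ hx => hx) J
  have hca : c = a := by
    have h1 := IntGraded.le_endDeg _ hneR
    rw [ha, WithBot.coe_le_coe, WithTop.coe_le_coe] at h1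
    by_contra hne
    have h2 := two_le_finrank R (SigmaChange.pieces 𝒜) (hpos_pieces hposR) (isField_deg0 h0R)
      (SigmaChange.ideal mR) (isStarLocal_irr hposR h0R hmR) hmR hstdR r hr h2r I' a ha (-c) (by omega)
    rw [neg_neg] at h2
    have h3 := hc1.1
    rw [(hfR c).2] at h3
    exact absurd (h2.trans_eq h3) (by norm_num)
  have hcb : c = b := by
    have h1 := IntGraded.le_endDeg _ hneS
    rw [hb, WithBot.coe_le_coe, WithTop.coe_le_coe] at h1
    by_contra hne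
    have h2 := two_le_finrank S (SigmaChange.pieces ℬ) (hpos_pieces hposS) (isField_deg0 h0S)
      (SigmaChange.ideal mS) (isStarLocal_irr hposS h0S hmS) hmS hstdS s hs h2s J' b hb (-c) (by omega)
    rw [neg_neg] at h2
    have h3 := hc1.2
    rw [(hfS c).2] at h3
    exact absurd (h2.trans_eq h3) (by norm_num)
  have hnvR : ∀ d, d ≤ c → I.Hcomp mR r d ≠ ⊥ := fun d hd =>
    Groth.Agent.S18656.result R (SigmaChange.pieces 𝒜) (hpos_pieces hposR) (isField_deg0 h0R)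
      (SigmaChange.ideal mR) (isStarLocal_irr hposR h0R hmR) hmR hstdR r hr (by omega) I' a ha d (hca ▸ hd)
  have hnvS : ∀ d, d ≤ c → J.Hcomp mS s d ≠ ⊥ := fun d hd =>
    Groth.Agent.S18656.result S (SigmaChange.pieces ℬ) (hpos_pieces hposS) (isField_deg0 h0S)
      (SigmaChange.ideal mS) (isStarLocal_irr hposS h0S hmS) hmS hstdS s hs (by omega) J' b hb d (hcb ▸ hd)
  have hzR : ∀ d, c < d → I.Hgr mR r d = ⊥ := fun d hd =>
    (IntGraded.endDeg_le_iff (I.Hgr mR r)).1 (hca ▸ ha).le d hd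
  have hzS : ∀ d, c < d → J.Hgr mS s d = ⊥ := fun d hd =>
    (IntGraded.endDeg_le_iff (J.Hgr mS s)).1 (hcb ▸ hb).le d hd
  -- socles
  have hkill : ∀ (x : I.H mR r) (y : J.H mS s), (∀ t ∈ mR.toIdeal, t • x = 0) ∨ (∀ t ∈ mS.toIdeal, t • y = 0) →
      ∀ w, φW w = x ⊗ₜ[k] y → ∀ t ∈ mT.toIdeal, t • w = 0 := by
    intro x y hxy w hw t ht
    refine hW.injective ?_
    rw [map_zero, hW.map_smul, hw]
    rw [hmT] at ht
    induction ht using Submodule.span_induction with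
    | mem t ht =>
      obtain ⟨i, hi, hti⟩ := Set.mem_iUnion₂.1 ht
      have h : ψ t ∈ GrSeg.segrePiece k 𝒜 ℬ i := hψ i ▸ Submodule.mem_map_of_mem hti
      generalize ψ t = z at h ⊢
      induction h using Submodule.span_induction with
      | mem z hz =>
        obtain ⟨p, hp, q, hq, rfl⟩ := hz
        rw [GrSeg.act_tmul]
        rcases hxy with h | h
        · rw [h p (hmR ▸ Ideal.subset_span (Set.mem_biUnion hi hp)), TensorProduct.zero_tmul]
        · rw [h q (hmS ▸ Ideal.subset_span (Set.mem_biUnion hi hq)), TensorProduct.tmul_zero]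
      | zero => simp
      | add z z' _ _ hz hz' => rw [map_add, LinearMap.add_apply, hz, hz', add_zero]
      | smul l z _ hz => rw [map_smul, LinearMap.smul_apply, hz, smul_zero]
    | zero => simp
    | add t t' _ _ h h' => rw [map_add, map_add, LinearMap.add_apply, h, h', add_zero]
    | smul l t _ h => rw [smul_eq_mul, map_mul, act_mul, h, map_zero]
  have hsocT : ∀ d, ∀ x ∈ I.Hgr mR r d, ∀ y ∈ J.Hgr mS s d,
      (∀ t ∈ mR.toIdeal, t • x = 0) ∨ (∀ t ∈ mS.toIdeal, t • y = 0) → x ≠ 0 → y ≠ 0 → d = c := by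
    intro d x hx y hy hxy hx0 hy0
    obtain ⟨w, hw, hwxy⟩ := (hW.image_piece d).ge
      (show x ⊗ₜ[k] y ∈ GrSeg.segrePiece k (I.Hgr mR r) (J.Hgr mS s) d from
        Submodule.subset_span ⟨x, hx, y, hy, rfl⟩)
    by_contra hne
    have h := socle_hull hposT h0T hmT heT (hΘ1 d w hw) (sub_ne_zero.2 hne) fun t ht => by
      rw [← map_smul, hkill x y hxy w hwxy t ht, map_zero]
    rw [LinearEquiv.map_eq_zero_iff] at h
    exact tmul_ne_zero hx0 hy0 (by rw [← hwxy, h, map_zero])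
  obtain ⟨hleR, hgR⟩ := gor_of_socle hposR h0R hmR hr I hc1.1 fun d x hx hsx hx0 => by
    rcases lt_or_ge c d with h | h
    · exact absurd ((AddSubgroup.eq_bot_iff_forall _).1 (hzR d h) x hx) hx0
    · obtain ⟨y, hy, hy0⟩ := (Submodule.ne_bot_iff _).1 (hnvS d h)
      exact hsocT d x hx y hy (Or.inl hsx) hx0 hy0
  obtain ⟨hleS, hgS⟩ := gor_of_socle hposS h0S hmS hs J hc1.2 fun d y hy hsy hy0 => by
    rcases lt_or_ge c d with h | h
    · exact absurd ((AddSubgroup.eq_bot_iff_forall _).1 (hzS d h) y hy) hy0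
    · obtain ⟨x, hx, hx0⟩ := (Submodule.ne_bot_iff _).1 (hnvR d h)
      exact hsocT d x hx y hy (Or.inr hsy) hx0 hy0
  have heq : ∀ d, Module.finrank k (pieceK 𝒜 (I.Hgr mR r) d) = Module.finrank k (𝒜 (c - d)) ∧
      Module.finrank k (pieceK ℬ (J.Hgr mS s) d) = Module.finrank k (ℬ (c - d)) := fun d => by
    rcases lt_or_ge c d with h | h
    · constructor
      · rw [hposR _ (by omega), show pieceK 𝒜 (I.Hgr mR r) d = ⊥ from (Submodule.eq_bot_iff _).2 fun x hx =>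
          (AddSubgroup.eq_bot_iff_forall _).1 (hzR d h) x hx, finrank_bot, finrank_bot]
      · rw [hposS _ (by omega), show pieceK ℬ (J.Hgr mS s) d = ⊥ from (Submodule.eq_bot_iff _).2 fun x hx =>
          (AddSubgroup.eq_bot_iff_forall _).1 (hzS d h) x hx, finrank_bot, finrank_bot]
    · haveI := (hfR d).1
      haveI := (hfS d).1
      have h1 : 0 < Module.finrank k (pieceK 𝒜 (I.Hgr mR r) d) := Nat.pos_of_ne_zero fun h0 => hnvR d h
        ((Submodule.eq_bot_iff _).2 fun x hx => congrArg Subtype.val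
          ((Module.finrank_zero_iff (R := k)).1 h0 |>.elim (⟨x, hx⟩ : pieceK 𝒜 (I.Hgr mR r) d) 0))
      have h2 : 0 < Module.finrank k (pieceK ℬ (J.Hgr mS s) d) := Nat.pos_of_ne_zero fun h0 => hnvS d h
        ((Submodule.eq_bot_iff _).2 fun x hx => congrArg Subtype.val
          ((Module.finrank_zero_iff (R := k)).1 h0 |>.elim (⟨x, hx⟩ : pieceK ℬ (J.Hgr mS s) d) 0))
      have hp := hprod d
      have hA := hleR d
      have hB := hleS d
      constructor
      · by_contra hne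
        exact absurd hp (Nat.ne_of_lt (Nat.mul_lt_mul_of_lt_of_le (lt_of_le_of_ne hA hne) hB (h2.trans_le hB)))
      · by_contra hne
        exact absurd hp (Nat.ne_of_lt (Nat.mul_lt_mul_of_le_of_lt hA (lt_of_le_of_ne hB hne) (h1.trans_le hA)))
  exact ⟨hgR fun d => (heq d).1, hgS fun d => (heq d).2, by rw [ha, hb, ← hca, ← hcb]⟩

end Groth.Agent.Lib.Graded.Seg
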