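import Groth.Agent.Lib.Graded.Seg.AcyRes
import Groth.Agent.Lib.Graded.Seg.Piece

/-!
# Segre products with a module on which an element of positive degree is invertible
-/

universe u

set_option maxHeartbeats 1600000
set_option linter.unusedSectionVars false

open DirectSum
open scoped TensorProduct

namespace Groth.Agent.Lib.Graded.Seg

open Groth.Agent.Lib.Graded.Basic Groth.Agent.Lib.Graded.StarInj

variable {k : Type u} [Field k] {R : Type u} [CommRing R] [Algebra k R] {𝒜 : ℤ → Submodule k R} [GradedAlgebra 𝒜]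
variable {S : Type u} [CommRing S] [Algebra k S] {ℬ : ℤ → Submodule k S} [GradedAlgebra ℬ]
variable {T : Type u} [CommRing T] [Algebra k T] {𝒯 : ℤ → Submodule k T} [GradedAlgebra 𝒯]
variable {ψ : T →ₐ[k] R ⊗[k] S}
variable {mR : HomogeneousIdeal 𝒜} {mT : HomogeneousIdeal 𝒯}

theorem psi_mem_map_pow (hψ : ∀ n : ℤ, (𝒯 n).map ψ.toLinearMap = GrSeg.segrePiece k 𝒜 ℬ n)
    (hmR : mR.toIdeal = Ideal.span (⋃ n ∈ Set.Ioi (0 : ℤ), (𝒜 n : Set R)))
    (hmT : mT.toIdeal = Ideal.span (⋃ n ∈ Set.Ioi (0 : ℤ), (𝒯 n : Set T))) (N : ℕ) :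
    ∀ t ∈ mT.toIdeal ^ N, ψ t ∈ (mR.toIdeal ^ N).map
      (Algebra.TensorProduct.includeLeft : R →ₐ[k] R ⊗[k] S) := by
  intro t ht
  let incl : R →+* R ⊗[k] S := (Algebra.TensorProduct.includeLeft : R →ₐ[k] R ⊗[k] S)
  have hle : mT.toIdeal.map (ψ : T →+* R ⊗[k] S) ≤ mR.toIdeal.map incl := by
    rw [hmT, Ideal.map_span, Ideal.span_le]
    rintro _ ⟨x, hx, rfl⟩
    obtain ⟨i, hi, hxi⟩ := Set.mem_iUnion₂.1 hx
    have h : ψ x ∈ GrSeg.segrePiece k 𝒜 ℬ i := hψ i ▸ Submodule.mem_map_of_mem hxi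
    refine (Submodule.span_le.2 ?_ : GrSeg.segrePiece k 𝒜 ℬ i ≤
      (mR.toIdeal.map incl).restrictScalars k) h
    rintro _ ⟨a, ha, b, -, rfl⟩
    have h1 : a ⊗ₜ[k] b = incl a * (1 ⊗ₜ[k] b) := by simp [incl]
    show a ⊗ₜ[k] b ∈ mR.toIdeal.map incl
    rw [h1]
    exact Ideal.mul_mem_right _ _ (Ideal.mem_map_of_mem _ (hmR ▸ Ideal.subset_span (Set.mem_biUnion hi ha)))
  have h := Ideal.pow_right_mono hle N
  rw [← Ideal.map_pow, ← Ideal.map_pow] at h
  exact h (Ideal.mem_map_of_mem _ ht)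

section Kill

variable {X : Type u} [AddCommGroup X] [Module R X] [Module k X] [IsScalarTower k R X]
variable {N : Type u} [AddCommGroup N] [Module S N] [Module k N] [IsScalarTower k S N]

/-- The torsion of one factor is killed by a power of the irrelevant ideal of the Segre product. -/
theorem exists_kill (hψ : ∀ n : ℤ, (𝒯 n).map ψ.toLinearMap = GrSeg.segrePiece k 𝒜 ℬ n)
    (hmR : mR.toIdeal = Ideal.span (⋃ n ∈ Set.Ioi (0 : ℤ), (𝒜 n : Set R)))
    (hmT : mT.toIdeal = Ideal.span (⋃ n ∈ Set.Ioi (0 : ℤ), (𝒯 n : Set T)))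
    (v : GrLC.gam mR.toIdeal X ⊗[k] N) : ∃ M : ℕ, ∀ t ∈ mT.toIdeal ^ M, GrSeg.act k R S X N (ψ t)
      (TensorProduct.map ((GrLC.gam mR.toIdeal X).subtype.restrictScalars k) LinearMap.id v) = 0 := by
  induction v with
  | zero => exact ⟨0, fun t _ => by simp⟩
  | add p q hp hq =>
    obtain ⟨A, hA⟩ := hp
    obtain ⟨B, hB⟩ := hq
    refine ⟨A + B, fun t ht => ?_⟩
    rw [map_add, map_add, hA t (Ideal.pow_le_pow_right (Nat.le_add_right A B) ht),
      hB t (Ideal.pow_le_pow_right (Nat.le_add_left B A) ht), add_zero]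
  | tmul x y =>
    obtain ⟨M, hM⟩ := x.2
    refine ⟨M, fun t ht => ?_⟩
    have h := psi_mem_map_pow hψ hmR hmT M t ht
    rw [TensorProduct.map_tmul]
    generalize ψ t = z at h ⊢
    induction h using Submodule.span_induction with
    | mem z hz =>
      obtain ⟨r, hr, rfl⟩ := hz
      show GrSeg.act k R S X N (r ⊗ₜ[k] 1) (x.1 ⊗ₜ[k] y) = 0
      rw [GrSeg.act_tmul, hM r hr, TensorProduct.zero_tmul]
    | zero => simp
    | add z z' _ _ hz hz' => rw [map_add, LinearMap.add_apply, hz, hz', add_zero]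
    | smul l z _ hz => rw [smul_eq_mul, act_mul, hz, map_zero]

end Kill

variable [IsNoetherianRing R] [IsNoetherianRing T]
variable {N : Type u} [AddCommGroup N] [Module S N] [Module k N] [IsScalarTower k S N]
  {𝒩 : ℤ → AddSubgroup N} [DirectSum.Decomposition 𝒩] [SetLike.GradedSMul ℬ 𝒩]

/-- The Segre product of a *injective and a module with an invertible element: torsion and acyclicity. -/
theorem seg_starInj (hψ : ∀ n : ℤ, (𝒯 n).map ψ.toLinearMap = GrSeg.segrePiece k 𝒜 ℬ n)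
    (hmR : mR.toIdeal = Ideal.span (⋃ n ∈ Set.Ioi (0 : ℤ), (𝒜 n : Set R)))
    (hmT : mT.toIdeal = Ideal.span (⋃ n ∈ Set.Ioi (0 : ℤ), (𝒯 n : Set T)))
    (hidN : (LinearMap.id : N →ₗ[S] N) ∈ invSums ℬ 𝒩)
    (X : GrLC.GMod.{u} 𝒜) (hX : GrLC.IsStarInj 𝒜 X.gr) [Module k X.carrier] [IsScalarTower k R X.carrier]
    (G : GrLC.GMod.{u} 𝒯) {φ : G.carrier →+ X.carrier ⊗[k] N} (hG : IsSeg ψ X.gr 𝒩 G.gr φ) :
    (∀ x : G.carrier, x ∈ GrLC.gam mT.toIdeal G.carrier ↔
      φ x ∈ LinearMap.range (TensorProduct.map ((GrLC.gam mR.toIdeal X.carrier).subtype.restrictScalars k)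
        (LinearMap.id : N →ₗ[k] N))) ∧
    ∀ (E : GrLC.StarInjRes 𝒯 G.gr) (i : ℕ), Subsingleton (E.H mT (i + 1)) := by
  have haT : ∀ c : ℤ, 0 < c → ∀ r ∈ 𝒯 c, r ∈ mT.toIdeal := fun c hc r hr =>
    hmT ▸ Ideal.subset_span (Set.mem_biUnion (Set.mem_Ioi.2 hc) hr)
  obtain ⟨P, hP, hPsub⟩ := exists_proj mR hmR X hX
  obtain ⟨F, hF, hφF⟩ := mem_invSums_seg hψ hG hP hidN
  let ι := TensorProduct.map ((GrLC.gam mR.toIdeal X.carrier).subtype.restrictScalars k) (LinearMap.id : N →ₗ[k] N)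
  let Q : X.carrier →ₗ[R] GrLC.gam mR.toIdeal X.carrier :=
    (LinearMap.id - P).codRestrict _ fun x => hPsub x
  have hsub : ∀ v : X.carrier ⊗[k] N, v - TensorProduct.map (P.restrictScalars k) (LinearMap.id : N →ₗ[k] N) v =
      ι (TensorProduct.map (Q.restrictScalars k) (LinearMap.id : N →ₗ[k] N) v) := by
    intro v
    induction v with
    | zero => simp
    | add p q hp hq => simp only [map_add, ← hp, ← hq]; abel
    | tmul x y =>
      simp only [ι, TensorProduct.map_tmul, LinearMap.coe_restrictScalars, LinearMap.id_apply, Submodule.coe_subtype]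
      rw [← TensorProduct.sub_tmul]
      rfl
  have hφF' : ∀ x, φ (F x) = TensorProduct.map (P.restrictScalars k) (LinearMap.id : N →ₗ[k] N) (φ x) := fun x => by
    rw [hφF, LinearMap.restrictScalars_id]
  have hgam : ∀ x : G.carrier, φ x ∈ LinearMap.range ι → x ∈ GrLC.gam mT.toIdeal G.carrier := by
    rintro x ⟨v, hv⟩
    obtain ⟨M, hM⟩ := exists_kill hψ hmR hmT v
    refine ⟨M, fun t ht => hG.injective ?_⟩
    rw [hG.map_smul, map_zero, ← hv]
    exact hM t ht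
  have hFx : ∀ x, x - F x ∈ GrLC.gam mT.toIdeal G.carrier := fun x => hgam _ ⟨_, (hsub (φ x)).symm.trans (by
    rw [map_sub φ, hφF'])⟩
  refine ⟨fun x => ⟨fun hx => ?_, hgam x⟩, fun E i => ?_⟩
  · have h := kills_torsion (fun c hc r hr => haT c hc r hr) hF hx
    refine ⟨TensorProduct.map (Q.restrictScalars k) LinearMap.id (φ x), ?_⟩
    rw [← hsub, ← hφF', h, map_zero, sub_zero]
  · let W := subMod 𝒯 G.gr (GrLC.gam mT.toIdeal G.carrier) (Res.isHomogeneous_gam 𝒯 G.gr mT)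
    obtain ⟨EW⟩ := Res.nonempty_starInjRes 𝒯 W.gr
    let g : G.carrier →ₗ[T] W.carrier := (LinearMap.id - F).codRestrict _ hFx
    let j : W.carrier →ₗ[T] G.carrier := (GrLC.gam mT.toIdeal G.carrier).subtype
    have hg : GrLC.IsGrHom G.gr W.gr g := fun d x hx => sub_mem hx (grHom_of_mem_invSums hF d x hx)
    have hj : GrLC.IsGrHom W.gr G.gr j := fun d x hx => hx
    have hW : GrLC.gam mT.toIdeal W.carrier = ⊤ := eq_top_iff.2 fun x _ => by
      obtain ⟨M, hM⟩ := (show GrLC.gam mT.toIdeal G.carrier from x).2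
      exact ⟨M, fun r hr => Subtype.ext (hM r hr)⟩
    haveI := Torsion.subsingleton_H mT hW EW (i + 1) i.succ_pos
    refine subsingleton_of_forall_eq 0 fun z => ?_
    have h := LinearMap.congr_fun (TopH.hMap_id (a := mT) (n := i + 1) (E := E)) z
    rw [show (LinearMap.id : G.carrier →ₗ[T] G.carrier) = j ∘ₗ g + F from LinearMap.ext fun x =>
        (sub_add_cancel x (F x)).symm,
      TopH.hMap_add mT (i + 1) (isGrHom_comp hg hj) (grHom_of_mem_invSums hF),
      hMap_eq_zero_of_invSums mT haT E (i + 1) hF, add_zero, ← TopH.hMap_comp mT (i + 1) (F := EW) hg hj,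
      LinearMap.comp_apply, Subsingleton.elim ((Chain.lift E EW g).hMap mT (i + 1) z) 0, map_zero,
      LinearMap.id_apply] at h
    exact h.symm

end Groth.Agent.Lib.Graded.Seg
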