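import Groth.Agent.Lib.Graded.Seg.Invert
import Groth.Agent.Lib.Graded.Seg.CMCrit

/-!
# Local cohomology of a Segre product with a module on which an element of positive degree is invertible
-/

universe u

set_option maxHeartbeats 3200000
set_option linter.unusedSectionVars false

open DirectSum
open scoped TensorProduct

namespace Groth.Agent.Lib.Graded.Seg

open Groth.Agent.Lib.Graded.Basic Groth.Agent.Lib.Graded.StarInj

variable {k : Type u} [Field k] {R : Type u} [CommRing R] [Algebra k R] {𝒜 : ℤ → Submodule k R} [GradedAlgebra 𝒜]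
variable {S : Type u} [CommRing S] [Algebra k S] {ℬ : ℤ → Submodule k S} [GradedAlgebra ℬ]
variable {T : Type u} [CommRing T] [Algebra k T] {𝒯 : ℤ → Submodule k T} [GradedAlgebra 𝒯]
variable {ψ : T →ₐ[k] R ⊗[k] S}
variable {N : Type u} [AddCommGroup N] [Module S N] [Module k N] [IsScalarTower k S N]
  {𝒩 : ℤ → AddSubgroup N} [DirectSum.Decomposition 𝒩] [SetLike.GradedSMul ℬ 𝒩]

section Piece

variable {U : Type u} [AddCommGroup U] [Module R U] [Module k U] [IsScalarTower k R U]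
  {𝒰 : ℤ → AddSubgroup U} [DirectSum.Decomposition 𝒰] [SetLike.GradedSMul 𝒜 𝒰]
variable {Y : Type u} [AddCommGroup Y] [Module R Y] [Module k Y] [IsScalarTower k R Y]
  {𝒴 : ℤ → AddSubgroup Y} [DirectSum.Decomposition 𝒴] [SetLike.GradedSMul 𝒜 𝒴]

variable (𝒜 ℬ) in
include 𝒜 ℬ in
/-- A homogeneous element in the image has a homogeneous preimage. -/
theorem exists_piece_preimage {f : U →ₗ[R] Y} (hf : GrLC.IsGrHom 𝒰 𝒴 f) {d : ℤ} {y : Y ⊗[k] N}
    (hy : y ∈ GrSeg.segrePiece k 𝒴 𝒩 d)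
    (h : y ∈ LinearMap.range (TensorProduct.map (f.restrictScalars k) (LinearMap.id : N →ₗ[k] N))) :
    ∃ w ∈ GrSeg.segrePiece k 𝒰 𝒩 d,
      TensorProduct.map (f.restrictScalars k) (LinearMap.id : N →ₗ[k] N) w = y := by
  obtain ⟨v, rfl⟩ := h
  have hfix : TensorProduct.map (projK 𝒜 𝒴 d) (projK ℬ 𝒩 d)
      (TensorProduct.map (f.restrictScalars k) (LinearMap.id : N →ₗ[k] N) v) =
      TensorProduct.map (f.restrictScalars k) (LinearMap.id : N →ₗ[k] N) v := by
    refine LinearMap.eqOn_span (g := LinearMap.id) ?_ hy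
    rintro _ ⟨a, ha, b, hb, rfl⟩
    exact congrArg₂ (fun p q => p ⊗ₜ[k] q) (proj_of_mem 𝒴 ha) (proj_of_mem 𝒩 hb)
  rw [← hfix]
  clear hy hfix
  induction v with
  | zero => exact ⟨0, zero_mem _, by simp⟩
  | add p q hp hq =>
    obtain ⟨a, ha, ha'⟩ := hp
    obtain ⟨b, hb, hb'⟩ := hq
    exact ⟨a + b, add_mem ha hb, by rw [map_add, ha', hb', map_add, map_add]⟩
  | tmul a b =>
    exact ⟨proj 𝒰 d a ⊗ₜ[k] proj 𝒩 d b, Submodule.subset_span ⟨_, proj_mem 𝒰 d a, _, proj_mem 𝒩 d b, rfl⟩,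
      congrArg (· ⊗ₜ[k] _) (map_proj hf d a)⟩

variable {Z : Type u} [AddCommGroup Z] [Module R Z] [Module k Z] [IsScalarTower k R Z]

/-- Tensoring over the field is exact. -/
theorem exact_map {f : U →ₗ[R] Y} {g : Y →ₗ[R] Z} (h : Function.Exact f g) :
    Function.Exact (TensorProduct.map (f.restrictScalars k) (LinearMap.id : N →ₗ[k] N))
      (TensorProduct.map (g.restrictScalars k) (LinearMap.id : N →ₗ[k] N)) :=
  Module.Flat.rTensor_exact N (f := f.restrictScalars k) (g := g.restrictScalars k) h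

theorem map_injective {f : U →ₗ[R] Y} (hf : Function.Injective f) :
    Function.Injective (TensorProduct.map (f.restrictScalars k) (LinearMap.id : N →ₗ[k] N)) :=
  tmap_injective hf Function.injective_id

end Piece

variable [IsNoetherianRing R] [IsNoetherianRing T]
variable {mR : HomogeneousIdeal 𝒜} {mT : HomogeneousIdeal 𝒯}
variable {M : Type u} [AddCommGroup M] [Module R M] [Module k M] [IsScalarTower k R M]
  {ℳ : ℤ → AddSubgroup M} [DirectSum.Decomposition ℳ] [SetLike.GradedSMul 𝒜 ℳ]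
variable {P : Type u} [AddCommGroup P] [Module T P] {𝒬 : ℤ → AddSubgroup P} [DirectSum.Decomposition 𝒬]
  [SetLike.GradedSMul 𝒯 𝒬] {φ : P →+ M ⊗[k] N}

/-- Local cohomology commutes with the Segre product by a module with an invertible element. -/
theorem exists_inv_iso (hψ : ∀ n : ℤ, (𝒯 n).map ψ.toLinearMap = GrSeg.segrePiece k 𝒜 ℬ n)
    (hmR : mR.toIdeal = Ideal.span (⋃ n ∈ Set.Ioi (0 : ℤ), (𝒜 n : Set R)))
    (hmT : mT.toIdeal = Ideal.span (⋃ n ∈ Set.Ioi (0 : ℤ), (𝒯 n : Set T)))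
    (hidN : (LinearMap.id : N →ₗ[S] N) ∈ invSums ℬ 𝒩)
    (EM : GrLC.StarInjRes 𝒜 ℳ) (hP : IsSeg ψ ℳ 𝒩 𝒬 φ) (EP : GrLC.StarInjRes 𝒯 𝒬) (q : ℕ)
    [Module k (EM.H mR q)] [IsScalarTower k R (EM.H mR q)]
    {W : Type u} [AddCommGroup W] [Module T W] {𝒲 : ℤ → AddSubgroup W} [DirectSum.Decomposition 𝒲]
    {φW : W →+ EM.H mR q ⊗[k] N} (hW : IsSeg ψ (EM.Hgr mR q) 𝒩 𝒲 φW) :
    ∃ Φ : W ≃ₗ[T] EP.H mT q, GrLC.IsGrHom 𝒲 (EP.Hgr mT q) Φ.toLinearMap ∧
      ∀ d, ∀ x ∈ EP.Hgr mT q d, ∃ w ∈ 𝒲 d, Φ w = x := by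
  classical
  letI : ∀ i, Module k (EM.X i).carrier := fun i => Module.compHom _ (algebraMap k R)
  haveI : ∀ i, IsScalarTower k R (EM.X i).carrier := fun i => IsScalarTower.of_algebraMap_smul fun _ _ => rfl
  choose G φG hG using fun i => exists_seg (M := (EM.X i).carrier) (N := N) 𝒯 (EM.X i).gr 𝒩 hψ
  choose D hD hφD using fun i => exists_lift (hG i) (hG (i + 1))
    (segHom_map₀ (k := k) (f := EM.d i) (g := LinearMap.id) (EM.d_grHom i) (fun _ _ hx => hx))
  obtain ⟨ιP, hιP, hφι⟩ := exists_lift hP (hG 0)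
    (segHom_map₀ (k := k) (f := EM.ε) (g := LinearMap.id) EM.ε_grHom (fun _ _ hx => hx))
  have hD' : ∀ i, GrLC.IsGrHom (G i).gr (G (i + 1)).gr (D i) := fun i d x hx => add_zero d ▸ hD i d x hx
  have hιP' : GrLC.IsGrHom 𝒬 (G 0).gr ιP := fun d x hx => add_zero d ▸ hιP d x hx
  have hφD' : ∀ i x, φG (i + 1) (D i x) =
      TensorProduct.map ((EM.d i).restrictScalars k) (LinearMap.id : N →ₗ[k] N) (φG i x) := fun i x => by
    rw [hφD, LinearMap.restrictScalars_id]
  have hφι' : ∀ x, φG 0 (ιP x) =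
      TensorProduct.map (EM.ε.restrictScalars k) (LinearMap.id : N →ₗ[k] N) (φ x) := fun x => by
    rw [hφι, LinearMap.restrictScalars_id]
  have hst := fun i => seg_starInj hψ hmR hmT hidN (EM.X i) (EM.starInj i) (G i) (hG i)
  have hex : ∀ j, LinearMap.ker (D (j + 1)) = LinearMap.range (D j) := fun j => by
    refine le_antisymm (le_of_hom (ℳ := (G (j + 1)).gr) (isHomogeneous_ker (hD' (j + 1))) ?_) ?_
    · intro d x hx hxk
      have h0 : TensorProduct.map ((EM.d (j + 1)).restrictScalars k) (LinearMap.id : N →ₗ[k] N) (φG (j + 1) x) = 0 := by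
        rw [← hφD', LinearMap.mem_ker.1 hxk, map_zero]
      obtain ⟨v, hv⟩ := (exact_map (LinearMap.exact_iff.2 (EM.exact_succ j)) _).1 h0
      obtain ⟨w, hw, hwx⟩ := exists_piece_preimage 𝒜 ℬ (EM.d_grHom j)
        (((hG (j + 1)).image_piece d).le ⟨x, hx, rfl⟩) ⟨v, hv⟩
      obtain ⟨y, -, rfl⟩ := ((hG j).image_piece d).ge hw
      exact ⟨y, (hG (j + 1)).injective ((hφD' j y).trans hwx)⟩
    · rintro _ ⟨y, rfl⟩
      refine LinearMap.mem_ker.2 ((hG (j + 1 + 1)).injective ?_)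
      rw [hφD', hφD', map_zero]
      exact (exact_map (LinearMap.exact_iff.2 (EM.exact_succ j)) _).2 ⟨_, rfl⟩
  have hιinj : Function.Injective ιP := fun x y h => hP.injective (map_injective (k := k) EM.ε_injective
    (by rw [← hφι', ← hφι', h]))
  have hex0 : LinearMap.range ιP = LinearMap.ker (D 0) := by
    refine le_antisymm ?_ (le_of_hom (ℳ := (G 0).gr) (isHomogeneous_ker (hD' 0)) ?_)
    · rintro _ ⟨y, rfl⟩
      refine LinearMap.mem_ker.2 ((hG (0 + 1)).injective ?_)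
      rw [hφD', hφι', map_zero]
      exact (exact_map (LinearMap.exact_iff.2 EM.exact_zero) _).2 ⟨_, rfl⟩
    · intro d x hx hxk
      have h0 : TensorProduct.map ((EM.d 0).restrictScalars k) (LinearMap.id : N →ₗ[k] N) (φG 0 x) = 0 := by
        rw [← hφD', LinearMap.mem_ker.1 hxk, map_zero]
      obtain ⟨v, hv⟩ := (exact_map (LinearMap.exact_iff.2 EM.exact_zero) _).1 h0
      obtain ⟨w, hw, hwx⟩ := exists_piece_preimage 𝒜 ℬ EM.ε_grHom (((hG 0).image_piece d).le ⟨x, hx, rfl⟩) ⟨v, hv⟩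
      obtain ⟨y, -, rfl⟩ := (hP.image_piece d).ge hw
      exact ⟨y, (hG 0).injective ((hφι' y).trans hwx)⟩
  -- the cocycles
  let Zq := subMod 𝒜 (EM.X q).gr (EM.cocyc mR q) (Res.isHomogeneous_cocyc EM mR q)
  letI : Module k Zq.carrier := inferInstanceAs (Module k (EM.cocyc mR q))
  haveI : IsScalarTower k R Zq.carrier := inferInstanceAs (IsScalarTower k R (EM.cocyc mR q))
  let sZ : Zq.carrier →ₗ[R] (EM.X q).carrier := (EM.cocyc mR q).subtype
  have hsZ : GrLC.IsGrHom Zq.gr (EM.X q).gr sZ := fun _ _ hx => hx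
  let tH : Zq.carrier →ₗ[R] EM.H mR q := EM.toH mR q
  have htH : GrLC.IsGrHom Zq.gr (EM.Hgr mR q) tH := fun d x hx => ⟨x, hx, rfl⟩
  obtain ⟨GZ, φZ, hZ⟩ := exists_seg (M := Zq.carrier) (N := N) 𝒯 Zq.gr 𝒩 hψ
  obtain ⟨inc, hinc, hφinc⟩ := exists_lift hZ (hG q)
    (segHom_map₀ (k := k) (f := sZ) (g := LinearMap.id) hsZ (fun _ _ hx => hx))
  obtain ⟨qW, hqW, hφqW⟩ := exists_lift hZ hW
    (segHom_map₀ (k := k) (f := tH) (g := LinearMap.id) htH (fun _ _ hx => hx))
  let iZ := TensorProduct.map (sZ.restrictScalars k) (LinearMap.id : N →ₗ[k] N)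
  have hiZ : ∀ x, φG q (inc x) = iZ (φZ x) := fun x => by rw [hφinc, LinearMap.restrictScalars_id]
  have hincinj : Function.Injective inc := fun x y h => hZ.injective
    (map_injective (k := k) (f := sZ) Subtype.val_injective (by rw [← hiZ, ← hiZ, h]))
  have hqW' : ∀ x, φW (qW x) = TensorProduct.map (tH.restrictScalars k) (LinearMap.id : N →ₗ[k] N) (φZ x) :=
    fun x => by rw [hφqW, LinearMap.restrictScalars_id]
  have hincm : ∀ x, inc x ∈ GrLC.gam mT.toIdeal (G q).carrier ⊓ LinearMap.ker (D q) := fun x => by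
    refine ⟨((hst q).1 _).2 ?_, LinearMap.mem_ker.2 ((hG (q + 1)).injective ?_)⟩
    · refine ⟨TensorProduct.map ((Submodule.inclusion (show EM.cocyc mR q ≤ GrLC.gam mR.toIdeal (EM.X q).carrier
        from inf_le_left)).restrictScalars k) LinearMap.id (φZ x), ?_⟩
      rw [hiZ, TensorProduct.map_map]
      rfl
    · rw [hφD', hiZ, map_zero, TensorProduct.map_map, ← LinearMap.restrictScalars_comp,
        show EM.d q ∘ₗ sZ = 0 from LinearMap.ext fun z => LinearMap.mem_ker.1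
          (show z.1 ∈ EM.cocyc mR q from z.2).2, LinearMap.restrictScalars_zero, TensorProduct.map_zero_left,
        LinearMap.zero_apply]
  have hincs : ∀ d, ∀ y : ↥(GrLC.gam mT.toIdeal (G q).carrier ⊓ LinearMap.ker (D q)), y.1 ∈ (G q).gr d →
      ∃ x ∈ GZ.gr d, inc x = y.1 := fun d y hy => by
    obtain ⟨v, hv⟩ := ((hst q).1 _).1 y.2.1
    let sg := (GrLC.gam mR.toIdeal (EM.X q).carrier).subtype
    have h0 : TensorProduct.map ((EM.d q ∘ₗ sg).restrictScalars k) (LinearMap.id : N →ₗ[k] N) v = 0 := by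
      have h := congrArg (TensorProduct.map ((EM.d q).restrictScalars k) (LinearMap.id : N →ₗ[k] N)) hv
      rw [← hφD', LinearMap.mem_ker.1 y.2.2, map_zero, TensorProduct.map_map] at h
      exact h
    obtain ⟨v', hv'⟩ := (exact_map (LinearMap.exact_subtype_ker_map (EM.d q ∘ₗ sg)) _).1 h0
    let e : LinearMap.ker (EM.d q ∘ₗ sg) →ₗ[R] Zq.carrier :=
      (sg ∘ₗ (LinearMap.ker (EM.d q ∘ₗ sg)).subtype).codRestrict _ fun z => ⟨z.1.2, z.2⟩
    obtain ⟨w, hw, hwy⟩ := exists_piece_preimage 𝒜 ℬ hsZ (((hG q).image_piece d).le ⟨y.1, hy, rfl⟩)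
      ⟨TensorProduct.map (e.restrictScalars k) LinearMap.id v', by
        rw [← hv, ← hv', TensorProduct.map_map, TensorProduct.map_map]
        rfl⟩
    obtain ⟨x, hx, rfl⟩ := (hZ.image_piece d).ge hw
    exact ⟨x, hx, (hG q).injective ((hiZ x).trans hwy)⟩
  have main : ∀ (Ub : GrLC.GMod.{u} 𝒜) [Module k Ub.carrier] [IsScalarTower k R Ub.carrier]
      (b : Ub.carrier →ₗ[R] Zq.carrier), GrLC.IsGrHom Ub.gr Zq.gr b → Function.Exact b tH →
      ∀ c : ↥(GrLC.gam mT.toIdeal (G q).carrier ⊓ LinearMap.ker (D q)) →ₗ[T] EP.H mT q,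
      (∀ d, ∀ x : ↥(GrLC.gam mT.toIdeal (G q).carrier ⊓ LinearMap.ker (D q)), x.1 ∈ (G q).gr d →
        c x ∈ EP.Hgr mT q d) →
      (∀ d, ∀ w ∈ EP.Hgr mT q d, ∃ x : ↥(GrLC.gam mT.toIdeal (G q).carrier ⊓ LinearMap.ker (D q)),
        x.1 ∈ (G q).gr d ∧ c x = w) →
      (∀ x, c x = 0 → φG q x.1 ∈ LinearMap.range
          (TensorProduct.map ((sZ ∘ₗ b).restrictScalars k) (LinearMap.id : N →ₗ[k] N))) →
      (∀ d, ∀ x : ↥(GrLC.gam mT.toIdeal (G q).carrier ⊓ LinearMap.ker (D q)), ∀ w ∈ GrSeg.segrePiece k Ub.gr 𝒩 d,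
        φG q x.1 = TensorProduct.map ((sZ ∘ₗ b).restrictScalars k) (LinearMap.id : N →ₗ[k] N) w → c x = 0) →
      ∃ Φ : W ≃ₗ[T] EP.H mT q, GrLC.IsGrHom 𝒲 (EP.Hgr mT q) Φ.toLinearMap ∧
        ∀ d, ∀ x ∈ EP.Hgr mT q d, ∃ w ∈ 𝒲 d, Φ w = x := by
    intro Ub _ _ b hb hbex c hc1 hc2 hc3 hc3'
    let g : GZ.carrier →ₗ[T] EP.H mT q := c ∘ₗ inc.codRestrict _ hincm
    letI := Res.hgrDecomp EP mT q
    letI := Res.hgrDecomp EM mR q
    haveI := Res.hgrGSMul EM mR q
    have hg : GrLC.IsGrHom GZ.gr (EP.Hgr mT q) g := fun d x hx => hc1 d _ (add_zero d ▸ hinc d x hx)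
    have hgs : ∀ d, ∀ w ∈ EP.Hgr mT q d, ∃ x ∈ GZ.gr d, g x = w := fun d w hw => by
      obtain ⟨y, hy, rfl⟩ := hc2 d w hw
      obtain ⟨x, hx, hxy⟩ := hincs d y hy
      exact ⟨x, hx, congrArg c (Subtype.ext hxy)⟩
    have hker : LinearMap.ker qW = LinearMap.ker g := by
      refine le_antisymm (le_of_hom (ℳ := GZ.gr) (isHomogeneous_ker (fun d x hx => add_zero d ▸ hqW d x hx)) ?_) ?_
      · intro d x hx hxq
        have h0 : TensorProduct.map (tH.restrictScalars k) (LinearMap.id : N →ₗ[k] N) (φZ x) = 0 := by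
          rw [← hqW', LinearMap.mem_ker.1 hxq, map_zero]
        obtain ⟨v, hv⟩ := (exact_map hbex _).1 h0
        obtain ⟨w, hw, hwx⟩ := exists_piece_preimage 𝒜 ℬ hb ((hZ.image_piece d).le ⟨x, hx, rfl⟩) ⟨v, hv⟩
        refine LinearMap.mem_ker.2 (hc3' d ⟨inc x, hincm x⟩ w hw ?_)
        rw [hiZ, ← hwx, TensorProduct.map_map]
        rfl
      · intro x hx
        obtain ⟨v, hv⟩ := hc3 ⟨inc x, hincm x⟩ (LinearMap.mem_ker.1 hx)
        have hv' : TensorProduct.map (b.restrictScalars k) (LinearMap.id : N →ₗ[k] N) v = φZ x :=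
          map_injective (k := k) (f := sZ) Subtype.val_injective (by
            rw [TensorProduct.map_map]
            exact hv.trans (hiZ x))
        refine LinearMap.mem_ker.2 (hW.injective ?_)
        rw [hqW', map_zero, ← hv']
        exact (exact_map hbex _).2 ⟨v, rfl⟩
    have hqs : ∀ d, ∀ w ∈ 𝒲 d, ∃ x ∈ GZ.gr d, qW x = w := fun d w hw => by
      have hsur : ∀ v, v ∈ LinearMap.range (TensorProduct.map (tH.restrictScalars k) (LinearMap.id : N →ₗ[k] N)) :=
        fun v => by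
        induction v with
        | zero => exact zero_mem _
        | add p r hp hr => exact add_mem hp hr
        | tmul a n =>
          obtain ⟨z, rfl⟩ := Chain.toH_surjective (E := EM) mR q a
          exact ⟨z ⊗ₜ[k] n, rfl⟩
      obtain ⟨v, hv, hvw⟩ := exists_piece_preimage 𝒜 ℬ htH ((hW.image_piece d).le ⟨w, hw, rfl⟩) (hsur _)
      obtain ⟨x, hx, rfl⟩ := (hZ.image_piece d).ge hv
      exact ⟨x, hx, hW.injective ((hqW' x).trans hvw)⟩
    have hqsur : Function.Surjective qW := fun w => by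
      induction w using induction_hom 𝒲 with
      | zero => exact ⟨0, map_zero qW⟩
      | add a a' ha ha' =>
        obtain ⟨u, rfl⟩ := ha
        obtain ⟨v, rfl⟩ := ha'
        exact ⟨u + v, map_add qW u v⟩
      | hom d w hw => exact (hqs d w hw).imp fun x hx => hx.2
    have hgsur : Function.Surjective g := fun w => by
      induction w using induction_hom (EP.Hgr mT q) with
      | zero => exact ⟨0, map_zero g⟩
      | add a a' ha ha' =>
        obtain ⟨u, rfl⟩ := ha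
        obtain ⟨v, rfl⟩ := ha'
        exact ⟨u + v, map_add g u v⟩
      | hom d w hw => exact (hgs d w hw).imp fun x hx => hx.2
    let e := qW.quotKerEquivOfSurjective hqsur
    let e' := g.quotKerEquivOfSurjective hgsur
    let Φ : W ≃ₗ[T] EP.H mT q := e.symm.trans ((Submodule.quotEquivOfEq _ _ hker).trans e')
    have hΦ : ∀ x, Φ (qW x) = g x := fun x => by
      show e' ((Submodule.quotEquivOfEq _ _ hker) (e.symm (qW x))) = g x
      rw [show e.symm (qW x) = Submodule.Quotient.mk x from e.symm_apply_eq.2 rfl]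
      rfl
    refine ⟨Φ, fun d w hw => ?_, fun d y hy => ?_⟩
    · obtain ⟨x, hx, rfl⟩ := hqs d w hw
      exact (hΦ x).symm ▸ hg d x hx
    · obtain ⟨x, hx, rfl⟩ := hgs d y hy
      exact ⟨qW x, add_zero d ▸ hqW d x hx, hΦ x⟩
  -- the two cases
  rcases q with _ | j
  · obtain ⟨c, hc1, hc2, hcinj, -⟩ := exists_acyclic_zero mT (X := G 0) (Y := G 1) (d := D 0) hιP' hιinj hex0 EP
    refine main Zq 0 (fun _ _ _ => zero_mem _) ?_ c hc1 hc2 (fun x hx => ⟨0, ?_⟩) (fun d x w _ hx => ?_)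
    · intro z
      refine ⟨fun hz => ⟨0, ?_⟩, by rintro ⟨u, rfl⟩; rw [LinearMap.zero_apply, map_zero]⟩
      rw [LinearMap.zero_apply]
      exact (Subtype.ext ((Submodule.mem_bot R).1 ((Chain.toH_eq_zero_iff (E := EM) mR z).1 hz))).symm
    · rw [(map_eq_zero_iff c hcinj).1 hx, map_zero]
      simp
    · rw [LinearMap.comp_zero, LinearMap.restrictScalars_zero, TensorProduct.map_zero_left, LinearMap.zero_apply] at hx
      rw [show x = 0 from Subtype.ext ((hG 0).injective (by rw [hx]; exact (map_zero (φG 0)).symm)), map_zero]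
  · obtain ⟨c, hc1, hc2, hc3⟩ := exists_acyclic_succ mT j G D hD' (fun i E n => (hst i).2 E n) hex hιP' hιinj hex0 EP
    let Ub := subMod 𝒜 (EM.X j).gr (GrLC.gam mR.toIdeal (EM.X j).carrier) (Res.isHomogeneous_gam 𝒜 (EM.X j).gr mR)
    letI : Module k Ub.carrier := inferInstanceAs (Module k (GrLC.gam mR.toIdeal (EM.X j).carrier))
    haveI : IsScalarTower k R Ub.carrier :=
      inferInstanceAs (IsScalarTower k R (GrLC.gam mR.toIdeal (EM.X j).carrier))
    let b : Ub.carrier →ₗ[R] Zq.carrier :=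
      (EM.d j ∘ₗ (GrLC.gam mR.toIdeal (EM.X j).carrier).subtype).codRestrict (EM.cocyc mR (j + 1)) fun z =>
        ⟨Chain.map_mem_gam _ (EM.d j) z.2, LinearMap.mem_ker.2 (Chain.d_d EM j z.1)⟩
    have hbex : Function.Exact b tH := fun z => by
      refine ⟨fun hz => ?_, ?_⟩
      · obtain ⟨u, hu, huz⟩ := (Chain.toH_eq_zero_iff (E := EM) mR z).1 hz
        exact ⟨⟨u, hu⟩, Subtype.ext huz⟩
      · rintro ⟨u, rfl⟩
        exact (Chain.toH_eq_zero_iff (E := EM) mR (b u)).2 ⟨u.1, u.2, rfl⟩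
    refine main Ub b (fun d x hx => EM.d_grHom j d _ hx) hbex c hc1 hc2 (fun x hx => ?_) (fun d x w hw hx => ?_)
    · obtain ⟨y, hy, hyx⟩ := (hc3 x).1 hx
      obtain ⟨v, hv⟩ := ((hst j).1 y).1 hy
      refine ⟨v, ?_⟩
      rw [← hyx, hφD', ← hv, TensorProduct.map_map]
      rfl
    · let sU : Ub.carrier →ₗ[R] (EM.X j).carrier := (GrLC.gam mR.toIdeal (EM.X j).carrier).subtype
      have hmem : TensorProduct.map (sU.restrictScalars k) (LinearMap.id : N →ₗ[k] N) w ∈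
          GrSeg.segrePiece k (EM.X j).gr 𝒩 d := by
        have h := Submodule.mem_map_of_mem (f := TensorProduct.map (sU.restrictScalars k) (LinearMap.id : N →ₗ[k] N)) hw
        rw [GrSeg.segrePiece, Submodule.map_span] at h
        refine Submodule.span_mono ?_ h
        rintro _ ⟨_, ⟨a, ha, n, hn, rfl⟩, rfl⟩
        exact ⟨sU a, ha, n, hn, rfl⟩
      obtain ⟨y, -, hy⟩ := ((hG j).image_piece d).ge hmem
      refine (hc3 x).2 ⟨y, ((hst j).1 y).2 ⟨w, hy.symm⟩, (hG (j + 1)).injective ?_⟩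
      rw [hφD', hy, hx, TensorProduct.map_map]
      rfl

end Groth.Agent.Lib.Graded.Seg
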