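import Groth.Agent.Lib.Graded.Seg.TorsionFree

/-!
# The torsion free complex of a resolution as an endomorphism of one graded module
-/

universe u

set_option maxHeartbeats 800000
set_option linter.unusedSectionVars false

open DirectSum

namespace Groth.Agent.Lib.Graded.Seg

open Groth.Agent.Lib.Graded.Basic Groth.Agent.Lib.Graded.StarInj

variable {R : Type u} [CommRing R] {σ : Type u} [SetLike σ R] [AddSubgroupClass σ R]
variable (𝒜 : ℤ → σ) [GradedRing 𝒜] {N : ℕ} (Q : Fin N → GrLC.GMod.{u} 𝒜)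

/-- The pieces of a finite product. -/
def piGr : ℤ → AddSubgroup (∀ j, (Q j).carrier) := fun g => AddSubgroup.pi Set.univ fun j => (Q j).gr g

theorem mem_piGr {g : ℤ} {x : ∀ j, (Q j).carrier} : x ∈ piGr 𝒜 Q g ↔ ∀ j, x j ∈ (Q j).gr g := by
  simp [piGr, AddSubgroup.mem_pi]

theorem single_mem_piGr {g : ℤ} {j : Fin N} {y : (Q j).carrier} (hy : y ∈ (Q j).gr g) :
    (Pi.single j y : ∀ j, (Q j).carrier) ∈ piGr 𝒜 Q g := by
  rw [mem_piGr]
  intro l
  by_cases h : l = j
  · subst h; rwa [Pi.single_eq_same]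
  · rw [Pi.single_eq_of_ne h]; exact zero_mem _

/-- A finite product of graded modules. -/
noncomputable def piMod : GrLC.GMod.{u} 𝒜 :=
  letI := decompositionOfProj (piGr 𝒜 Q)
    (fun g => AddMonoidHom.mk' (fun x j => proj (Q j).gr g (x j)) fun a b => funext fun j => map_add _ _ _)
    (fun g x hx => funext fun j => proj_of_mem _ ((mem_piGr 𝒜 Q).1 hx j))
    (fun g h hne x hx => funext fun j => proj_of_mem_ne _ ((mem_piGr 𝒜 Q).1 hx j) hne)
    (fun x => by
      classical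
      rw [← Finset.univ_sum_single x]
      refine sum_mem fun j _ => ?_
      induction x j using induction_hom (Q j).gr with
      | zero => rw [Pi.single_zero]; exact zero_mem _
      | add a b ha hb => rw [Pi.single_add]; exact add_mem ha hb
      | hom g y hy => exact ⟨DirectSum.of (fun i => piGr 𝒜 Q i) g ⟨_, single_mem_piGr 𝒜 Q hy⟩,
          DirectSum.coeAddMonoidHom_of _ g _⟩)
  haveI : SetLike.GradedSMul 𝒜 (piGr 𝒜 Q) := ⟨fun {i g r x} hr hx => (mem_piGr 𝒜 Q).2 fun j =>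
    SetLike.GradedSMul.smul_mem (A := 𝒜) (B := (Q j).gr) hr ((mem_piGr 𝒜 Q).1 hx j)⟩
  { carrier := ∀ j, (Q j).carrier, gr := piGr 𝒜 Q }

variable {𝒜} [IsNoetherianRing R]

/-- The truncated torsion free complex. -/
theorem exists_tot {M : Type u} [AddCommGroup M] [Module R M] {τ : Type u} [SetLike τ M]
    [AddSubgroupClass τ M] {ℳ : ℤ → τ} [DirectSum.Decomposition ℳ] [SetLike.GradedSMul 𝒜 ℳ]
    (a : HomogeneousIdeal 𝒜) (ha : a.toIdeal = Ideal.span (⋃ n ∈ Set.Ioi (0 : ℤ), (𝒜 n : Set R)))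
    (E : GrLC.StarInjRes 𝒜 ℳ) (n : ℕ) :
    ∃ (A : GrLC.GMod.{u} 𝒜) (D : Module.End R A.carrier) (p : ℕ → Module.End R A.carrier)
      (ι : M →ₗ[R] A.carrier),
      (LinearMap.id : A.carrier →ₗ[R] A.carrier) ∈ invSums 𝒜 A.gr ∧ GrLC.IsGrHom A.gr A.gr D ∧
      (∀ i, GrLC.IsGrHom A.gr A.gr (p i)) ∧ Cx (n + 2) D p ∧
      GrLC.IsGrHom ℳ A.gr ι ∧ (∀ m, ι m = 0 ↔ m ∈ GrLC.gam a.toIdeal M) ∧
      LinearMap.range ι ≤ LinearMap.ker D ⊓ LinearMap.range (p 0) ∧
      (∃ c : ↥(LinearMap.ker D ⊓ LinearMap.range (p 0)) →ₗ[R] E.H a 1,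
        (∀ d, ∀ x : ↥(LinearMap.ker D ⊓ LinearMap.range (p 0)), x.1 ∈ A.gr d → c x ∈ E.Hgr a 1 d) ∧
        ∀ x, c x = 0 ↔ x.1 ∈ LinearMap.range ι) ∧
      ∀ i < n, ∃ c : ↥(LinearMap.ker D ⊓ LinearMap.range (p (i + 1))) →ₗ[R] E.H a (i + 2),
        (∀ d, ∀ x : ↥(LinearMap.ker D ⊓ LinearMap.range (p (i + 1))), x.1 ∈ A.gr d →
          c x ∈ E.Hgr a (i + 2) d) ∧
        (∀ d, ∀ w ∈ E.Hgr a (i + 2) d, ∃ x : ↥(LinearMap.ker D ⊓ LinearMap.range (p (i + 1))),
          x.1 ∈ A.gr d ∧ c x = w) ∧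
        ∀ x, c x = 0 ↔ x.1 ∈ LinearMap.range D := by
  classical
  obtain ⟨Q, δ, ι₀, c₀, c, hδ, hδδ, hid, hι₀, hι₀i, hι₀r, hc01, hc03, hc1, hc2, hc3⟩ := exists_complex a ha E
  let QF : Fin (n + 2) → GrLC.GMod.{u} 𝒜 := fun j => Q j.1
  let comp : ∀ j : Fin (n + 2), (∀ l, (QF l).carrier) →ₗ[R] (QF j).carrier := fun j => LinearMap.proj j
  let dd : ∀ j : Fin (n + 2), (∀ l, (QF l).carrier) →ₗ[R] (QF j).carrier := fun j =>
    match j with
    | ⟨0, _⟩ => 0
    | ⟨j + 1, h⟩ => δ j ∘ₗ comp ⟨j, Nat.lt_of_succ_lt h⟩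
  let D : Module.End R (∀ l, (QF l).carrier) := LinearMap.pi dd
  let p : ℕ → Module.End R (∀ l, (QF l).carrier) := fun i =>
    LinearMap.pi fun j => if j.1 = i then comp j else 0
  have hD0 : ∀ x h, D x ⟨0, h⟩ = 0 := fun x h => rfl
  have hDs : ∀ x j h, D x ⟨j + 1, h⟩ = δ j (x ⟨j, Nat.lt_of_succ_lt h⟩) := fun x j h => rfl
  have hp : ∀ i x j, p i x j = if j.1 = i then x j else 0 := by
    intro i x j
    change (if j.1 = i then comp j else 0) x = _
    split_ifs <;> rfl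
  let sg : ∀ j : Fin (n + 2), (QF j).carrier →ₗ[R] (∀ l, (QF l).carrier) := LinearMap.single R _
  let ι : M →ₗ[R] (∀ l, (QF l).carrier) := sg ⟨0, by omega⟩ ∘ₗ ι₀
  have hsame : ∀ j y, sg j y j = y := fun j y => Pi.single_eq_same (M := fun l => (QF l).carrier) j y
  have hne : ∀ j l y, l ≠ j → sg j y l = 0 := fun j l y h => Pi.single_eq_of_ne (M := fun l => (QF l).carrier) h y
  refine ⟨piMod 𝒜 QF, D, p, ι, ?_, ?_, ?_, ?_, ?_, ?_, ?_, ?_, ?_⟩
  · have key : (LinearMap.id : (∀ l, (QF l).carrier) →ₗ[R] _) = ∑ j, sg j ∘ₗ LinearMap.id ∘ₗ comp j := by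
      refine LinearMap.ext fun x => ?_
      rw [LinearMap.sum_apply]
      exact (Finset.univ_sum_single x).symm
    show (LinearMap.id : (∀ l, (QF l).carrier) →ₗ[R] _) ∈ invSums 𝒜 (piGr 𝒜 QF)
    rw [key]
    exact sum_mem fun j _ => invSums_conj (𝒩 := piGr 𝒜 QF) (hid j.1) (i := comp j) (g := sg j)
      (fun d x hx => (mem_piGr 𝒜 QF).1 hx j) (fun d x hx => single_mem_piGr 𝒜 QF hx)
      fun e _ x => congrArg e (hsame j x)
  · intro d x hx
    refine (mem_piGr 𝒜 QF).2 fun j => ?_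
    obtain ⟨_ | j, hj⟩ := j
    · exact zero_mem _
    · exact hδ j d _ ((mem_piGr 𝒜 QF).1 hx ⟨j, Nat.lt_of_succ_lt hj⟩)
  · intro i
    show GrLC.IsGrHom (piGr 𝒜 QF) (piGr 𝒜 QF) (p i)
    intro d x hx
    refine (mem_piGr 𝒜 QF).2 fun j => ?_
    rw [hp]
    split_ifs
    · exact (mem_piGr 𝒜 QF).1 hx j
    · exact zero_mem _
  · show Cx (n + 2) D p
    constructor
    · refine LinearMap.ext fun x => funext fun j => ?_
      obtain ⟨_ | _ | j, hj⟩ := j
      · rfl
      · change D (D x) ⟨0 + 1, hj⟩ = 0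
        rw [hDs, hD0, map_zero]
      · change D (D x) ⟨j + 1 + 1, hj⟩ = 0
        rw [hDs, hDs, hδδ]
    · intro i
      refine LinearMap.ext fun x => funext fun j => ?_
      rw [Module.End.mul_apply, hp, hp]
      split_ifs <;> rfl
    · intro i l hil
      refine LinearMap.ext fun x => funext fun j => ?_
      rw [Module.End.mul_apply, hp, hp, LinearMap.zero_apply]
      split_ifs with h1 h2
      · exact absurd (h1.symm.trans h2) hil
      · rfl
      · rfl
    · refine LinearMap.ext fun x => funext fun j => ?_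
      rw [LinearMap.sum_apply, Finset.sum_apply, Module.End.one_apply]
      simp only [hp, Finset.sum_ite_eq, Finset.mem_range, j.2, if_true]
    · intro i
      refine LinearMap.ext fun x => funext fun j => ?_
      rw [Module.End.mul_apply, Module.End.mul_apply, hp]
      obtain ⟨_ | j, hj⟩ := j
      · rw [if_neg (by simp)]; rfl
      · rw [hDs, hDs, hp]
        by_cases h : j = i
        · subst h; simp
        · rw [if_neg (by simpa using h), if_neg h, map_zero]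
    · refine LinearMap.ext fun x => funext fun j => ?_
      rw [Module.End.mul_apply, hp, LinearMap.zero_apply]
      split_ifs with h
      · obtain ⟨j, hj⟩ := j
        obtain rfl : j = 0 := h
        exact hD0 x hj
      · rfl
    · intro i hi
      refine LinearMap.ext fun x => funext fun j => ?_
      rw [hp, if_neg (by omega)]
      rfl
  · exact fun d x hx => single_mem_piGr 𝒜 QF (hι₀ d x hx)
  · intro m
    rw [← hι₀i m]
    show sg ⟨0, Nat.succ_pos _⟩ (ι₀ m) = 0 ↔ _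
    exact ⟨fun h => (hsame ⟨0, Nat.succ_pos _⟩ (ι₀ m)).symm.trans (congrFun h ⟨0, Nat.succ_pos _⟩),
      fun h => by rw [h, map_zero]⟩
  · show LinearMap.range ι ≤ LinearMap.ker D ⊓ LinearMap.range (p 0)
    · rintro _ ⟨m, rfl⟩
      refine ⟨LinearMap.mem_ker.2 (funext fun j => ?_), ι m, funext fun j => ?_⟩
      · obtain ⟨_ | j, hj⟩ := j
        · rfl
        · rw [hDs]
          rcases j with _ | j
          · rw [show ι m = sg ⟨0, Nat.succ_pos _⟩ (ι₀ m) from rfl, hsame,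
              LinearMap.mem_ker.1 (hι₀r ⟨m, rfl⟩)]
            rfl
          · rw [show ι m = sg ⟨0, Nat.succ_pos _⟩ (ι₀ m) from rfl, hne _ _ _ (by simp), map_zero]
            rfl
      · rw [hp]
        split_ifs with h
        · rfl
        · exact (hne _ _ _ fun h' => h (congrArg Fin.val h')).symm
  · show ∃ c : ↥(LinearMap.ker D ⊓ LinearMap.range (p 0)) →ₗ[R] E.H a 1,
        (∀ d, ∀ x : ↥(LinearMap.ker D ⊓ LinearMap.range (p 0)), x.1 ∈ piGr 𝒜 QF d → c x ∈ E.Hgr a 1 d) ∧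
        ∀ x, c x = 0 ↔ x.1 ∈ LinearMap.range ι
    let J : Fin (n + 2) := ⟨0, by omega⟩
    have hker : ∀ x : ↥(LinearMap.ker D ⊓ LinearMap.range (p 0)), x.1 J ∈ LinearMap.ker (δ 0) := by
      intro x
      have h := congrFun (LinearMap.mem_ker.1 x.2.1) ⟨0 + 1, by omega⟩
      rw [hDs] at h
      exact LinearMap.mem_ker.2 h
    refine ⟨c₀ ∘ₗ (comp J ∘ₗ (LinearMap.ker D ⊓ LinearMap.range (p 0)).subtype).codRestrict _ hker,
      fun d x hx => hc01 d _ ((mem_piGr 𝒜 QF).1 hx J), fun x => ?_⟩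
    change c₀ _ = 0 ↔ _
    rw [hc03]
    constructor
    · rintro ⟨m, hm⟩
      obtain ⟨-, y, hy⟩ := x.2
      refine ⟨m, funext fun j => ?_⟩
      change sg J (ι₀ m) j = x.1 j
      by_cases h : j = J
      · subst h; rw [hsame]; exact hm
      · rw [hne _ _ _ h, ← hy, hp, if_neg fun h' => h (Fin.ext h')]
    · rintro ⟨m, hm⟩
      exact ⟨m, (hsame J (ι₀ m)).symm.trans (congrFun hm J)⟩
  · intro i hi
    show ∃ c : ↥(LinearMap.ker D ⊓ LinearMap.range (p (i + 1))) →ₗ[R] E.H a (i + 2),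
        (∀ d, ∀ x : ↥(LinearMap.ker D ⊓ LinearMap.range (p (i + 1))), x.1 ∈ piGr 𝒜 QF d →
          c x ∈ E.Hgr a (i + 2) d) ∧
        (∀ d, ∀ w ∈ E.Hgr a (i + 2) d, ∃ x : ↥(LinearMap.ker D ⊓ LinearMap.range (p (i + 1))),
          x.1 ∈ piGr 𝒜 QF d ∧ c x = w) ∧
        ∀ x, c x = 0 ↔ x.1 ∈ LinearMap.range D
    let J : Fin (n + 2) := ⟨i + 1, by omega⟩
    have hker : ∀ x : ↥(LinearMap.ker D ⊓ LinearMap.range (p (i + 1))),
        x.1 J ∈ LinearMap.ker (δ (i + 1)) := by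
      intro x
      have h := congrFun (LinearMap.mem_ker.1 x.2.1) ⟨i + 1 + 1, by omega⟩
      rw [hDs] at h
      exact LinearMap.mem_ker.2 h
    have hsupp : ∀ x : ↥(LinearMap.ker D ⊓ LinearMap.range (p (i + 1))), ∀ j, j ≠ J → x.1 j = 0 := by
      intro x j hj
      obtain ⟨-, y, hy⟩ := x.2
      rw [← hy, hp, if_neg fun h => hj (Fin.ext h)]
    let cc : ↥(LinearMap.ker D ⊓ LinearMap.range (p (i + 1))) →ₗ[R] E.H a (i + 2) :=
      c i ∘ₗ (comp J ∘ₗ (LinearMap.ker D ⊓ LinearMap.range (p (i + 1))).subtype).codRestrict _ hker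
    refine ⟨cc, fun d x hx => hc1 i d _ ((mem_piGr 𝒜 QF).1 hx J), fun d w hw => ?_, fun x => ?_⟩
    · obtain ⟨q, hq, rfl⟩ := hc2 i d w hw
      refine ⟨⟨sg J q.1, LinearMap.mem_ker.2 (funext fun j => ?_), sg J q.1, funext fun j => ?_⟩,
        single_mem_piGr 𝒜 QF hq, congrArg (c i) (Subtype.ext (hsame J q.1))⟩
      · show D (sg J q.1) j = 0
        obtain ⟨_ | j, hj⟩ := j
        · rfl
        · rw [hDs]
          by_cases h : j = i + 1
          · subst h
            change δ (i + 1) (sg J q.1 J) = _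
            rw [hsame, LinearMap.mem_ker.1 q.2]
          · rw [hne J ⟨j, _⟩ _ (fun h' => h (congrArg Fin.val h')), map_zero]
      · show p (i + 1) (sg J q.1) j = sg J q.1 j
        rw [hp]
        split_ifs with h
        · rfl
        · exact (hne J j _ fun h' => h (congrArg Fin.val h')).symm
    · change c i _ = 0 ↔ _
      rw [hc3]
      constructor
      · rintro ⟨u, hu⟩
        refine ⟨sg ⟨i, by omega⟩ u, funext fun j => ?_⟩
        obtain ⟨_ | j, hj⟩ := j
        · exact (hsupp x _ fun h => absurd (congrArg Fin.val h) (Nat.succ_ne_zero i).symm).symm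
        · rw [hDs]
          by_cases h : j = i
          · subst h
            rw [hsame ⟨j, _⟩]
            exact hu
          · rw [hne _ _ _ (fun h' => h (congrArg Fin.val h')), map_zero]
            exact (hsupp x ⟨j + 1, hj⟩ fun h' => h (Nat.succ_injective (congrArg Fin.val h' :))).symm
      · rintro ⟨y, hy⟩
        refine ⟨y ⟨i, by omega⟩, ?_⟩
        have h := congrFun hy J
        rw [hDs] at h
        exact h

end Groth.Agent.Lib.Graded.Seg
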