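import Groth.Agent.Lib.Graded.Seg.Shift
import Groth.Agent.Lib.Graded.Seg.Tot
import Groth.Agent.Lib.Graded.Seg.Piece
import Groth.Agent.Lib.Graded.Seg.Component
import Groth.Agent.Lib.Graded.FinitenessApp

/-!
# Local cohomology of Segre products
-/

universe u

set_option maxHeartbeats 1600000
set_option linter.unusedSectionVars false

open DirectSum
open scoped TensorProduct

namespace Groth.Agent.Lib.Graded.Seg

open Groth.Agent.Lib.Graded.Basic Groth.Agent.Lib.Graded.StarInj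

variable {k : Type u} [Field k] {R : Type u} [CommRing R] [Algebra k R] [IsNoetherianRing R]
variable {𝒜 : ℤ → Submodule k R} [GradedAlgebra 𝒜]

theorem span_pos_eq :
    Ideal.span (⋃ n ∈ Set.Ioi (0 : ℤ), (𝒜 n : Set R)) = (FGInduction.posIdeal 𝒜).toIdeal :=
  FGInduction.span_iUnion_Ioi 𝒜

/-- Elements of high powers of the irrelevant ideal have no components of low degree. -/
theorem proj_pow_eq_zero (hpos : ∀ n : ℤ, n < 0 → 𝒜 n = ⊥) {a : HomogeneousIdeal 𝒜}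
    (ha : a.toIdeal = Ideal.span (⋃ n ∈ Set.Ioi (0 : ℤ), (𝒜 n : Set R))) :
    ∀ (N : ℕ) {r : R}, r ∈ a.toIdeal ^ N → ∀ g : ℤ, g < N → proj 𝒜 g r = 0 := by
  have hpos' : ∀ n : ℤ, n < 0 → ∀ c ∈ 𝒜 n, c = 0 := fun n hn c hc => by
    rwa [hpos n hn, Submodule.mem_bot] at hc
  intro N
  induction N with
  | zero => exact fun {r} _ g hg => hpos' g (by simpa using hg) _ (proj_mem 𝒜 g r)
  | succ N ih =>
    intro r hr g hg
    rw [pow_succ] at hr
    refine Submodule.mul_induction_on hr (fun x hx y hy => ?_) (fun x y hx hy => by rw [map_add, hx, hy, add_zero])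
    rw [← sum_proj 𝒜 y, Finset.mul_sum, map_sum]
    refine Finset.sum_eq_zero fun i _ => ?_
    rw [mul_comm, ← smul_eq_mul, proj_smul_of_mem 𝒜 𝒜 (proj_mem 𝒜 i y)]
    rcases lt_trichotomy i 0 with h | rfl | h
    · rw [hpos' i h _ (proj_mem 𝒜 i y), zero_smul]
    · rw [FinitenessApp.proj_zero_posIdeal (span_pos_eq (𝒜 := 𝒜) ▸ ha ▸ hy) hpos', zero_smul]
    · rw [ih hx (g - i) (by push_cast at hg; omega), smul_zero]

variable {M : Type u} [AddCommGroup M] [Module R M] [Module k M] [IsScalarTower k R M]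
variable {ℳ : ℤ → AddSubgroup M} [DirectSum.Decomposition ℳ] [SetLike.GradedSMul 𝒜 ℳ]

/-- What is bounded above in degree is torsion. -/
theorem torsion_of_bounded (hpos : ∀ n : ℤ, n < 0 → 𝒜 n = ⊥) {a : HomogeneousIdeal 𝒜}
    (ha : a.toIdeal = Ideal.span (⋃ n ∈ Set.Ioi (0 : ℤ), (𝒜 n : Set R)))
    {X : Type u} [AddCommGroup X] [Module R X] {𝒳 : ℤ → AddSubgroup X} [DirectSum.Decomposition 𝒳]
    [SetLike.GradedSMul 𝒜 𝒳] {Y Y' : Submodule R X} (hY : Y.IsHomogeneous 𝒳) (r₀ : ℤ)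
    (h : ∀ d, r₀ ≤ d → ∀ y ∈ Y, y ∈ 𝒳 d → y ∈ Y') {x : X} (hx : x ∈ Y) :
    ∃ N : ℕ, ∀ r ∈ a.toIdeal ^ N, r • x ∈ Y' := by
  have hexp : ∀ e, ∀ y ∈ Y, y ∈ 𝒳 e → ∃ N : ℕ, ∀ r ∈ a.toIdeal ^ N, r • y ∈ Y' := by
    intro e y hy hye
    refine ⟨(r₀ - e).toNat, fun r hr => ?_⟩
    rw [← sum_proj 𝒜 r, Finset.sum_smul]
    refine sum_mem fun g _ => ?_
    by_cases hg : g < ((r₀ - e).toNat : ℤ)
    · rw [proj_pow_eq_zero hpos ha _ hr g hg, zero_smul]
      exact zero_mem _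
    · exact h (g + e) (by omega) _ (Submodule.smul_mem _ _ hy) (smul_mem_add 𝒜 𝒳 (proj_mem 𝒜 g r) hye)
  choose! Nf hNf using fun e => hexp e (proj 𝒳 e x) (hY e hx) (proj_mem 𝒳 e x)
  refine ⟨(supp 𝒳 x).sup Nf, fun r hr => ?_⟩
  rw [← sum_proj 𝒳 x, Finset.smul_sum]
  exact sum_mem fun e he => hNf e r (Ideal.pow_le_pow_right (Finset.le_sup he) hr)

/-- In the degree `d` the map identifies the source with the submodule. -/
def BijAt {X Y : Type u} [AddCommGroup X] [Module R X] [AddCommGroup Y] [Module R Y] (𝒳 : ℤ → AddSubgroup X)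
    (𝒴 : ℤ → AddSubgroup Y) (ι : X →ₗ[R] Y) (Z : Submodule R Y) (d : ℤ) : Prop :=
  (∀ x ∈ 𝒳 d, ι x = 0 → x = 0) ∧ ∀ y ∈ Z, y ∈ 𝒴 d → ∃ x ∈ 𝒳 d, ι x = y

/-- The cohomology of the torsion free complex on a piece. -/
theorem side_coh [Nontrivial R] [Module.Finite R M] (hpos : ∀ n : ℤ, n < 0 → 𝒜 n = ⊥)
    (h0R : 𝒜 0 = Submodule.span k {(1 : R)}) {a : HomogeneousIdeal 𝒜}
    (ha : a.toIdeal = Ideal.span (⋃ n ∈ Set.Ioi (0 : ℤ), (𝒜 n : Set R))) (E : GrLC.StarInjRes 𝒜 ℳ)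
    {A : Type u} [AddCommGroup A] [Module R A] [Module k A] [IsScalarTower k R A]
    {𝔸 : ℤ → AddSubgroup A} [DirectSum.Decomposition 𝔸] [SetLike.GradedSMul 𝒜 𝔸]
    {D : Module.End R A} {p : ℕ → Module.End R A} {n : ℕ} (C : Cx (n + 2) D p)
    (hD : GrLC.IsGrHom 𝔸 𝔸 D) (hp : ∀ i, GrLC.IsGrHom 𝔸 𝔸 (p i))
    {ι : M →ₗ[R] A} (hι : GrLC.IsGrHom ℳ 𝔸 ι) (hker : ∀ m, ι m = 0 ↔ m ∈ GrLC.gam a.toIdeal M)
    (hr : LinearMap.range ι ≤ LinearMap.ker D ⊓ LinearMap.range (p 0))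
    (hc₀ : ∃ c : ↥(LinearMap.ker D ⊓ LinearMap.range (p 0)) →ₗ[R] E.H a 1,
        (∀ d, ∀ x : ↥(LinearMap.ker D ⊓ LinearMap.range (p 0)), x.1 ∈ 𝔸 d → c x ∈ E.Hgr a 1 d) ∧
        ∀ x, c x = 0 ↔ x.1 ∈ LinearMap.range ι)
    (hc : ∀ i < n, ∃ c : ↥(LinearMap.ker D ⊓ LinearMap.range (p (i + 1))) →ₗ[R] E.H a (i + 2),
        (∀ d, ∀ x : ↥(LinearMap.ker D ⊓ LinearMap.range (p (i + 1))), x.1 ∈ 𝔸 d →
          c x ∈ E.Hgr a (i + 2) d) ∧
        (∀ d, ∀ w ∈ E.Hgr a (i + 2) d, ∃ x : ↥(LinearMap.ker D ⊓ LinearMap.range (p (i + 1))),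
          x.1 ∈ 𝔸 d ∧ c x = w) ∧
        ∀ x, c x = 0 ↔ x.1 ∈ LinearMap.range D) :
    (∀ d i, i ≤ n → Module.Finite k (coh (resK (𝒜 := 𝒜) D hD d) (resK (𝒜 := 𝒜) (p i) (hp i) d))) ∧
      (∀ d, E.Hcomp a 0 d = ⊥ → E.Hcomp a 1 d = ⊥ →
        BijAt ℳ 𝔸 ι (LinearMap.ker D ⊓ LinearMap.range (p 0)) d ∧
        Module.finrank k (coh (resK (𝒜 := 𝒜) D hD d) (resK (𝒜 := 𝒜) (p 0) (hp 0) d)) =
          Module.finrank (GrLC.deg0 𝒜) (GrLC.comp 𝒜 ℳ d)) ∧
      (∀ d i, i < n → Module.finrank k (coh (resK (𝒜 := 𝒜) D hD d) (resK (𝒜 := 𝒜) (p (i + 1)) (hp (i + 1)) d)) =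
        Module.finrank (GrLC.deg0 𝒜) (E.Hcomp a (i + 2) d)) ∧
      ∃ r : ℤ, ∀ d, r ≤ d → ∀ i, E.Hcomp a i d = ⊥ := by
  have hpos' : ∀ n : ℤ, n < 0 → ∀ c ∈ 𝒜 n, c = 0 := fun n hn c hc => by
    rwa [hpos n hn, Submodule.mem_bot] at hc
  have ha' : a.toIdeal = (FGInduction.posIdeal 𝒜).toIdeal := ha.trans span_pos_eq
  -- degree zero
  obtain ⟨c₀, hc01, hc02⟩ := hc₀
  let K₀ := LinearMap.ker D ⊓ LinearMap.range (p 0)
  have hK₀ : ∀ x : A, x ∈ LinearMap.range D → x ∈ K₀ → x = 0 := by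
    rintro x ⟨y, hy⟩ ⟨-, z, hz⟩
    calc x = p 0 z := hz.symm
      _ = p 0 (p 0 z) := (LinearMap.congr_fun (C.idem 0) z).symm
      _ = p 0 (D y) := by rw [hz, hy]
      _ = 0 := LinearMap.congr_fun C.zero y
  haveI := Pieces.isNoetherianRing_deg0 𝒜
  have hfin0 : ∀ d, Module.Finite k (coh (resK (𝒜 := 𝒜) D hD d) (resK (𝒜 := 𝒜) (p 0) (hp 0) d)) := by
    intro d
    letI : Module k (E.H a 1) := Module.compHom _ (algebraMap k R)
    haveI : IsScalarTower k R (E.H a 1) := IsScalarTower.of_algebraMap_smul fun _ _ => rfl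
    haveI : SetLike.GradedSMul 𝒜 (E.Hgr a 1) := Res.hgrGSMul E a 1
    haveI := (finrank_pieceK (𝒜 := 𝒜) (ℳ := E.Hgr a 1) h0R (E.Hcomp a 1 d) fun x => Iff.rfl).2
      (FinitenessApp.finite_Hcomp hpos' ha' (GrLC.GMod.of 𝒜 M ℳ) (inferInstanceAs (Module.Finite R M)) E 1 d)
    haveI := Pieces.isNoetherian_comp 𝒜 ℳ d
    haveI := (finrank_pieceK (𝒜 := 𝒜) (ℳ := ℳ) h0R (GrLC.comp 𝒜 ℳ d) fun x => Iff.rfl).2 inferInstance
    let Z := LinearMap.ker (resK (𝒜 := 𝒜) D hD d) ⊓ LinearMap.range (resK (𝒜 := 𝒜) (p 0) (hp 0) d)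
    have hZK : ∀ z : Z, (z.1 : A) ∈ K₀ := fun z => by
      obtain ⟨hz, y, hy⟩ := z.2
      exact ⟨congrArg Subtype.val (LinearMap.mem_ker.1 hz), y.1, congrArg Subtype.val hy⟩
    let g : Z →ₗ[k] pieceK 𝒜 (E.Hgr a 1) d :=
      { toFun := fun z => ⟨c₀ ⟨_, hZK z⟩, hc01 d _ z.1.2⟩
        map_add' := fun u v => Subtype.ext
          ((congrArg c₀ (Subtype.ext rfl)).trans (map_add c₀ ⟨_, hZK u⟩ ⟨_, hZK v⟩))
        map_smul' := fun c u => Subtype.ext (by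
          show c₀ ⟨_, _⟩ = c • c₀ ⟨_, hZK u⟩
          rw [← algebraMap_smul R c (c₀ ⟨_, hZK u⟩), ← map_smul]
          exact congrArg c₀ (Subtype.ext (algebraMap_smul R c ((u.1 : pieceK 𝒜 𝔸 d) : A)).symm)) }
    have hι' : ∀ m : pieceK 𝒜 ℳ d, (⟨ι m.1, hι d m.1 m.2⟩ : pieceK 𝒜 𝔸 d) ∈ Z := fun m => by
      obtain ⟨h1, w, hw⟩ := hr ⟨m.1, rfl⟩
      exact ⟨LinearMap.mem_ker.2 (Subtype.ext h1), ⟨proj 𝔸 d w, proj_mem 𝔸 d w⟩,
        Subtype.ext ((map_proj (hp 0) d w).trans (by rw [hw, proj_of_mem 𝔸 (hι d m.1 m.2)]))⟩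
    let f : pieceK 𝒜 ℳ d →ₗ[k] Z :=
      { toFun := fun m => ⟨⟨ι m.1, hι d m.1 m.2⟩, hι' m⟩
        map_add' := fun u v => Subtype.ext (Subtype.ext (map_add ι u.1 v.1))
        map_smul' := fun c u => Subtype.ext (Subtype.ext (ι.map_smul_of_tower c u.1)) }
    have hex : LinearMap.ker g ≤ LinearMap.range f := fun z hz => by
      obtain ⟨m, hm⟩ := (hc02 ⟨_, hZK z⟩).1 (congrArg Subtype.val (LinearMap.mem_ker.1 hz))
      refine ⟨⟨proj ℳ d m, proj_mem ℳ d m⟩, Subtype.ext (Subtype.ext ?_)⟩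
      change ι (proj ℳ d m) = _
      rw [map_proj hι, hm, proj_of_mem 𝔸 z.1.2]
    haveI : Module.Finite k (LinearMap.ker g) :=
      Module.Finite.of_injective (Submodule.inclusion hex) (Submodule.inclusion_injective hex)
    haveI : Module.Finite k (Z ⧸ LinearMap.ker g) := Module.Finite.equiv g.quotKerEquivRange.symm
    haveI : Module.Finite k Z := Module.Finite.of_submodule_quotient (LinearMap.ker g)
    exact Module.Finite.of_surjective (Submodule.mkQ _) (Submodule.mkQ_surjective _)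
  have hbij : ∀ d, E.Hcomp a 0 d = ⊥ → E.Hcomp a 1 d = ⊥ → BijAt ℳ 𝔸 ι K₀ d := by
    intro d h0 h1
    refine ⟨fun m hm h => ?_, fun y hy hyd => ?_⟩
    · have hmg := (hker m).1 h
      have h2 : Chain.h0Map (E := E) a ⟨m, hmg⟩ ∈ E.Hcomp a 0 d :=
        Chain.h0Map_grHom (E := E) a d ⟨m, hmg⟩ hm
      rw [h0, Submodule.mem_bot] at h2
      exact congrArg Subtype.val ((map_eq_zero_iff _ (Chain.h0Map_bijective (E := E) a).1).1 h2)
    · have h2 : c₀ ⟨y, hy⟩ ∈ E.Hcomp a 1 d := hc01 d ⟨y, hy⟩ hyd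
      rw [h1, Submodule.mem_bot] at h2
      exact exists_hom_preimage hι hyd ((hc02 ⟨y, hy⟩).1 h2)
  have e0 : ∀ d, BijAt ℳ 𝔸 ι K₀ d →
      Nonempty (coh (resK (𝒜 := 𝒜) D hD d) (resK (𝒜 := 𝒜) (p 0) (hp 0) d) ≃ₗ[k] pieceK 𝒜 ℳ d) := by
    intro d hb
    let f : pieceK 𝒜 ℳ d →ₗ[k] coh (resK (𝒜 := 𝒜) D hD d) (resK (𝒜 := 𝒜) (p 0) (hp 0) d) :=
      Submodule.mkQ _ ∘ₗ LinearMap.codRestrict _
        (((ι.restrictScalars k).restrict (p := pieceK 𝒜 ℳ d) (q := pieceK 𝒜 𝔸 d) fun x hx => hι d x hx))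
        (fun m => by
          obtain ⟨h1, w, hw⟩ := hr ⟨m.1, rfl⟩
          exact ⟨LinearMap.mem_ker.2 (Subtype.ext h1), ⟨proj 𝔸 d w, proj_mem 𝔸 d w⟩,
            Subtype.ext ((map_proj (hp 0) d w).trans (by rw [hw, proj_of_mem 𝔸 (hι d m.1 m.2)]; rfl))⟩)
    refine ⟨(LinearEquiv.ofBijective f ⟨(injective_iff_map_eq_zero f).2 fun m hm => ?_, fun y => ?_⟩).symm⟩
    · obtain ⟨y, hy⟩ := (Submodule.Quotient.mk_eq_zero _).1 hm
      refine Subtype.ext (hb.1 m.1 m.2 (hK₀ _ ⟨y.1, congrArg Subtype.val hy⟩ (hr ⟨m.1, rfl⟩)))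
    · obtain ⟨⟨x, hx⟩, rfl⟩ := Submodule.mkQ_surjective _ y
      obtain ⟨hx0, w, hw⟩ := hx
      obtain ⟨m, hm, hmx⟩ := hb.2 x.1 ⟨congrArg Subtype.val (LinearMap.mem_ker.1 hx0), w.1,
        congrArg Subtype.val hw⟩ x.2
      exact ⟨⟨m, hm⟩, congrArg (Submodule.mkQ _) (Subtype.ext (Subtype.ext hmx))⟩
  have eH : ∀ d i, i < n →
      Module.Finite k (coh (resK (𝒜 := 𝒜) D hD d) (resK (𝒜 := 𝒜) (p (i + 1)) (hp (i + 1)) d)) ∧
      Module.finrank k (coh (resK (𝒜 := 𝒜) D hD d) (resK (𝒜 := 𝒜) (p (i + 1)) (hp (i + 1)) d)) =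
        Module.finrank (GrLC.deg0 𝒜) (E.Hcomp a (i + 2) d) := by
    intro d i hi
    obtain ⟨c, hc1, hc2, hc3⟩ := hc i hi
    letI : Module k (E.H a (i + 2)) := Module.compHom _ (algebraMap k R)
    haveI : IsScalarTower k R (E.H a (i + 2)) := IsScalarTower.of_algebraMap_smul fun _ _ => rfl
    haveI : SetLike.GradedSMul 𝒜 (E.Hgr a (i + 2)) := Res.hgrGSMul E a (i + 2)
    obtain ⟨e⟩ := nonempty_coh_equiv (𝒜 := 𝒜) (𝒩 := E.Hgr a (i + 2)) hD (hp (i + 1)) c d (hc1 d) (hc2 d) hc3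
    obtain ⟨h1, h2⟩ := finrank_pieceK (𝒜 := 𝒜) (ℳ := E.Hgr a (i + 2)) h0R (E.Hcomp a (i + 2) d)
      (fun x => Iff.rfl)
    haveI := h2 (FinitenessApp.finite_Hcomp hpos' ha' (GrLC.GMod.of 𝒜 M ℳ) (inferInstanceAs (Module.Finite R M)) E (i + 2) d)
    exact ⟨Module.Finite.equiv e.symm, e.finrank_eq.trans h1⟩
  refine ⟨fun d i hi => ?_, fun d h0 h1 => ⟨hbij d h0 h1, ?_⟩, fun d i hi => (eH d i hi).2, ?_⟩
  · rcases i with _ | i
    · exact hfin0 d
    · exact (eH d i hi).1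
  · obtain ⟨e⟩ := e0 d (hbij d h0 h1)
    exact e.finrank_eq.trans (finrank_pieceK (𝒜 := 𝒜) (ℳ := ℳ) h0R (GrLC.comp 𝒜 ℳ d) fun x => Iff.rfl).1
  · obtain ⟨r, hr'⟩ := Finiteness.exists_V_of_le hpos' (a := a) ha'.ge (GrLC.GMod.of 𝒜 M ℳ) (inferInstanceAs (Module.Finite R M))
    exact ⟨r, fun d hd i => (LES.Hcomp_eq_bot_iff a E i d).2 (hr' i d hd E)⟩

section Main

variable {S : Type u} [CommRing S] [Algebra k S] [IsNoetherianRing S] {ℬ : ℤ → Submodule k S} [GradedAlgebra ℬ]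
variable {T : Type u} [CommRing T] [Algebra k T] [IsNoetherianRing T] {𝒯 : ℤ → Submodule k T} [GradedAlgebra 𝒯]
variable {ψ : T →ₐ[k] R ⊗[k] S}
variable {N : Type u} [AddCommGroup N] [Module S N] [Module k N] [IsScalarTower k S N]
variable {𝒩 : ℤ → AddSubgroup N} [DirectSum.Decomposition 𝒩] [SetLike.GradedSMul ℬ 𝒩]
variable {P : Type u} [AddCommGroup P] [Module T P] {𝒬 : ℤ → AddSubgroup P} [DirectSum.Decomposition 𝒬]
  [SetLike.GradedSMul 𝒯 𝒬] {φ : P →+ M ⊗[k] N}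

theorem tmap_injective {V W V' W' : Type u} [AddCommGroup V] [Module k V] [AddCommGroup W] [Module k W]
    [AddCommGroup V'] [Module k V'] [AddCommGroup W'] [Module k W'] {f : V →ₗ[k] V'} {g : W →ₗ[k] W'}
    (hf : Function.Injective f) (hg : Function.Injective g) : Function.Injective (TensorProduct.map f g) := by
  rw [← LinearMap.rTensor_comp_lTensor, LinearMap.coe_comp]
  exact (Module.Flat.rTensor_preserves_injective_linearMap f hf).comp
    (Module.Flat.lTensor_preserves_injective_linearMap g hg)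

set_option maxHeartbeats 6400000 in
/-- Local cohomology of a Segre product in degrees at least two, with the components of the isomorphism. -/
theorem kunneth_full [Nontrivial R] [Nontrivial S] [Nontrivial T] [Module.Finite R M] [Module.Finite S N]
    (hposR : ∀ n : ℤ, n < 0 → 𝒜 n = ⊥) (h0R : 𝒜 0 = Submodule.span k {(1 : R)})
    (hposS : ∀ n : ℤ, n < 0 → ℬ n = ⊥) (h0S : ℬ 0 = Submodule.span k {(1 : S)})
    (hposT : ∀ n : ℤ, n < 0 → 𝒯 n = ⊥) (h0T : 𝒯 0 = Submodule.span k {(1 : T)})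
    (hψ : ∀ n : ℤ, (𝒯 n).map ψ.toLinearMap = GrSeg.segrePiece k 𝒜 ℬ n)
    {mR : HomogeneousIdeal 𝒜} (hmR : mR.toIdeal = Ideal.span (⋃ n ∈ Set.Ioi (0 : ℤ), (𝒜 n : Set R)))
    {mS : HomogeneousIdeal ℬ} (hmS : mS.toIdeal = Ideal.span (⋃ n ∈ Set.Ioi (0 : ℤ), (ℬ n : Set S)))
    {mT : HomogeneousIdeal 𝒯} (hmT : mT.toIdeal = Ideal.span (⋃ n ∈ Set.Ioi (0 : ℤ), (𝒯 n : Set T)))
    (EM : GrLC.StarInjRes 𝒜 ℳ) (EN : GrLC.StarInjRes ℬ 𝒩)
    (hP : IsSeg ψ ℳ 𝒩 𝒬 φ) (EP : GrLC.StarInjRes 𝒯 𝒬) :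
    ((∀ q d, q ≤ 1 → EM.Hcomp mR q d = ⊥) → (∀ q d, q ≤ 1 → EN.Hcomp mS q d = ⊥) →
      Subsingleton (EP.H mT 0) ∧ Subsingleton (EP.H mT 1)) ∧ (∀ (m : ℕ) (d : ℤ), ∃ D₀ E₀ : ℕ,
      (EM.Hcomp mR 0 d = ⊥ → EM.Hcomp mR 1 d = ⊥ → D₀ = Module.finrank (GrLC.deg0 𝒜) (GrLC.comp 𝒜 ℳ d)) ∧
      (EN.Hcomp mS 0 d = ⊥ → EN.Hcomp mS 1 d = ⊥ → E₀ = Module.finrank (GrLC.deg0 ℬ) (GrLC.comp ℬ 𝒩 d)) ∧
      Module.finrank (GrLC.deg0 𝒯) (EP.Hcomp mT (m + 2) d) =
        D₀ * Module.finrank (GrLC.deg0 ℬ) (EN.Hcomp mS (m + 2) d) +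
        Module.finrank (GrLC.deg0 𝒜) (EM.Hcomp mR (m + 2) d) * E₀ +
        ∑ i ∈ Finset.range m, Module.finrank (GrLC.deg0 𝒜) (EM.Hcomp mR (i + 2) d) *
          Module.finrank (GrLC.deg0 ℬ) (EN.Hcomp mS (m - 1 - i + 2) d)) ∧ ∀ (m i : ℕ), i < m → ∀ [Module k (EM.H mR (i + 2))] [IsScalarTower k R (EM.H mR (i + 2))]
        [Module k (EN.H mS (m - 1 - i + 2))] [IsScalarTower k S (EN.H mS (m - 1 - i + 2))]
        {W : Type u} [AddCommGroup W] [Module T W] {𝒲 : ℤ → AddSubgroup W} [DirectSum.Decomposition 𝒲]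
        {φW : W →+ EM.H mR (i + 2) ⊗[k] EN.H mS (m - 1 - i + 2)},
        IsSeg ψ (EM.Hgr mR (i + 2)) (EN.Hgr mS (m - 1 - i + 2)) 𝒲 φW →
        ∃ Φ : W →ₗ[T] EP.H mT (m + 2), GrLC.IsGrHom 𝒲 (EP.Hgr mT (m + 2)) Φ ∧ Function.Injective Φ := by
  suffices main : ∀ m : ℕ, ((∀ q d, q ≤ 1 → EM.Hcomp mR q d = ⊥) → (∀ q d, q ≤ 1 → EN.Hcomp mS q d = ⊥) →
      Subsingleton (EP.H mT 0) ∧ Subsingleton (EP.H mT 1)) ∧ (∀ d : ℤ, ∃ D₀ E₀ : ℕ,
      (EM.Hcomp mR 0 d = ⊥ → EM.Hcomp mR 1 d = ⊥ → D₀ = Module.finrank (GrLC.deg0 𝒜) (GrLC.comp 𝒜 ℳ d)) ∧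
      (EN.Hcomp mS 0 d = ⊥ → EN.Hcomp mS 1 d = ⊥ → E₀ = Module.finrank (GrLC.deg0 ℬ) (GrLC.comp ℬ 𝒩 d)) ∧
      Module.finrank (GrLC.deg0 𝒯) (EP.Hcomp mT (m + 2) d) =
        D₀ * Module.finrank (GrLC.deg0 ℬ) (EN.Hcomp mS (m + 2) d) +
        Module.finrank (GrLC.deg0 𝒜) (EM.Hcomp mR (m + 2) d) * E₀ +
        ∑ i ∈ Finset.range m, Module.finrank (GrLC.deg0 𝒜) (EM.Hcomp mR (i + 2) d) *
          Module.finrank (GrLC.deg0 ℬ) (EN.Hcomp mS (m - 1 - i + 2) d)) ∧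
      ∀ i, i < m → ∀ [Module k (EM.H mR (i + 2))] [IsScalarTower k R (EM.H mR (i + 2))]
        [Module k (EN.H mS (m - 1 - i + 2))] [IsScalarTower k S (EN.H mS (m - 1 - i + 2))]
        {W : Type u} [AddCommGroup W] [Module T W] {𝒲 : ℤ → AddSubgroup W} [DirectSum.Decomposition 𝒲]
        {φW : W →+ EM.H mR (i + 2) ⊗[k] EN.H mS (m - 1 - i + 2)},
        IsSeg ψ (EM.Hgr mR (i + 2)) (EN.Hgr mS (m - 1 - i + 2)) 𝒲 φW →
        ∃ Φ : W →ₗ[T] EP.H mT (m + 2), GrLC.IsGrHom 𝒲 (EP.Hgr mT (m + 2)) Φ ∧ Function.Injective Φ from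
    ⟨(main 0).1, fun m => (main m).2.1, fun m => (main m).2.2⟩
  intro m
  obtain ⟨n, hn⟩ : ∃ n, n = m + 1 := ⟨_, rfl⟩
  -- the two sides
  obtain ⟨A, DA, pA, ιA, hidA, hDA, hpA, CA, hιA, hιAk, hιAr, hcA0, hcA⟩ := exists_tot mR hmR EM n
  obtain ⟨B, DB, pB, ιB, hidB, hDB, hpB, CB, hιB, hιBk, hιBr, hcB0, hcB⟩ := exists_tot mS hmS EN n
  letI : Module k A.carrier := Module.compHom _ (algebraMap k R)
  haveI : IsScalarTower k R A.carrier := IsScalarTower.of_algebraMap_smul fun _ _ => rfl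
  letI : Module k B.carrier := Module.compHom _ (algebraMap k S)
  haveI : IsScalarTower k S B.carrier := IsScalarTower.of_algebraMap_smul fun _ _ => rfl
  obtain ⟨hfA, hA0, hA1, rA, hrA⟩ := side_coh hposR h0R hmR EM CA hDA hpA hιA hιAk hιAr hcA0 hcA
  obtain ⟨hfB, hB0, hB1, rB, hrB⟩ := side_coh hposS h0S hmS EN CB hDB hpB hιB hιBk hιBr hcB0 hcB
  -- over the field
  let DAk : Module.End k A.carrier := DA.restrictScalars k
  let DBk : Module.End k B.carrier := DB.restrictScalars k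
  let pAk : ℕ → Module.End k A.carrier := fun i => (pA i).restrictScalars k
  let pBk : ℕ → Module.End k B.carrier := fun i => (pB i).restrictScalars k
  let resR : Module.End R A.carrier →+* Module.End k A.carrier :=
    { toFun := fun f => f.restrictScalars k, map_one' := rfl, map_mul' := fun _ _ => rfl,
      map_zero' := rfl, map_add' := fun _ _ => rfl }
  let resS : Module.End S B.carrier →+* Module.End k B.carrier :=
    { toFun := fun f => f.restrictScalars k, map_one' := rfl, map_mul' := fun _ _ => rfl,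
      map_zero' := rfl, map_add' := fun _ _ => rfl }
  have CAk : Cx (n + 2) DAk pAk := CA.map resR
  have CBk : Cx (n + 2) DBk pBk := CB.map resS
  have hsign : resR (Cx.sign (n + 2) pA) = Cx.sign (n + 2) pAk := by
    rw [Cx.sign, map_sum]
    exact Finset.sum_congr rfl fun i _ => map_zsmul resR _ _
  have hsignDeg : GrLC.IsGrHom A.gr A.gr (Cx.sign (n + 2) pA) := by
    intro d x hx
    rw [Cx.sign, LinearMap.sum_apply]
    exact sum_mem fun i _ => AddSubgroup.zsmul_mem _ (hpA i d x hx) _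
  obtain ⟨G, φG, hG⟩ := exists_seg (M := A.carrier) (N := B.carrier) 𝒯 A.gr B.gr hψ
  -- the differential and the projections
  have hDseg : SegHom R S A.gr B.gr A.gr B.gr (totD (n + 2) DAk pAk DBk) 0 := by
    have h2 := segHom_map₀ (k := k) (f := Cx.sign (n + 2) pA) (g := DB) hsignDeg hDB
    rw [show (Cx.sign (n + 2) pA).restrictScalars k = Cx.sign (n + 2) pAk from hsign] at h2
    exact (segHom_map₀ (k := k) (f := DA) (g := LinearMap.id) hDA (fun _ _ hx => hx)).add h2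
  obtain ⟨DG, hDG, hφD⟩ := exists_lift hG hG hDseg
  have hπseg : ∀ j, SegHom R S A.gr B.gr A.gr B.gr (totP pAk pBk j) 0 := fun j =>
    segHom_sum _ fun i _ => segHom_map₀ (k := k) (hpA i) (hpB (j - i))
  choose πG hπG hφπ using fun j => exists_lift hG hG (hπseg j)
  have hDG' : GrLC.IsGrHom G.gr G.gr DG := fun d x hx => add_zero d ▸ hDG d x hx
  have hπG' : ∀ j, GrLC.IsGrHom G.gr G.gr (πG j) := fun j d x hx => add_zero d ▸ hπG j d x hx
  have haT : ∀ c : ℤ, 0 < c → ∀ r ∈ 𝒯 c, r ∈ mT.toIdeal := fun c hc r hr =>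
    hmT ▸ Ideal.subset_span (Set.mem_biUnion (Set.mem_Ioi.2 hc) hr)
  have hsys : Sys mT DG πG :=
    { acyclic := acyclic_of_invSums mT haT (id_mem_invSums_seg hψ hG hidA hidB)
      D_deg := hDG'
      π_deg := hπG'
      sq := fun x => hG.injective (by
        rw [hφD, hφD, map_zero, ← Module.End.mul_apply, tot_sq CAk CBk, LinearMap.zero_apply])
      idem := fun j x => hG.injective (by
        rw [hφπ, hφπ, ← Module.End.mul_apply, totP_idem CAk CBk])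
      comm := fun j x => hG.injective (by
        rw [hφπ, hφD, hφD, hφπ, ← Module.End.mul_apply, ← Module.End.mul_apply, totP_comm CAk CBk]) }
  -- the embedding of the Segre product
  have hιseg : SegHom R S ℳ 𝒩 A.gr B.gr
      (TensorProduct.map (ιA.restrictScalars k) (ιB.restrictScalars k)) 0 := segHom_map₀ hιA hιB
  obtain ⟨ιP, hιP, hφι⟩ := exists_lift hP hG hιseg
  have hιP' : GrLC.IsGrHom 𝒬 G.gr ιP := fun d x hx => add_zero d ▸ hιP d x hx
  have hA' : ∀ v, DAk (ιA v) = 0 ∧ pAk 0 (ιA v) = ιA v := fun v => by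
    obtain ⟨h1, w, hw⟩ := hιAr ⟨v, rfl⟩
    exact ⟨h1, by rw [← hw]; exact LinearMap.congr_fun (CA.idem 0) w⟩
  have hB' : ∀ v, DBk (ιB v) = 0 ∧ pBk 0 (ιB v) = ιB v := fun v => by
    obtain ⟨h1, w, hw⟩ := hιBr ⟨v, rfl⟩
    exact ⟨h1, by rw [← hw]; exact LinearMap.congr_fun (CB.idem 0) w⟩
  have hιle : LinearMap.range ιP ≤ cyc DG πG 0 := by
    rintro _ ⟨y, rfl⟩
    have key : ∀ v : M ⊗[k] N,
        totD (n + 2) DAk pAk DBk (TensorProduct.map (ιA.restrictScalars k) (ιB.restrictScalars k) v) = 0 ∧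
        totP pAk pBk 0 (TensorProduct.map (ιA.restrictScalars k) (ιB.restrictScalars k) v) =
          TensorProduct.map (ιA.restrictScalars k) (ιB.restrictScalars k) v := by
      intro v
      induction v with
      | zero => simp
      | add p q hp hq =>
        simp only [map_add, hp.1, hp.2, hq.1, hq.2, add_zero, and_self]
      | tmul p q =>
        refine ⟨?_, ?_⟩
        · simp only [totD, LinearMap.add_apply, TensorProduct.map_tmul, LinearMap.coe_restrictScalars,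
            (hA' p).1, (hB' q).1, TensorProduct.zero_tmul, TensorProduct.tmul_zero, add_zero]
        · simp [totP, (hA' p).2, (hB' q).2]
    refine ⟨LinearMap.mem_ker.2 (hG.injective ?_), ιP y, hG.injective ?_⟩
    · rw [hφD, hφι, (key _).1, map_zero]
    · rw [hφπ, hφι, (key _).2]
  -- in each degree where the factors are identified with their cocycles
  have hgood : ∀ d, BijAt ℳ A.gr ιA (LinearMap.ker DA ⊓ LinearMap.range (pA 0)) d →
      BijAt 𝒩 B.gr ιB (LinearMap.ker DB ⊓ LinearMap.range (pB 0)) d → BijAt 𝒬 G.gr ιP (cyc DG πG 0) d := by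
    intro d hbA hbB
    let MI := TensorProduct.map (ιA.restrictScalars k ∘ₗ (pieceK 𝒜 ℳ d).subtype)
      (ιB.restrictScalars k ∘ₗ (pieceK ℬ 𝒩 d).subtype)
    let MS := TensorProduct.map (pieceK 𝒜 ℳ d).subtype (pieceK ℬ 𝒩 d).subtype
    have hMI : ∀ v, MI v = TensorProduct.map (ιA.restrictScalars k) (ιB.restrictScalars k) (MS v) := fun v => by
      rw [← LinearMap.comp_apply, ← TensorProduct.map_comp]
    have hMIinj : Function.Injective MI := tmap_injective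
      ((injective_iff_map_eq_zero _).2 fun u hu => Subtype.ext (hbA.1 u.1 u.2 hu))
      ((injective_iff_map_eq_zero _).2 fun u hu => Subtype.ext (hbB.1 u.1 u.2 hu))
    have hMS : ∀ w ∈ GrSeg.segrePiece k ℳ 𝒩 d, w ∈ LinearMap.range MS := by
      intro w hw
      refine (Submodule.span_le.2 ?_ : GrSeg.segrePiece k ℳ 𝒩 d ≤ LinearMap.range MS) hw
      rintro _ ⟨p, hp, q, hq, rfl⟩
      exact ⟨(⟨p, hp⟩ : pieceK 𝒜 ℳ d) ⊗ₜ[k] (⟨q, hq⟩ : pieceK ℬ 𝒩 d), rfl⟩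
    refine ⟨fun y hy h => ?_, fun x hxc hx => ?_⟩
    · obtain ⟨v, hv⟩ := hMS _ ((hP.image_piece d).le ⟨y, hy, rfl⟩)
      have h2 : MI v = 0 := by rw [hMI, hv, ← hφι, h, map_zero]
      rw [← map_zero MI] at h2
      exact hP.injective (by rw [← hv, hMIinj h2, map_zero, map_zero])
    · obtain ⟨hx1, y, hy⟩ := hxc
      have e1 : totD (n + 2) DAk pAk DBk (φG x) = 0 := by rw [← hφD, LinearMap.mem_ker.1 hx1, map_zero]
      have e2 : tmap (pAk 0) (pBk 0) (φG x) = φG x := by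
        have h := hφπ 0 x
        rw [show πG 0 x = x by rw [← hy, hsys.idem]] at h
        simpa [totP] using h.symm
      have c1 : tmap DAk 1 (φG x) = 0 := by
        have h3 : tmap (pAk 1) (pBk 0) * totD (n + 2) DAk pAk DBk = tmap DAk 1 * tmap (pAk 0) (pBk 0) := by
          simp only [totD, mul_add, tmap_mul, CBk.zero, tmap_zero_right, add_zero, mul_one, one_mul]
          rw [← CAk.comm 0]
        have h4 := LinearMap.congr_fun h3 (φG x)
        rwa [Module.End.mul_apply, Module.End.mul_apply, e1, e2, map_zero, eq_comm] at h4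
      have c2 : tmap (1 : Module.End k A.carrier) DBk (φG x) = 0 := by
        have h3 : tmap (pAk 0) (pBk 1) * totD (n + 2) DAk pAk DBk =
            tmap (1 : Module.End k A.carrier) DBk * tmap (pAk 0) (pBk 0) := by
          simp only [totD, mul_add, tmap_mul, CAk.zero, tmap_zero_left, zero_add, one_mul, CAk.p_sign,
            pow_zero, one_smul]
          rw [← CBk.comm 0]
        have h4 := LinearMap.congr_fun h3 (φG x)
        rwa [Module.End.mul_apply, Module.End.mul_apply, e1, e2, map_zero, eq_comm] at h4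
      let ZA := (LinearMap.ker DA ⊓ LinearMap.range (pA 0)).restrictScalars k
      let ZB := (LinearMap.ker DB ⊓ LinearMap.range (pB 0)).restrictScalars k
      obtain ⟨z, hz⟩ := mem_range_map (i := ZA.subtype) (j := ZB.subtype)
        (CAk.comm 0).symm (CBk.comm 0).symm
        (fun v hv => ⟨⟨pA 0 v, LinearMap.mem_ker.2 hv, v, rfl⟩, rfl⟩)
        (fun v hv => ⟨⟨pB 0 v, LinearMap.mem_ker.2 hv, v, rfl⟩, rfl⟩) c1 c2 e2
      -- take the component of degree `d`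
      have hmem : φG x ∈ GrSeg.segrePiece k A.gr B.gr d := (hG.image_piece d).le ⟨x, hx, rfl⟩
      have hfix : TensorProduct.map (projK 𝒜 A.gr d) (projK ℬ B.gr d) (φG x) = φG x := by
        refine LinearMap.eqOn_span (g := LinearMap.id) ?_ hmem
        rintro _ ⟨u, hu, v, hv, rfl⟩
        exact congrArg₂ (fun p q => p ⊗ₜ[k] q) (proj_of_mem A.gr hu) (proj_of_mem B.gr hv)
      have hcomm : ∀ v : ZA ⊗[k] ZB, TensorProduct.map (projK 𝒜 A.gr d) (projK ℬ B.gr d)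
          (TensorProduct.map ZA.subtype ZB.subtype v) ∈
          (GrSeg.segrePiece k ℳ 𝒩 d).map (TensorProduct.map (ιA.restrictScalars k) (ιB.restrictScalars k)) := by
        intro v
        induction v with
        | zero => simp
        | add p q hp hq => rw [map_add, map_add]; exact add_mem hp hq
        | tmul p q =>
          obtain ⟨p, hp⟩ := p
          obtain ⟨q, hq⟩ := q
          have hpc : proj A.gr d p ∈ LinearMap.ker DA ⊓ LinearMap.range (pA 0) :=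
            isHomogeneous_inf (isHomogeneous_ker hDA) (isHomogeneous_range (hpA 0)) d hp
          have hqc : proj B.gr d q ∈ LinearMap.ker DB ⊓ LinearMap.range (pB 0) :=
            isHomogeneous_inf (isHomogeneous_ker hDB) (isHomogeneous_range (hpB 0)) d hq
          obtain ⟨u, hu, hup⟩ := hbA.2 _ hpc (proj_mem A.gr d p)
          obtain ⟨w, hw, hwq⟩ := hbB.2 _ hqc (proj_mem B.gr d q)
          exact ⟨u ⊗ₜ[k] w, Submodule.subset_span ⟨u, hu, w, hw, rfl⟩,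
            congrArg₂ (fun p q => p ⊗ₜ[k] q) hup hwq⟩
      obtain ⟨w, hw, hwx⟩ := hcomm z
      rw [hz, hfix] at hwx
      obtain ⟨y', hy', rfl⟩ := (hP.image_piece d).ge hw
      exact ⟨y', hy', hG.injective ((hφι y').trans hwx)⟩
  have hbig : ∀ d, max rA rB ≤ d → BijAt 𝒬 G.gr ιP (cyc DG πG 0) d := fun d hd =>
    hgood d (hA0 d (hrA d (by omega) 0) (hrA d (by omega) 1)).1 (hB0 d (hrB d (by omega) 0) (hrB d (by omega) 1)).1
  -- cohomology on the pieces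
  letI : Module k G.carrier := Module.compHom _ (algebraMap k T)
  haveI : IsScalarTower k T G.carrier := IsScalarTower.of_algebraMap_smul fun _ _ => rfl
  have hcohP : ∀ (l : ℕ), l ≤ n → ∀ d,
      Module.Finite k (coh (resK (𝒜 := 𝒯) DG hDG' d) (resK (𝒜 := 𝒯) (πG l) (hπG' l) d)) ∧
      Module.finrank k (coh (resK (𝒜 := 𝒯) DG hDG' d) (resK (𝒜 := 𝒯) (πG l) (hπG' l) d)) =
        ∑ i ∈ Finset.range (l + 1),
          Module.finrank k (coh (resK (𝒜 := 𝒜) DA hDA d) (resK (𝒜 := 𝒜) (pA i) (hpA i) d)) *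
          Module.finrank k (coh (resK (𝒜 := ℬ) DB hDB d) (resK (𝒜 := ℬ) (pB (l - i)) (hpB (l - i)) d)) := by
    intro l hl d
    let ms := TensorProduct.map (pieceK 𝒜 A.gr d).subtype (pieceK ℬ B.gr d).subtype
    have hms : Function.Injective ms :=
      tmap_injective (pieceK 𝒜 A.gr d).injective_subtype (pieceK ℬ B.gr d).injective_subtype
    have hrange : LinearMap.range ms = GrSeg.segrePiece k A.gr B.gr d := by
      refine le_antisymm ?_ (Submodule.span_le.2 ?_)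
      · rintro _ ⟨v, rfl⟩
        induction v with
        | zero => rw [map_zero]; exact zero_mem _
        | add p q hp hq => rw [map_add]; exact add_mem hp hq
        | tmul p q => exact Submodule.subset_span ⟨p.1, p.2, q.1, q.2, rfl⟩
      · rintro _ ⟨p, hp, q, hq, rfl⟩
        exact ⟨(⟨p, hp⟩ : pieceK 𝒜 A.gr d) ⊗ₜ[k] (⟨q, hq⟩ : pieceK ℬ B.gr d), rfl⟩
    let φd : pieceK 𝒯 G.gr d →ₗ[k] GrSeg.segrePiece k A.gr B.gr d :=
      { toFun := fun x => ⟨φG x.1, (hG.image_piece d).le ⟨x.1, x.2, rfl⟩⟩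
        map_add' := fun x y => Subtype.ext (map_add φG x.1 y.1)
        map_smul' := fun c x => Subtype.ext ((hG.map_smul (algebraMap k T c) x.1).trans (act_algebraMap c _)) }
    have hφd : Function.Bijective φd :=
      ⟨fun x y h => Subtype.ext (hG.injective (congrArg Subtype.val h)), fun z => by
        obtain ⟨x, hx, hxz⟩ := (hG.image_piece d).ge z.2
        exact ⟨⟨x, hx⟩, Subtype.ext hxz⟩⟩
    let u := ((LinearEquiv.ofInjective ms hms).trans (LinearEquiv.ofEq _ _ hrange)).trans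
      (LinearEquiv.ofBijective φd hφd).symm
    have hu : ∀ z, φG (u z).1 = ms z := fun z => congrArg Subtype.val
      ((LinearEquiv.ofBijective φd hφd).apply_symm_apply _)
    have CAd := cx_resK (𝒜 := 𝒜) CA hDA hpA d
    have CBd := cx_resK (𝒜 := ℬ) CB hDB hpB d
    obtain ⟨hfin, hrk⟩ := finrank_coh_tot CAd CBd l (fun i hi => hfA d i (hi.trans hl))
      (fun i hi => hfB d i (hi.trans hl))
    let dT := totD (n + 2) (resK (𝒜 := 𝒜) DA hDA d) (fun i => resK (𝒜 := 𝒜) (pA i) (hpA i) d) (resK (𝒜 := ℬ) DB hDB d)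
    let qT := totP (fun i => resK (𝒜 := 𝒜) (pA i) (hpA i) d) (fun i => resK (𝒜 := ℬ) (pB i) (hpB i) d) l
    have hud : ∀ z, u (dT z) = resK (𝒜 := 𝒯) DG hDG' d (u z) := fun z => by
      refine Subtype.ext (hG.injective ?_)
      rw [hu, resK_apply, hφD, hu]
      induction z with
      | zero => simp
      | add p q hp hq => rw [map_add, map_add, hp, hq, map_add, map_add]
      | tmul p q =>
        simp only [dT, totD, LinearMap.add_apply, TensorProduct.map_tmul, map_add, ms, Submodule.coe_subtype,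
          Cx.sign, LinearMap.sum_apply, Submodule.coe_sum, LinearMap.smul_apply, SetLike.val_smul]
        rfl
    have huq : ∀ z, u (qT z) = resK (𝒜 := 𝒯) (πG l) (hπG' l) d (u z) := fun z => by
      refine Subtype.ext (hG.injective ?_)
      rw [hu, resK_apply, hφπ, hu]
      induction z with
      | zero => simp
      | add p q hp hq => rw [map_add, map_add, hp, hq, map_add, map_add]
      | tmul p q =>
        simp only [qT, totP, LinearMap.sum_apply, TensorProduct.map_tmul, map_sum, ms, Submodule.coe_subtype]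
        rfl
    obtain ⟨e⟩ := nonempty_coh_congr (d' := resK (𝒜 := 𝒯) DG hDG' d)
      (q' := resK (𝒜 := 𝒯) (πG l) (hπG' l) d) (d := dT) (q := qT) u hud huq
    haveI := hfin
    exact ⟨Module.Finite.equiv e, e.finrank_eq.symm.trans hrk⟩
  -- torsion
  have htors : ∀ l, 1 ≤ l → l ≤ n → ∀ x ∈ cyc DG πG l, ∃ N : ℕ, ∀ r ∈ mT.toIdeal ^ N,
      r • x ∈ LinearMap.range DG := by
    intro l hl1 hl x hx
    obtain ⟨r₀, hr₀⟩ : ∃ r₀ : ℤ, r₀ = max rA rB := ⟨_, rfl⟩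
    have hvan : ∀ d, r₀ ≤ d → ∀ y ∈ cyc DG πG l, y ∈ G.gr d → y ∈ LinearMap.range DG := by
      intro d hd y hy hyd
      obtain ⟨hfin, hrk⟩ := hcohP l hl d
      have hzero : Module.finrank k (coh (resK (𝒜 := 𝒯) DG hDG' d) (resK (𝒜 := 𝒯) (πG l) (hπG' l) d)) = 0 := by
        rw [hrk]
        refine Finset.sum_eq_zero fun i hi => ?_
        rw [Finset.mem_range] at hi
        rcases i with _ | i
        · obtain ⟨j, hj⟩ := Nat.exists_eq_add_of_le' (show 1 ≤ l - 0 by omega)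
          rw [show resK (𝒜 := ℬ) (pB (l - 0)) (hpB (l - 0)) d = resK (𝒜 := ℬ) (pB (j + 1)) (hpB (j + 1)) d by
            congr 1; rw [hj], hB1 d j (by omega), hrB d (by omega), finrank_bot, mul_zero]
        · rw [hA1 d i (by omega), hrA d (by omega), finrank_bot, zero_mul]
      haveI := hfin
      haveI := Module.finrank_zero_iff.1 hzero
      obtain ⟨hy1, w, hw⟩ := hy
      have hyp : (⟨y, hyd⟩ : pieceK 𝒯 G.gr d) ∈
          LinearMap.ker (resK (𝒜 := 𝒯) DG hDG' d) ⊓ LinearMap.range (resK (𝒜 := 𝒯) (πG l) (hπG' l) d) :=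
        ⟨LinearMap.mem_ker.2 (Subtype.ext hy1), ⟨proj G.gr d w, proj_mem G.gr d w⟩,
          Subtype.ext ((map_proj (hπG' l) d w).trans (by rw [hw, proj_of_mem G.gr hyd]))⟩
      obtain ⟨v, hv⟩ := (Submodule.Quotient.mk_eq_zero _).1
        (Subsingleton.elim (Submodule.Quotient.mk ⟨_, hyp⟩ : coh (resK (𝒜 := 𝒯) DG hDG' d) (resK (𝒜 := 𝒯) (πG l) (hπG' l) d)) 0)
      exact ⟨v.1, congrArg Subtype.val hv⟩
    exact torsion_of_bounded hposT hmT (hsys.isHomogeneous_cyc mT l) r₀ hvan hx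
  -- conclusion
  refine ⟨fun hM hN => ?_, ?_⟩
  · obtain ⟨EB⟩ := Res.nonempty_starInjRes 𝒯
      (subMod 𝒯 G.gr _ (hsys.isHomogeneous_bd mT 0)).gr
    have hall : ∀ e, BijAt 𝒬 G.gr ιP (cyc DG πG 0) e := fun e =>
      hgood e (hA0 e (hM 0 e zero_le_one) (hM 1 e le_rfl)).1 (hB0 e (hN 0 e zero_le_one) (hN 1 e le_rfl)).1
    have hinj : Function.Injective ιP := (injective_iff_map_eq_zero ιP).2 fun y hy => eq_zero_of_proj 𝒬 fun e =>
      (hall e).1 _ (proj_mem 𝒬 e y) (by rw [map_proj hιP', hy, map_zero])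
    have hr0 : LinearMap.range ιP = cyc DG πG 0 := le_antisymm hιle
      (le_of_hom (hsys.isHomogeneous_cyc mT 0) fun e x hx hxc => by
        obtain ⟨y, -, hy⟩ := (hall e).2 x hxc hx
        exact ⟨y, hy⟩)
    obtain ⟨h0, h1, -⟩ := hsys.step_one mT 0 hιP' hinj hr0 EP EB
    exact ⟨h0, h1⟩
  -- replace the cocycles by the product
  let Z := subMod 𝒯 G.gr _ (hsys.isHomogeneous_cyc mT 0)
  obtain ⟨EZ⟩ := Res.nonempty_starInjRes 𝒯 Z.gr
  let ιZ : P →ₗ[T] Z.carrier := ιP.codRestrict _ fun y => hιle ⟨y, rfl⟩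
  have hιZ : GrLC.IsGrHom 𝒬 Z.gr ιZ := fun e y hy => hιP' e y hy
  let iZ : Z.carrier →ₗ[T] G.carrier := (cyc DG πG 0).subtype
  have hiZ : GrLC.IsGrHom Z.gr G.gr iZ := fun _ _ hx => hx
  obtain ⟨tiso, htiso⟩ := exists_torsion_iso mT hιZ
    (fun y hy => by
      obtain ⟨N, hN⟩ := torsion_of_bounded hposT hmT (isHomogeneous_ker hιP') (max rA rB)
        (Y' := (⊥ : Submodule T P)) (fun e he z hz hze => (Submodule.mem_bot T).2 ((hbig e he).1 z hze hz))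
        (show y ∈ LinearMap.ker ιP from congrArg Subtype.val hy)
      exact ⟨N, fun r hr => (Submodule.mem_bot T).1 (hN r hr)⟩)
    (fun y => by
      obtain ⟨N, hN⟩ := torsion_of_bounded hposT hmT (hsys.isHomogeneous_cyc mT 0) (max rA rB)
        (Y' := LinearMap.range ιP) (fun e he z hz hze => by
          obtain ⟨w, -, hw⟩ := (hbig e he).2 z hz hze
          exact ⟨w, hw⟩) (show iZ y ∈ cyc DG πG 0 from Subtype.prop (show cyc DG πG 0 from y))
      refine ⟨N, fun r hr => ?_⟩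
      obtain ⟨w, hw⟩ := hN r hr
      exact ⟨w, Subtype.ext hw⟩) EP EZ
  obtain ⟨f₀, hf₀1, hf₀2, hf₀3⟩ := hsys.exists_shift mT m 0 (fun l hl hl' => htors l hl (by omega)) hiZ
    (cyc DG πG 0).injective_subtype (Submodule.range_subtype _) EZ
  let te := LinearEquiv.ofBijective (tiso m) (htiso m).2
  let f := te.symm.toLinearMap ∘ₗ f₀
  letI := Res.hgrDecomp EP mT (m + 2)
  letI := Res.hgrDecomp EZ mT (m + 2)
  have hte : GrLC.IsGrHom (EZ.Hgr mT (m + 2)) (EP.Hgr mT (m + 2)) te.symm.toLinearMap :=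
    isGrHom_symm (e := te) (htiso m).1
  have hf1 : ∀ e, ∀ x : cyc DG πG (0 + m + 1), x.1 ∈ G.gr e → f x ∈ EP.Hgr mT (m + 2) e :=
    fun e x hx => hte e _ (hf₀1 e x hx)
  have hf2 : ∀ e, ∀ w ∈ EP.Hgr mT (m + 2) e, ∃ x : cyc DG πG (0 + m + 1), x.1 ∈ G.gr e ∧ f x = w := by
    intro e w hw
    obtain ⟨x, hx, hxw⟩ := hf₀2 e _ ((htiso m).1 e w hw)
    exact ⟨x, hx, (congrArg te.symm hxw).trans (te.symm_apply_apply w)⟩
  have hf3 : ∀ x, f x = 0 ↔ (x : cyc DG πG (0 + m + 1)).1 ∈ LinearMap.range DG := fun x => by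
    rw [← hf₀3]
    exact te.symm.map_eq_zero_iff (x := f₀ x)
  obtain rfl : n = 0 + m + 1 := by omega
  letI : Module k (EP.H mT (m + 2)) := Module.compHom _ (algebraMap k T)
  haveI : IsScalarTower k T (EP.H mT (m + 2)) := IsScalarTower.of_algebraMap_smul fun _ _ => rfl
  haveI := Res.hgrGSMul EP mT (m + 2)
  refine ⟨fun d => ?_, ?_⟩
  · -- dimensions
    refine ⟨Module.finrank k (coh (resK (𝒜 := 𝒜) DA hDA d) (resK (𝒜 := 𝒜) (pA 0) (hpA 0) d)),
      Module.finrank k (coh (resK (𝒜 := ℬ) DB hDB d) (resK (𝒜 := ℬ) (pB 0) (hpB 0) d)),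
      fun h0 h1 => (hA0 d h0 h1).2, fun h0 h1 => (hB0 d h0 h1).2, ?_⟩
    obtain ⟨e⟩ := nonempty_coh_equiv (𝒜 := 𝒯) hDG' (hπG' (0 + m + 1)) f d (hf1 d) (hf2 d) hf3
    have h2 := (finrank_pieceK (𝒜 := 𝒯) (ℳ := EP.Hgr mT (m + 2)) h0T (EP.Hcomp mT (m + 2) d) (fun x => Iff.rfl)).1
    rw [← h2, ← e.finrank_eq, (hcohP _ le_rfl d).2, Finset.sum_range_succ, Finset.sum_range_succ']
    have idxA : ∀ i j, i = j → Module.finrank k (coh (resK (𝒜 := 𝒜) DA hDA d) (resK (𝒜 := 𝒜) (pA i) (hpA i) d)) =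
        Module.finrank k (coh (resK (𝒜 := 𝒜) DA hDA d) (resK (𝒜 := 𝒜) (pA j) (hpA j) d)) := by
      rintro i _ rfl; rfl
    have idxB : ∀ i j, i = j → Module.finrank k (coh (resK (𝒜 := ℬ) DB hDB d) (resK (𝒜 := ℬ) (pB i) (hpB i) d)) =
        Module.finrank k (coh (resK (𝒜 := ℬ) DB hDB d) (resK (𝒜 := ℬ) (pB j) (hpB j) d)) := by
      rintro i _ rfl; rfl
    rw [idxB (0 + m + 1 - 0) (m + 1) (by omega), hB1 d m (by omega), idxA (0 + m + 1) (m + 1) (by omega),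
      hA1 d m (by omega), idxB (0 + m + 1 - (0 + m + 1)) 0 (by omega)]
    have hsum : ∀ i ∈ Finset.range (0 + m),
        Module.finrank k (coh (resK (𝒜 := 𝒜) DA hDA d) (resK (𝒜 := 𝒜) (pA (i + 1)) (hpA (i + 1)) d)) *
          Module.finrank k (coh (resK (𝒜 := ℬ) DB hDB d)
            (resK (𝒜 := ℬ) (pB (0 + m + 1 - (i + 1))) (hpB (0 + m + 1 - (i + 1))) d)) =
        Module.finrank (GrLC.deg0 𝒜) (EM.Hcomp mR (i + 2) d) *
          Module.finrank (GrLC.deg0 ℬ) (EN.Hcomp mS (m - 1 - i + 2) d) := fun i hi => by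
      rw [Finset.mem_range] at hi
      rw [hA1 d i (by omega), idxB (0 + m + 1 - (i + 1)) (m - 1 - i + 1) (by omega), hB1 d (m - 1 - i) (by omega)]
    rw [Finset.sum_congr rfl hsum, Nat.zero_add]
    ring
  · intro i hi _ _ _ _ W _ _ 𝒲 _ φW hW
    obtain ⟨cA, hcA1, hcA2, hcA3⟩ := hcA i (by omega)
    obtain ⟨cB, hcB1, hcB2, hcB3⟩ := hcB (m - 1 - i) (by omega)
    letI := Res.hgrDecomp EM mR (i + 2)
    letI := Res.hgrDecomp EN mS (m - 1 - i + 2)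
    have hAs : Function.Surjective cA := fun w => by
      induction w using induction_hom (EM.Hgr mR (i + 2)) with
      | zero => exact ⟨0, map_zero cA⟩
      | add a b ha hb =>
        obtain ⟨u, rfl⟩ := ha
        obtain ⟨v, rfl⟩ := hb
        exact ⟨u + v, map_add cA u v⟩
      | hom g w hw => exact (hcA2 g w hw).imp fun x hx => hx.2
    have hBs : Function.Surjective cB := fun w => by
      induction w using induction_hom (EN.Hgr mS (m - 1 - i + 2)) with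
      | zero => exact ⟨0, map_zero cB⟩
      | add a b ha hb =>
        obtain ⟨u, rfl⟩ := ha
        obtain ⟨v, rfl⟩ := hb
        exact ⟨u + v, map_add cB u v⟩
      | hom g w hw => exact (hcB2 g w hw).imp fun x hx => hx.2
    exact exists_component (i := i + 1) (j := m - 1 - i + 1) (l := 0 + m + 1) hψ CAk CBk hDA hpA hDB hpB hG
      hDG' hφD hφπ (by omega) cA hcA1 hcA2 hAs hcA3 cB hcB1 hcB2 hBs hcB3 f hf1 hf3 hW

/-- Local cohomology of a Segre product in degrees at least two. -/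
theorem kunneth [Nontrivial R] [Nontrivial S] [Nontrivial T] [Module.Finite R M] [Module.Finite S N]
    (hposR : ∀ n : ℤ, n < 0 → 𝒜 n = ⊥) (h0R : 𝒜 0 = Submodule.span k {(1 : R)})
    (hposS : ∀ n : ℤ, n < 0 → ℬ n = ⊥) (h0S : ℬ 0 = Submodule.span k {(1 : S)})
    (hposT : ∀ n : ℤ, n < 0 → 𝒯 n = ⊥) (h0T : 𝒯 0 = Submodule.span k {(1 : T)})
    (hψ : ∀ n : ℤ, (𝒯 n).map ψ.toLinearMap = GrSeg.segrePiece k 𝒜 ℬ n)
    {mR : HomogeneousIdeal 𝒜} (hmR : mR.toIdeal = Ideal.span (⋃ n ∈ Set.Ioi (0 : ℤ), (𝒜 n : Set R)))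
    {mS : HomogeneousIdeal ℬ} (hmS : mS.toIdeal = Ideal.span (⋃ n ∈ Set.Ioi (0 : ℤ), (ℬ n : Set S)))
    {mT : HomogeneousIdeal 𝒯} (hmT : mT.toIdeal = Ideal.span (⋃ n ∈ Set.Ioi (0 : ℤ), (𝒯 n : Set T)))
    (EM : GrLC.StarInjRes 𝒜 ℳ) (EN : GrLC.StarInjRes ℬ 𝒩)
    (hP : IsSeg ψ ℳ 𝒩 𝒬 φ) (EP : GrLC.StarInjRes 𝒯 𝒬) :
    ((∀ q d, q ≤ 1 → EM.Hcomp mR q d = ⊥) → (∀ q d, q ≤ 1 → EN.Hcomp mS q d = ⊥) →
      Subsingleton (EP.H mT 0) ∧ Subsingleton (EP.H mT 1)) ∧ ∀ (m : ℕ) (d : ℤ), ∃ D₀ E₀ : ℕ,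
      (EM.Hcomp mR 0 d = ⊥ → EM.Hcomp mR 1 d = ⊥ → D₀ = Module.finrank (GrLC.deg0 𝒜) (GrLC.comp 𝒜 ℳ d)) ∧
      (EN.Hcomp mS 0 d = ⊥ → EN.Hcomp mS 1 d = ⊥ → E₀ = Module.finrank (GrLC.deg0 ℬ) (GrLC.comp ℬ 𝒩 d)) ∧
      Module.finrank (GrLC.deg0 𝒯) (EP.Hcomp mT (m + 2) d) =
        D₀ * Module.finrank (GrLC.deg0 ℬ) (EN.Hcomp mS (m + 2) d) +
        Module.finrank (GrLC.deg0 𝒜) (EM.Hcomp mR (m + 2) d) * E₀ +
        ∑ i ∈ Finset.range m, Module.finrank (GrLC.deg0 𝒜) (EM.Hcomp mR (i + 2) d) *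
          Module.finrank (GrLC.deg0 ℬ) (EN.Hcomp mS (m - 1 - i + 2) d) :=
  let h := kunneth_full hposR h0R hposS h0S hposT h0T hψ hmR hmS hmT EM EN hP EP
  ⟨h.1, h.2.1⟩

end Main

end Groth.Agent.Lib.Graded.Seg
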