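import Groth.Agent.Lib.Graded.Seg.TorsionFree
import Groth.Agent.Lib.Graded.TopH

/-!
# Dimension shifting along a complex of acyclic modules with torsion cohomology
-/

universe u

set_option maxHeartbeats 800000
set_option linter.unusedSectionVars false

open DirectSum

namespace Groth.Agent.Lib.Graded.Seg

open Groth.Agent.Lib.Graded.Basic Groth.Agent.Lib.Graded.StarInj Groth.Agent.Lib.Graded.Horseshoe

variable {R : Type u} [CommRing R] [IsNoetherianRing R] {σ : Type u} [SetLike σ R] [AddSubgroupClass σ R]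
variable {𝒜 : ℤ → σ} [GradedRing 𝒜] (a : HomogeneousIdeal 𝒜)

/-- All the cohomology of the module vanishes. -/
def Acyclic {M : Type u} [AddCommGroup M] [Module R M] (ℳ : ℤ → AddSubgroup M) [DirectSum.Decomposition ℳ]
    [SetLike.GradedSMul 𝒜 ℳ] : Prop :=
  ∀ (E : GrLC.StarInjRes 𝒜 ℳ) (i : ℕ), Subsingleton (E.H a i)

variable {M : Type u} [AddCommGroup M] [Module R M] {ℳ : ℤ → AddSubgroup M} [DirectSum.Decomposition ℳ]
  [SetLike.GradedSMul 𝒜 ℳ]

/-- Sums of idempotents with invertible elements act by zero on local cohomology. -/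
theorem hMap_eq_zero_of_invSums (ha : ∀ c : ℤ, 0 < c → ∀ r ∈ 𝒜 c, r ∈ a.toIdeal) (E : GrLC.StarInjRes 𝒜 ℳ)
    (i : ℕ) {f : M →ₗ[R] M} (hf : f ∈ invSums 𝒜 ℳ) : (Chain.lift E E f).hMap a i = 0 := by
  induction hf using AddSubmonoid.closure_induction with
  | zero => exact TopH.hMap_zero a i
  | add p q hp hq ihp ihq =>
    rw [TopH.hMap_add a i (grHom_of_mem_invSums hp) (grHom_of_mem_invSums hq), ihp, ihq, add_zero]
  | mem e he =>
    obtain ⟨hdeg, c, hc, r, hr, ρ, hρ, h1, h2, h3⟩ := he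
    let Y := subMod 𝒜 ℳ (LinearMap.range e) (isHomogeneous_range hdeg)
    obtain ⟨F⟩ := Res.nonempty_starInjRes 𝒜 Y.gr
    have hee : ∀ x, e (e x) = e x := fun x => by
      have h4 : e (e x) = r • ρ (e x) := (LinearMap.congr_fun h1 (e x)).symm
      rw [h4, ← LinearMap.comp_apply ρ e, h2]
      exact LinearMap.congr_fun h1 x
    haveI : Subsingleton (F.H a i) := by
      refine Bound.subsingleton_H_of_bijective hr (ha c hc r hr)
        ⟨fun u v huv => ?_, fun v => ?_⟩ F i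
      · obtain ⟨_, x, rfl⟩ := u
        obtain ⟨_, y, rfl⟩ := v
        have h4 : r • e x = r • e y := congrArg Subtype.val huv
        refine Subtype.ext ?_
        change e x = e y
        have hk : ∀ z, ρ (r • z) = e z := fun z => (map_smul ρ r z).trans (LinearMap.congr_fun h1 z)
        rw [← hee x, ← hee y, ← hk (e x), ← hk (e y), h4]
      · obtain ⟨_, x, rfl⟩ := v
        refine ⟨⟨ρ x, ρ x, LinearMap.congr_fun h3 x⟩, Subtype.ext ?_⟩
        exact LinearMap.congr_fun h1 x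
    let g : M →ₗ[R] Y.carrier := e.rangeRestrict
    let j : Y.carrier →ₗ[R] M := (LinearMap.range e).subtype
    have hg : GrLC.IsGrHom ℳ Y.gr g := fun d x hx => hdeg d x hx
    have hj : GrLC.IsGrHom Y.gr ℳ j := fun d x hx => hx
    rw [show e = j ∘ₗ g from rfl, ← TopH.hMap_comp a i (F := F) hg hj]
    exact LinearMap.ext fun z => by
      rw [LinearMap.comp_apply, Subsingleton.elim ((Chain.lift E F g).hMap a i z) 0, map_zero,
        LinearMap.zero_apply]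

/-- A module whose identity is a sum of idempotents with invertible elements is acyclic. -/
theorem acyclic_of_invSums (ha : ∀ c : ℤ, 0 < c → ∀ r ∈ 𝒜 c, r ∈ a.toIdeal)
    (hid : (LinearMap.id : M →ₗ[R] M) ∈ invSums 𝒜 ℳ) : Acyclic a ℳ := by
  intro E i
  refine subsingleton_of_forall_eq 0 fun z => ?_
  have h := LinearMap.congr_fun (hMap_eq_zero_of_invSums a ha E i hid) z
  rwa [TopH.hMap_id] at h

/-- Retracts of acyclic modules are acyclic. -/
theorem Acyclic.retract (h : Acyclic a ℳ) {N : Type u} [AddCommGroup N] [Module R N]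
    {𝒩 : ℤ → AddSubgroup N} [DirectSum.Decomposition 𝒩] [SetLike.GradedSMul 𝒜 𝒩] {i : N →ₗ[R] M}
    {g : M →ₗ[R] N} (hi : GrLC.IsGrHom 𝒩 ℳ i) (hg : GrLC.IsGrHom ℳ 𝒩 g) (hgi : ∀ x, g (i x) = x) :
    Acyclic a 𝒩 := by
  intro F n
  obtain ⟨E⟩ := Res.nonempty_starInjRes 𝒜 ℳ
  haveI := h E n
  refine subsingleton_of_forall_eq 0 fun z => ?_
  have h1 := LinearMap.congr_fun (TopH.hMap_comp a n (E := F) (F := E) (G := F) hi hg) z
  rw [show g ∘ₗ i = LinearMap.id from LinearMap.ext hgi, TopH.hMap_id, LinearMap.id_apply,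
    LinearMap.comp_apply, Subsingleton.elim ((Chain.lift F E i).hMap a n z) 0, map_zero] at h1
  exact h1.symm

theorem gam_eq_bot_of_subsingleton (E : GrLC.StarInjRes 𝒜 ℳ) (h : Subsingleton (E.H a 0)) :
    GrLC.gam a.toIdeal M = ⊥ := by
  haveI := (Chain.h0Equiv a E).toEquiv.subsingleton
  exact Submodule.subsingleton_iff_eq_bot.1 this

theorem subsingleton_of_gam_eq_bot (E : GrLC.StarInjRes 𝒜 ℳ) (h : GrLC.gam a.toIdeal M = ⊥) :
    Subsingleton (E.H a 0) := by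
  haveI := Submodule.subsingleton_iff_eq_bot.2 h
  exact (Chain.h0Equiv a E).symm.toEquiv.subsingleton

section Steps

variable {X : Type u} [AddCommGroup X] [Module R X] {𝒳 : ℤ → AddSubgroup X} [DirectSum.Decomposition 𝒳]
  [SetLike.GradedSMul 𝒜 𝒳]
variable {W : Type u} [AddCommGroup W] [Module R W] {𝒲 : ℤ → AddSubgroup W} [DirectSum.Decomposition 𝒲]
  [SetLike.GradedSMul 𝒜 𝒲]
variable {i : X →ₗ[R] M} {π : M →ₗ[R] W}

theorem step_mid (h : SES 𝒳 ℳ 𝒲 i π) (hM : Acyclic a ℳ) (EX : GrLC.StarInjRes 𝒜 𝒳)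
    (EW : GrLC.StarInjRes 𝒜 𝒲) :
    Subsingleton (EX.H a 0) ∧ ∃ δ : ∀ n, EW.H a n →ₗ[R] EX.H a (n + 1),
      ∀ n, GrLC.IsGrHom (EW.Hgr a n) (EX.Hgr a (n + 1)) (δ n) ∧ Function.Bijective (δ n) := by
  obtain ⟨E⟩ := Res.nonempty_starInjRes 𝒜 ℳ
  obtain ⟨δ, hδ, -, h2, h3, h4⟩ := LES.exists_les EX E EW a h _ (Chain.lift_ε EX E _ h.grHom_i) _
    (Chain.lift_ε E EW _ h.grHom_π)
  refine ⟨?_, δ, fun n => ⟨hδ n, ?_, ?_⟩⟩
  · haveI := hM E 0
    exact h4.subsingleton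
  · haveI := hM E n
    rw [← LinearMap.ker_eq_bot, h2 n, LinearMap.range_eq_bot]
    exact LinearMap.ext fun x => by rw [Subsingleton.elim x 0, map_zero, map_zero]
  · haveI := hM E (n + 1)
    rw [← LinearMap.range_eq_top, ← h3 n, LinearMap.ker_eq_top]
    exact LinearMap.ext fun x => Subsingleton.elim _ _

theorem step_right (h : SES 𝒳 ℳ 𝒲 i π) (hW : GrLC.gam a.toIdeal W = ⊤) (EX : GrLC.StarInjRes 𝒜 𝒳)
    (E : GrLC.StarInjRes 𝒜 ℳ) :
    (∃ φ : ∀ n, EX.H a (n + 2) →ₗ[R] E.H a (n + 2),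
      ∀ n, GrLC.IsGrHom (EX.Hgr a (n + 2)) (E.Hgr a (n + 2)) (φ n) ∧ Function.Bijective (φ n)) ∧
    (Subsingleton (E.H a 0) → Subsingleton (E.H a 1) → ∃ f : W →ₗ[R] EX.H a 1,
      GrLC.IsGrHom 𝒲 (EX.Hgr a 1) f ∧ Function.Bijective f) := by
  obtain ⟨EW⟩ := Res.nonempty_starInjRes 𝒜 𝒲
  obtain ⟨δ, hδ, h1, h2, h3, -⟩ := LES.exists_les EX E EW a h _ (Chain.lift_ε EX E _ h.grHom_i) _
    (Chain.lift_ε E EW _ h.grHom_π)
  refine ⟨⟨fun n => (Chain.lift EX E i).hMap a (n + 2),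
    fun n => ⟨Chain.Map.hMap_grHom a _ _, ?_, ?_⟩⟩, fun hE0 hE1 => ?_⟩
  · haveI := Torsion.subsingleton_H a hW EW (n + 1) n.succ_pos
    rw [← LinearMap.ker_eq_bot, h3 (n + 1), LinearMap.range_eq_bot]
    exact LinearMap.ext fun x => by rw [Subsingleton.elim x 0, map_zero, map_zero]
  · haveI := Torsion.subsingleton_H a hW EW (n + 2) (n + 1).succ_pos
    rw [← LinearMap.range_eq_top, ← h1 (n + 2), LinearMap.ker_eq_top]
    exact LinearMap.ext fun x => Subsingleton.elim _ _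
  · let t : W →ₗ[R] GrLC.gam a.toIdeal W := LinearMap.id.codRestrict _ fun x => hW ▸ trivial
    have ht : Function.Bijective t :=
      ⟨fun u v huv => congrArg Subtype.val huv, fun w => ⟨w.1, Subtype.ext rfl⟩⟩
    refine ⟨δ 0 ∘ₗ Chain.h0Map (E := EW) a ∘ₗ t, fun d x hx => hδ 0 d _ (Chain.h0Map_grHom a d _ hx), ?_⟩
    have hb : Function.Bijective (δ 0) := by
      constructor
      · rw [← LinearMap.ker_eq_bot, h2 0, LinearMap.range_eq_bot]
        exact LinearMap.ext fun x => by rw [Subsingleton.elim x 0, map_zero, map_zero]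
      · rw [← LinearMap.range_eq_top, ← h3 0, LinearMap.ker_eq_top]
        exact LinearMap.ext fun x => Subsingleton.elim _ _
    exact hb.comp ((Chain.h0Map_bijective (E := EW) a).comp ht)

theorem step_left (h : SES 𝒳 ℳ 𝒲 i π) (hX : GrLC.gam a.toIdeal X = ⊤) (E : GrLC.StarInjRes 𝒜 ℳ)
    (EW : GrLC.StarInjRes 𝒜 𝒲) :
    ∃ φ : ∀ n, E.H a (n + 2) →ₗ[R] EW.H a (n + 2),
      ∀ n, GrLC.IsGrHom (E.Hgr a (n + 2)) (EW.Hgr a (n + 2)) (φ n) ∧ Function.Bijective (φ n) := by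
  obtain ⟨EX⟩ := Res.nonempty_starInjRes 𝒜 𝒳
  obtain ⟨δ, hδ, h1, h2, h3, -⟩ := LES.exists_les EX E EW a h _ (Chain.lift_ε EX E _ h.grHom_i) _
    (Chain.lift_ε E EW _ h.grHom_π)
  refine ⟨fun n => (Chain.lift E EW π).hMap a (n + 2), fun n => ⟨Chain.Map.hMap_grHom a _ _, ?_, ?_⟩⟩
  · haveI := Torsion.subsingleton_H a hX EX (n + 2) (n + 1).succ_pos
    rw [← LinearMap.ker_eq_bot, h1 (n + 2), LinearMap.range_eq_bot]
    exact LinearMap.ext fun x => by rw [Subsingleton.elim x 0, map_zero, map_zero]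
  · haveI := Torsion.subsingleton_H a hX EX (n + 3) (n + 2).succ_pos
    rw [← LinearMap.range_eq_top, ← h2 (n + 2), LinearMap.ker_eq_top]
    exact LinearMap.ext fun x => Subsingleton.elim _ _

end Steps

/-- A homogeneous map with torsion kernel and cokernel is an isomorphism on higher cohomology. -/
theorem exists_torsion_iso {Z : GrLC.GMod.{u} 𝒜} {f : M →ₗ[R] Z.carrier} (hf : GrLC.IsGrHom ℳ Z.gr f)
    (hker : ∀ x, f x = 0 → x ∈ GrLC.gam a.toIdeal M)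
    (hcok : ∀ y, ∃ N : ℕ, ∀ r ∈ a.toIdeal ^ N, r • y ∈ LinearMap.range f)
    (E : GrLC.StarInjRes 𝒜 ℳ) (EZ : GrLC.StarInjRes 𝒜 Z.gr) :
    ∃ φ : ∀ n, E.H a (n + 2) →ₗ[R] EZ.H a (n + 2),
      ∀ n, GrLC.IsGrHom (E.Hgr a (n + 2)) (EZ.Hgr a (n + 2)) (φ n) ∧ Function.Bijective (φ n) := by
  let K := subMod 𝒜 ℳ (LinearMap.ker f) (isHomogeneous_ker hf)
  let I := subMod 𝒜 Z.gr (LinearMap.range f) (isHomogeneous_range hf)
  let W := qMod 𝒜 Z.gr (LinearMap.range f) (isHomogeneous_range hf)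
  obtain ⟨EI⟩ := Res.nonempty_starInjRes 𝒜 I.gr
  let iK : K.carrier →ₗ[R] M := (LinearMap.ker f).subtype
  let pI : M →ₗ[R] I.carrier := f.rangeRestrict
  have hses1 : SES K.gr ℳ I.gr iK pI :=
    { grHom_i := fun _ _ hx => hx
      grHom_π := fun g x hx => hf g x hx
      injective := (LinearMap.ker f).injective_subtype
      surjective := f.surjective_rangeRestrict
      exact := (LinearMap.ker_rangeRestrict f).trans (Submodule.range_subtype _).symm }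
  have hK : GrLC.gam a.toIdeal K.carrier = ⊤ := eq_top_iff.2 fun x _ => by
    obtain ⟨x, hx⟩ := x
    obtain ⟨N, hN⟩ := hker x hx
    exact ⟨N, fun r hr => Subtype.ext (hN r hr)⟩
  let iI : I.carrier →ₗ[R] Z.carrier := (LinearMap.range f).subtype
  let pW : Z.carrier →ₗ[R] W.carrier := (LinearMap.range f).mkQ
  have hses2 : SES I.gr Z.gr W.gr iI pW :=
    Van.ses_quot Z (LinearMap.range f) (isHomogeneous_range hf)
  have hW : GrLC.gam a.toIdeal W.carrier = ⊤ := eq_top_iff.2 fun w _ => by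
    obtain ⟨y, rfl⟩ := (LinearMap.range f).mkQ_surjective w
    obtain ⟨N, hN⟩ := hcok y
    exact ⟨N, fun r hr => (Submodule.Quotient.mk_eq_zero _).2 (hN r hr)⟩
  obtain ⟨φ₁, hφ₁⟩ := step_left a hses1 hK E EI
  obtain ⟨⟨φ₂, hφ₂⟩, -⟩ := step_right a hses2 hW EI EZ
  exact ⟨fun n => φ₂ n ∘ₗ φ₁ n, fun n =>
    ⟨fun d x hx => (hφ₂ n).1 d _ ((hφ₁ n).1 d x hx), (hφ₂ n).2.comp (hφ₁ n).2⟩⟩

/-- A bijective homogeneous map between cohomology modules is surjective on pieces. -/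
theorem exists_preimage_Hgr {N : Type u} [AddCommGroup N] [Module R N] {𝒩 : ℤ → AddSubgroup N}
    [DirectSum.Decomposition 𝒩] {E : GrLC.StarInjRes 𝒜 ℳ} {n : ℕ} {f : N →ₗ[R] E.H a n}
    (hf : GrLC.IsGrHom 𝒩 (E.Hgr a n) f) (hs : Function.Surjective f) {d : ℤ} {w : E.H a n}
    (hw : w ∈ E.Hgr a n d) : ∃ v ∈ 𝒩 d, f v = w := by
  letI := Res.hgrDecomp E a n
  exact exists_hom_preimage hf hw (hs w)

section Shift

variable {G : GrLC.GMod.{u} 𝒜}

/-- A complex of acyclic modules cut out of one graded module. -/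
structure Sys (a : HomogeneousIdeal 𝒜) (D : G.carrier →ₗ[R] G.carrier)
    (π : ℕ → G.carrier →ₗ[R] G.carrier) : Prop where
  acyclic : Acyclic a G.gr
  D_deg : GrLC.IsGrHom G.gr G.gr D
  π_deg : ∀ j, GrLC.IsGrHom G.gr G.gr (π j)
  sq : ∀ x, D (D x) = 0
  idem : ∀ j x, π j (π j x) = π j x
  comm : ∀ j x, π (j + 1) (D x) = D (π j x)

variable {D : G.carrier →ₗ[R] G.carrier} {π : ℕ → G.carrier →ₗ[R] G.carrier}

/-- The cocycles. -/
def cyc (D : G.carrier →ₗ[R] G.carrier) (π : ℕ → G.carrier →ₗ[R] G.carrier) (j : ℕ) : Submodule R G.carrier :=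
  LinearMap.ker D ⊓ LinearMap.range (π j)

theorem Sys.isHomogeneous_cyc (h : Sys a D π) (j : ℕ) : (cyc D π j).IsHomogeneous G.gr :=
  isHomogeneous_inf (isHomogeneous_ker h.D_deg) (isHomogeneous_range (h.π_deg j))

theorem Sys.isHomogeneous_bd (h : Sys a D π) (j : ℕ) :
    (LinearMap.range (D ∘ₗ π j)).IsHomogeneous G.gr :=
  isHomogeneous_range (isGrHom_comp (h.π_deg j) h.D_deg)

theorem Sys.bd_le (h : Sys a D π) (j : ℕ) : LinearMap.range (D ∘ₗ π j) ≤ cyc D π (j + 1) := by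
  rintro _ ⟨x, rfl⟩
  exact ⟨h.sq _, D x, h.comm j x⟩

theorem Sys.subsingleton_bd (h : Sys a D π) (j : ℕ)
    (E : GrLC.StarInjRes 𝒜 (subMod 𝒜 G.gr _ (h.isHomogeneous_bd a j)).gr) : Subsingleton (E.H a 0) := by
  refine subsingleton_of_gam_eq_bot a E ((Submodule.eq_bot_iff _).2 fun x hx => ?_)
  obtain ⟨EG⟩ := Res.nonempty_starInjRes 𝒜 G.gr
  obtain ⟨x, hx'⟩ := x
  have h1 : x ∈ GrLC.gam a.toIdeal G.carrier := by
    obtain ⟨n, hn⟩ := hx
    exact ⟨n, fun r hr => congrArg Subtype.val (hn r hr)⟩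
  rw [gam_eq_bot_of_subsingleton a EG (h.acyclic EG 0), Submodule.mem_bot] at h1
  exact Subtype.ext h1

/-- The first step: from the cocycles to the coboundaries. -/
theorem Sys.step_one (h : Sys a D π) (j : ℕ) {ι : M →ₗ[R] G.carrier} (hι : GrLC.IsGrHom ℳ G.gr ι)
    (hinj : Function.Injective ι) (hr : LinearMap.range ι = cyc D π j) (E : GrLC.StarInjRes 𝒜 ℳ)
    (EB : GrLC.StarInjRes 𝒜 (subMod 𝒜 G.gr _ (h.isHomogeneous_bd a j)).gr) :
    Subsingleton (E.H a 0) ∧ Subsingleton (E.H a 1) ∧ ∃ δ : ∀ n, EB.H a n →ₗ[R] E.H a (n + 1),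
      ∀ n, GrLC.IsGrHom (EB.Hgr a n) (E.Hgr a (n + 1)) (δ n) ∧ Function.Bijective (δ n) := by
  let K := subMod 𝒜 G.gr (LinearMap.range (π j)) (isHomogeneous_range (h.π_deg j))
  have hK : Acyclic a K.gr := h.acyclic.retract a (i := (LinearMap.range (π j)).subtype)
    (g := (π j).rangeRestrict) (fun _ _ hx => hx) (fun d x hx => h.π_deg j d x hx) (by
      rintro ⟨_, x, rfl⟩
      exact Subtype.ext (h.idem j x))
  have hmem : ∀ m, ι m ∈ LinearMap.range (π j) := fun m => (hr.le ⟨m, rfl⟩).2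
  let i' : M →ₗ[R] K.carrier := ι.codRestrict _ hmem
  have hDmem : ∀ y : LinearMap.range (π j), D y.1 ∈ LinearMap.range (D ∘ₗ π j) := by
    rintro ⟨_, x, rfl⟩
    exact ⟨x, rfl⟩
  let p' : K.carrier →ₗ[R] (subMod 𝒜 G.gr _ (h.isHomogeneous_bd a j)).carrier :=
    (D ∘ₗ (LinearMap.range (π j)).subtype).codRestrict _ hDmem
  have hses : SES ℳ K.gr (subMod 𝒜 G.gr _ (h.isHomogeneous_bd a j)).gr i' p' :=
    { grHom_i := fun d x hx => hι d x hx
      grHom_π := fun d x hx => h.D_deg d _ hx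
      injective := fun u v huv => hinj (congrArg Subtype.val huv)
      surjective := by
        rintro ⟨_, x, rfl⟩
        exact ⟨⟨π j x, x, rfl⟩, rfl⟩
      exact := by
        ext y
        obtain ⟨y, hy⟩ := y
        constructor
        · intro hD
          have hD' : D y = 0 := congrArg Subtype.val (show p' ⟨y, hy⟩ = 0 from hD)
          obtain ⟨m, hm⟩ := hr.ge (show y ∈ cyc D π j from ⟨hD', hy⟩)
          exact ⟨m, Subtype.ext hm⟩
        · rintro ⟨m, hm⟩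
          refine LinearMap.mem_ker.2 (Subtype.ext ?_)
          change D y = 0
          rw [← show ι m = y from congrArg Subtype.val hm]
          exact (hr.le ⟨m, rfl⟩).1 }
  obtain ⟨h0, δ, hδ⟩ := step_mid a hses hK E EB
  haveI := h.subsingleton_bd a j EB
  exact ⟨h0, (hδ 0).2.2.subsingleton, δ, hδ⟩

/-- Dimension shifting. -/
theorem Sys.exists_shift (h : Sys a D π) : ∀ (m j : ℕ),
    (∀ l, j + 1 ≤ l → l ≤ j + m + 1 → ∀ x ∈ cyc D π l, ∃ N : ℕ, ∀ r ∈ a.toIdeal ^ N,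
      r • x ∈ LinearMap.range D) →
    ∀ {M : Type u} [AddCommGroup M] [Module R M] {ℳ : ℤ → AddSubgroup M} [DirectSum.Decomposition ℳ]
      [SetLike.GradedSMul 𝒜 ℳ] {ι : M →ₗ[R] G.carrier}, GrLC.IsGrHom ℳ G.gr ι → Function.Injective ι →
      LinearMap.range ι = cyc D π j → ∀ E : GrLC.StarInjRes 𝒜 ℳ,
      ∃ f : cyc D π (j + m + 1) →ₗ[R] E.H a (m + 2),
        (∀ d, ∀ x : cyc D π (j + m + 1), x.1 ∈ G.gr d → f x ∈ E.Hgr a (m + 2) d) ∧
        (∀ d, ∀ w ∈ E.Hgr a (m + 2) d, ∃ x : cyc D π (j + m + 1), x.1 ∈ G.gr d ∧ f x = w) ∧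
        ∀ x : cyc D π (j + m + 1), f x = 0 ↔ x.1 ∈ LinearMap.range D := by
  intro m j htors M _ _ ℳ _ _ ι hι hinj hr E
  let B := subMod 𝒜 G.gr _ (h.isHomogeneous_bd a j)
  let Z := subMod 𝒜 G.gr _ (h.isHomogeneous_cyc a (j + 1))
  obtain ⟨EB⟩ := Res.nonempty_starInjRes 𝒜 B.gr
  obtain ⟨EZ⟩ := Res.nonempty_starInjRes 𝒜 Z.gr
  obtain ⟨-, -, δ, hδ⟩ := h.step_one a j hι hinj hr E EB
  -- the second sequence
  let i₂ : B.carrier →ₗ[R] Z.carrier := Submodule.inclusion (h.bd_le a j)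
  have hi₂ : GrLC.IsGrHom B.gr Z.gr i₂ := fun _ _ hx => hx
  let W := qMod 𝒜 Z.gr (LinearMap.range i₂) (isHomogeneous_range hi₂)
  have hrange : ∀ x : Z.carrier, x ∈ LinearMap.range i₂ ↔
      (show G.carrier from Subtype.val (show cyc D π (j + 1) from x)) ∈ LinearMap.range D := by
    intro x
    constructor
    · rintro ⟨⟨_, y, rfl⟩, rfl⟩
      exact ⟨π j y, rfl⟩
    · obtain ⟨x, hx1, hx2⟩ := x
      rintro ⟨y, rfl⟩
      obtain ⟨z, hz⟩ := hx2
      refine ⟨⟨D (π j y), y, rfl⟩, Subtype.ext ?_⟩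
      change D (π j y) = D y
      rw [← h.comm, ← hz, h.idem]
  let p₂ : Z.carrier →ₗ[R] W.carrier := (LinearMap.range i₂).mkQ
  have hses : SES B.gr Z.gr W.gr i₂ p₂ :=
    { grHom_i := hi₂
      grHom_π := fun d x hx => mkQ_mem_qGr Z.gr _ hx
      injective := fun u v huv => Subtype.ext (congrArg Subtype.val huv :)
      surjective := Submodule.mkQ_surjective _
      exact := Submodule.ker_mkQ _ }
  have hW : GrLC.gam a.toIdeal W.carrier = ⊤ := by
    refine eq_top_iff.2 fun w _ => ?_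
    obtain ⟨x, rfl⟩ := (LinearMap.range i₂).mkQ_surjective w
    obtain ⟨N, hN⟩ := htors (j + 1) le_rfl (by omega) _ (show cyc D π (j + 1) from x).2
    exact ⟨N, fun r hr => (Submodule.Quotient.mk_eq_zero _).2 ((hrange (r • x)).2 (hN r hr))⟩
  let ιZ : Z.carrier →ₗ[R] G.carrier := (cyc D π (j + 1)).subtype
  have hιZ : GrLC.IsGrHom Z.gr G.gr ιZ := fun _ _ hx => hx
  have hιZi : Function.Injective ιZ := (cyc D π (j + 1)).injective_subtype
  have hιZr : LinearMap.range ιZ = cyc D π (j + 1) := Submodule.range_subtype _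
  obtain ⟨⟨φ, hφ⟩, hbase⟩ := step_right a hses hW EB EZ
  cases m with
  | zero =>
    obtain ⟨EB'⟩ := Res.nonempty_starInjRes 𝒜 (subMod 𝒜 G.gr _ (h.isHomogeneous_bd a (j + 1))).gr
    obtain ⟨hZ0, hZ1, -⟩ := h.step_one a (j + 1) hιZ hιZi hιZr EZ EB'
    obtain ⟨f, hf, hfb⟩ := hbase hZ0 hZ1
    let g : cyc D π (j + 0 + 1) →ₗ[R] E.H a 2 := δ 1 ∘ₗ f ∘ₗ (LinearMap.range i₂).mkQ
    refine ⟨g, fun d x hx => (hδ 1).1 d _ (hf d _ (mkQ_mem_qGr Z.gr _ hx)), fun d w hw => ?_, fun x => ?_⟩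
    · letI := Res.hgrDecomp EB a 1
      obtain ⟨v, hv, rfl⟩ := exists_preimage_Hgr a (hδ 1).1 (hδ 1).2.2 hw
      obtain ⟨u, ⟨x, hx, rfl⟩, rfl⟩ := exists_preimage_Hgr a hf hfb.2 hv
      exact ⟨x, hx, rfl⟩
    · change δ 1 (f ((LinearMap.range i₂).mkQ x)) = 0 ↔ _
      rw [map_eq_zero_iff _ (hδ 1).2.1, map_eq_zero_iff _ hfb.1]
      exact (Submodule.Quotient.mk_eq_zero (LinearMap.range i₂) (x := (show Z.carrier from x))).trans
        (hrange x)
  | succ m =>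
    have hidx : j + 1 + m + 1 = j + (m + 1) + 1 := by omega
    obtain ⟨f, hf1, hf2, hf3⟩ := Sys.exists_shift h m (j + 1)
      (fun l hl1 hl2 => htors l (by omega) (by omega)) hιZ hιZi hιZr EZ
    let eφ := LinearEquiv.ofBijective (φ m) (hφ m).2
    letI := Res.hgrDecomp EB a (m + 2)
    letI := Res.hgrDecomp EZ a (m + 2)
    have heφ : GrLC.IsGrHom (EZ.Hgr a (m + 2)) (EB.Hgr a (m + 2)) eφ.symm.toLinearMap :=
      isGrHom_symm (e := eφ) (hφ m).1
    let c : cyc D π (j + (m + 1) + 1) →ₗ[R] cyc D π (j + 1 + m + 1) :=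
      Submodule.inclusion (le_of_eq (by rw [hidx]))
    refine ⟨δ (m + 2) ∘ₗ eφ.symm.toLinearMap ∘ₗ f ∘ₗ c,
      fun d x hx => (hδ (m + 2)).1 d _ (heφ d _ (hf1 d (c x) hx)), fun d w hw => ?_, fun x => ?_⟩
    · obtain ⟨v, hv, rfl⟩ := exists_preimage_Hgr a (hδ (m + 2)).1 (hδ (m + 2)).2.2 hw
      obtain ⟨y, hy, hfy⟩ := hf2 d _ ((hφ m).1 d v hv)
      refine ⟨⟨y.1, hidx ▸ y.2⟩, hy, congrArg (δ (m + 2)) ?_⟩
      change eφ.symm (f y) = v
      rw [hfy]
      exact eφ.symm_apply_apply v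
    · change δ (m + 2) (eφ.symm (f (c x))) = 0 ↔ _
      rw [map_eq_zero_iff _ (hδ (m + 2)).2.1, LinearEquiv.map_eq_zero_iff]
      exact hf3 (c x)

end Shift

end Groth.Agent.Lib.Graded.Seg
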