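import Groth.Agent.Lib.Graded.Seg.CMCrit

/-!
# The top local cohomology of a Segre product
-/

universe u

set_option maxHeartbeats 1600000
set_option linter.unusedSectionVars false

open DirectSum
open scoped TensorProduct

namespace Groth.Agent.Lib.Graded.Seg

open Groth.Agent.Lib.Graded.Basic Groth.Agent.Lib.Graded.StarInj

variable {k : Type u} [Field k] {R : Type u} [CommRing R] [Algebra k R] {𝒜 : ℤ → Submodule k R} [GradedAlgebra 𝒜]
variable {S : Type u} [CommRing S] [Algebra k S] {ℬ : ℤ → Submodule k S} [GradedAlgebra ℬ]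
variable {T : Type u} [CommRing T] [Algebra k T] {𝒯 : ℤ → Submodule k T} [GradedAlgebra 𝒯]
variable {ψ : T →ₐ[k] R ⊗[k] S}
variable {H : Type u} [AddCommGroup H] [Module R H] [Module k H] [IsScalarTower k R H] {ℋ : ℤ → AddSubgroup H}
  [SetLike.GradedSMul 𝒜 ℋ]
variable {H' : Type u} [AddCommGroup H'] [Module S H'] [Module k H'] [IsScalarTower k S H']
  {ℋ' : ℤ → AddSubgroup H'} [SetLike.GradedSMul ℬ ℋ']
variable {W : Type u} [AddCommGroup W] [Module T W] [Module k W] [IsScalarTower k T W]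
  {𝒲 : ℤ → AddSubgroup W} [SetLike.GradedSMul 𝒯 𝒲] {φW : W →+ H ⊗[k] H'}

/-- The dimensions of the pieces of a Segre product. -/
theorem finrank_seg_piece (hW : IsSeg ψ ℋ ℋ' 𝒲 φW) (d : ℤ) [Module.Finite k (pieceK 𝒜 ℋ d)]
    [Module.Finite k (pieceK ℬ ℋ' d)] :
    Module.Finite k (pieceK 𝒯 𝒲 d) ∧ Module.finrank k (pieceK 𝒯 𝒲 d) =
      Module.finrank k (pieceK 𝒜 ℋ d) * Module.finrank k (pieceK ℬ ℋ' d) := by
  let ms := TensorProduct.map (pieceK 𝒜 ℋ d).subtype (pieceK ℬ ℋ' d).subtype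
  have hms : Function.Injective ms :=
    tmap_injective (pieceK 𝒜 ℋ d).injective_subtype (pieceK ℬ ℋ' d).injective_subtype
  have hrange : LinearMap.range ms = GrSeg.segrePiece k ℋ ℋ' d := by
    refine le_antisymm ?_ (Submodule.span_le.2 ?_)
    · rintro _ ⟨v, rfl⟩
      induction v with
      | zero => rw [map_zero]; exact zero_mem _
      | add p q hp hq => rw [map_add]; exact add_mem hp hq
      | tmul p q => exact Submodule.subset_span ⟨p.1, p.2, q.1, q.2, rfl⟩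
    · rintro _ ⟨p, hp, q, hq, rfl⟩
      exact ⟨(⟨p, hp⟩ : pieceK 𝒜 ℋ d) ⊗ₜ[k] (⟨q, hq⟩ : pieceK ℬ ℋ' d), rfl⟩
  let φd : pieceK 𝒯 𝒲 d →ₗ[k] GrSeg.segrePiece k ℋ ℋ' d :=
    { toFun := fun x => ⟨φW x.1, (hW.image_piece d).le ⟨x.1, x.2, rfl⟩⟩
      map_add' := fun x y => Subtype.ext (map_add φW x.1 y.1)
      map_smul' := fun c x => Subtype.ext (by
        show φW (c • x.1) = c • φW x.1
        rw [← algebraMap_smul T c x.1, hW.map_smul, act_algebraMap]) }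
  have hφd : Function.Bijective φd :=
    ⟨fun x y h => Subtype.ext (hW.injective (congrArg Subtype.val h)), fun z => by
      obtain ⟨x, hx, hxz⟩ := (hW.image_piece d).ge z.2
      exact ⟨⟨x, hx⟩, Subtype.ext hxz⟩⟩
  let u := ((LinearEquiv.ofInjective ms hms).trans (LinearEquiv.ofEq _ _ hrange)).trans
    (LinearEquiv.ofBijective φd hφd).symm
  exact ⟨Module.Finite.equiv u, u.finrank_eq.symm.trans Module.finrank_tensorProduct⟩

/-- An injective map of graded modules with pieces of equal finite dimension is bijective. -/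
theorem bijective_of_finrank {X : Type u} [AddCommGroup X] [Module T X] [Module k X] [IsScalarTower k T X]
    {𝒳 : ℤ → AddSubgroup X} [DirectSum.Decomposition 𝒳] [SetLike.GradedSMul 𝒯 𝒳] {Φ : W →ₗ[T] X}
    (hΦ : GrLC.IsGrHom 𝒲 𝒳 Φ) (hinj : Function.Injective Φ)
    (hfin : ∀ d, Module.Finite k (pieceK 𝒯 𝒳 d))
    (hdim : ∀ d, Module.finrank k (pieceK 𝒯 𝒳 d) = Module.finrank k (pieceK 𝒯 𝒲 d)) :
    Function.Bijective Φ ∧ ∀ d, ∀ x ∈ 𝒳 d, ∃ w ∈ 𝒲 d, Φ w = x := by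
  have key : ∀ d, ∀ x ∈ 𝒳 d, ∃ w ∈ 𝒲 d, Φ w = x := fun d x hx => by
    haveI := hfin d
    let f : pieceK 𝒯 𝒲 d →ₗ[k] pieceK 𝒯 𝒳 d := (Φ.restrictScalars k).restrict fun w hw => hΦ d w hw
    have hf : Function.Injective f := fun a b h => Subtype.ext (hinj (congrArg Subtype.val h))
    haveI := Module.Finite.of_injective f hf
    obtain ⟨w, hw⟩ := (LinearMap.injective_iff_surjective_of_finrank_eq_finrank (hdim d).symm).1 hf ⟨x, hx⟩
    exact ⟨w.1, w.2, congrArg Subtype.val hw⟩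
  refine ⟨⟨hinj, fun x => ?_⟩, key⟩
  induction x using induction_hom 𝒳 with
  | zero => exact ⟨0, map_zero Φ⟩
  | add a b ha hb =>
    obtain ⟨u, rfl⟩ := ha
    obtain ⟨v, rfl⟩ := hb
    exact ⟨u + v, map_add Φ u v⟩
  | hom g x hx => exact (key g x hx).imp fun w hw => hw.2

section Main

variable {M : Type u} [AddCommGroup M] [Module R M] [Module k M] [IsScalarTower k R M]
variable {ℳ : ℤ → AddSubgroup M} [DirectSum.Decomposition ℳ] [SetLike.GradedSMul 𝒜 ℳ]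
variable {N : Type u} [AddCommGroup N] [Module S N] [Module k N] [IsScalarTower k S N]
variable {𝒩 : ℤ → AddSubgroup N} [DirectSum.Decomposition 𝒩] [SetLike.GradedSMul ℬ 𝒩]
variable {P : Type u} [AddCommGroup P] [Module T P] {𝒬 : ℤ → AddSubgroup P} [DirectSum.Decomposition 𝒬]
  [SetLike.GradedSMul 𝒯 𝒬] {φ : P →+ M ⊗[k] N}

/-- The top local cohomology of a Segre product is the Segre product of the top local cohomologies. -/
theorem exists_top_iso [Algebra.FiniteType k R] [Algebra.FiniteType k S] [IsNoetherianRing R] [IsNoetherianRing S]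
    [IsNoetherianRing T] [Nontrivial R] [Nontrivial S] [Nontrivial T] [Module.Finite R M] [Module.Finite S N] [Module.Finite T P]
    (hposR : ∀ n : ℤ, n < 0 → 𝒜 n = ⊥) (h0R : 𝒜 0 = Submodule.span k {(1 : R)})
    (hposS : ∀ n : ℤ, n < 0 → ℬ n = ⊥) (h0S : ℬ 0 = Submodule.span k {(1 : S)})
    (hposT : ∀ n : ℤ, n < 0 → 𝒯 n = ⊥) (h0T : 𝒯 0 = Submodule.span k {(1 : T)})
    (hψ : ∀ n : ℤ, (𝒯 n).map ψ.toLinearMap = GrSeg.segrePiece k 𝒜 ℬ n)
    {mR : HomogeneousIdeal 𝒜} (hmR : mR.toIdeal = Ideal.span (⋃ n ∈ Set.Ioi (0 : ℤ), (𝒜 n : Set R)))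
    {mS : HomogeneousIdeal ℬ} (hmS : mS.toIdeal = Ideal.span (⋃ n ∈ Set.Ioi (0 : ℤ), (ℬ n : Set S)))
    {mT : HomogeneousIdeal 𝒯} (hmT : mT.toIdeal = Ideal.span (⋃ n ∈ Set.Ioi (0 : ℤ), (𝒯 n : Set T)))
    (EM : GrLC.StarInjRes 𝒜 ℳ) (EN : GrLC.StarInjRes ℬ 𝒩) (hP : IsSeg ψ ℳ 𝒩 𝒬 φ) (EP : GrLC.StarInjRes 𝒯 𝒬)
    {r s : ℕ} (hdM : Module.supportDim R M = r) (hdN : Module.supportDim S N = s) (h2r : 2 ≤ r) (h2s : 2 ≤ s)
    [Module k (EM.H mR r)] [IsScalarTower k R (EM.H mR r)] [Module k (EN.H mS s)] [IsScalarTower k S (EN.H mS s)]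
    {W : Type u} [AddCommGroup W] [Module T W] {𝒲 : ℤ → AddSubgroup W} [DirectSum.Decomposition 𝒲]
    [SetLike.GradedSMul 𝒯 𝒲] {φW : W →+ EM.H mR r ⊗[k] EN.H mS s}
    (hW : IsSeg ψ (EM.Hgr mR r) (EN.Hgr mS s) 𝒲 φW) :
    ∃ Φ : W ≃ₗ[T] EP.H mT (r + s - 1), GrLC.IsGrHom 𝒲 (EP.Hgr mT (r + s - 1)) Φ.toLinearMap := by
  obtain ⟨i, rfl⟩ : ∃ i, r = i + 2 := ⟨r - 2, by omega⟩
  obtain ⟨m, hm, hs⟩ : ∃ m, m + 2 = i + 2 + s - 1 ∧ s = m - 1 - i + 2 := ⟨i + s - 1, by omega, by omega⟩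
  have him : i < m := by omega
  subst hs
  rw [← hm]
  obtain ⟨-, hform, hcomp⟩ := kunneth_full hposR h0R hposS h0S hposT h0T hψ hmR hmS hmT EM EN hP EP
  obtain ⟨Φ, hΦ, hinj⟩ := hcomp m i him hW
  letI : Module k W := Module.compHom _ (algebraMap k T)
  haveI : IsScalarTower k T W := IsScalarTower.of_algebraMap_smul fun _ _ => rfl
  letI : Module k (EP.H mT (m + 2)) := Module.compHom _ (algebraMap k T)
  haveI : IsScalarTower k T (EP.H mT (m + 2)) := IsScalarTower.of_algebraMap_smul fun _ _ => rfl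
  letI := Res.hgrDecomp EP mT (m + 2)
  haveI := Res.hgrGSMul EP mT (m + 2)
  haveI := Res.hgrGSMul EM mR (i + 2)
  haveI := Res.hgrGSMul EN mS (m - 1 - i + 2)
  have hR : ∀ n : ℤ, n < 0 → ∀ c ∈ 𝒜 n, c = 0 := fun n hn c hc => by rwa [hposR n hn, Submodule.mem_bot] at hc
  have hS : ∀ n : ℤ, n < 0 → ∀ c ∈ ℬ n, c = 0 := fun n hn c hc => by rwa [hposS n hn, Submodule.mem_bot] at hc
  have h2 : ∀ d, Module.Finite k (pieceK 𝒯 𝒲 d) ∧ Module.finrank k (pieceK 𝒯 𝒲 d) =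
      Module.finrank (GrLC.deg0 𝒜) (EM.Hcomp mR (i + 2) d) *
        Module.finrank (GrLC.deg0 ℬ) (EN.Hcomp mS (m - 1 - i + 2) d) := fun d => by
    obtain ⟨a1, a2⟩ := finrank_pieceK (𝒜 := 𝒜) (ℳ := EM.Hgr mR (i + 2)) h0R (EM.Hcomp mR (i + 2) d) fun x => Iff.rfl
    obtain ⟨b1, b2⟩ := finrank_pieceK (𝒜 := ℬ) (ℳ := EN.Hgr mS (m - 1 - i + 2)) h0S
      (EN.Hcomp mS (m - 1 - i + 2) d) fun x => Iff.rfl
    haveI := a2 (FinitenessApp.finite_Hcomp hR (hmR.trans span_pos_eq) (GrLC.GMod.of 𝒜 M ℳ)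
      (inferInstanceAs (Module.Finite R M)) EM (i + 2) d)
    haveI := b2 (FinitenessApp.finite_Hcomp hS (hmS.trans span_pos_eq) (GrLC.GMod.of ℬ N 𝒩)
      (inferInstanceAs (Module.Finite S N)) EN (m - 1 - i + 2) d)
    obtain ⟨hf, hd⟩ := finrank_seg_piece (𝒜 := 𝒜) (ℬ := ℬ) (𝒯 := 𝒯) hW d
    exact ⟨hf, by rw [hd, a1, b1]⟩
  have hT : ∀ n : ℤ, n < 0 → ∀ c ∈ 𝒯 n, c = 0 := fun n hn c hc => by rwa [hposT n hn, Submodule.mem_bot] at hc
  have h3 : ∀ d, Module.Finite k (pieceK 𝒯 (EP.Hgr mT (m + 2)) d) ∧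
      Module.finrank k (pieceK 𝒯 (EP.Hgr mT (m + 2)) d) =
      Module.finrank (GrLC.deg0 𝒜) (EM.Hcomp mR (i + 2) d) *
        Module.finrank (GrLC.deg0 ℬ) (EN.Hcomp mS (m - 1 - i + 2) d) := fun d => by
    obtain ⟨c1, c2⟩ := finrank_pieceK (𝒜 := 𝒯) (ℳ := EP.Hgr mT (m + 2)) h0T (EP.Hcomp mT (m + 2) d) fun x => Iff.rfl
    refine ⟨c2 (FinitenessApp.finite_Hcomp hT (hmT.trans span_pos_eq) (GrLC.GMod.of 𝒯 P 𝒬)
      (inferInstanceAs (Module.Finite T P)) EP (m + 2) d), ?_⟩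
    obtain ⟨D₀, E₀, -, -, hf⟩ := hform m d
    rw [c1, hf, Hcomp_eq_bot_of_lt (k := k) EN hdN (show m - 1 - i + 2 < m + 2 by omega) d,
      Hcomp_eq_bot_of_lt (k := k) EM hdM (show i + 2 < m + 2 by omega) d, finrank_bot, finrank_bot,
      mul_zero, zero_mul, zero_add, zero_add]
    refine Finset.sum_eq_single i (fun j hj hne => ?_) (fun h => absurd (Finset.mem_range.2 him) h)
    rw [Finset.mem_range] at hj
    rcases Nat.lt_or_ge (i + 2) (j + 2) with h | h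
    · rw [Hcomp_eq_bot_of_lt (k := k) EM hdM h d, finrank_bot, zero_mul]
    · rw [Hcomp_eq_bot_of_lt (k := k) EN hdN (show m - 1 - i + 2 < m - 1 - j + 2 by omega) d, finrank_bot,
        mul_zero]
  obtain ⟨hb, -⟩ := bijective_of_finrank (𝒯 := 𝒯) hΦ hinj (fun d => (h3 d).1)
    (fun d => (h3 d).2.trans (h2 d).2.symm)
  exact ⟨LinearEquiv.ofBijective Φ hb, hΦ⟩

end Main

end Groth.Agent.Lib.Graded.Seg
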