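import Groth.Agent.Lib.Graded.StarInj
import Groth.Agent.Lib.Graded.Torsion
import Groth.Agent.Lib.Graded.Chain
import Groth.Agent.Lib.Graded.Ass
import Groth.Agent.Lib.Graded.Bound
import Groth.Agent.Lib.Graded.Seg.Homotopy

/-!
# The torsion free quotient of a *injective resolution
-/

universe u

set_option maxHeartbeats 800000
set_option linter.unusedSectionVars false

open DirectSum

namespace Groth.Agent.Lib.Graded.Seg

open Groth.Agent.Lib.Graded.Basic Groth.Agent.Lib.Graded.StarInj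

variable {R : Type u} [CommRing R] {σ : Type u} [SetLike σ R] [AddSubgroupClass σ R]
variable (𝒜 : ℤ → σ) [GradedRing 𝒜]

section Inv

variable {M : Type u} [AddCommGroup M] [Module R M] (ℳ : ℤ → AddSubgroup M)

/-- An idempotent on whose range a homogeneous element of positive degree is invertible. -/
def Inv (e : M →ₗ[R] M) : Prop :=
  GrLC.IsGrHom ℳ ℳ e ∧ ∃ k : ℤ, 0 < k ∧ ∃ r ∈ 𝒜 k, ∃ ρ : M →ₗ[R] M,
    GrLC.IsGrHomDeg ℳ ℳ ρ (-k) ∧ r • ρ = e ∧ ρ ∘ₗ e = ρ ∧ e ∘ₗ ρ = ρ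

/-- The sums of such idempotents. -/
def invSums : AddSubmonoid (M →ₗ[R] M) := AddSubmonoid.closure {e | Inv 𝒜 ℳ e}

variable {𝒜 ℳ}

theorem grHom_of_mem_invSums {P : M →ₗ[R] M} (hP : P ∈ invSums 𝒜 ℳ) : GrLC.IsGrHom ℳ ℳ P := by
  induction hP using AddSubmonoid.closure_induction with
  | mem e he => exact he.1
  | zero => exact fun _ _ _ => zero_mem _
  | add a b _ _ ha hb => exact fun g m hm => add_mem (ha g m hm) (hb g m hm)

theorem kills_torsion {a : Ideal R} (ha : ∀ k : ℤ, 0 < k → ∀ r ∈ 𝒜 k, r ∈ a) {P : M →ₗ[R] M}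
    (hP : P ∈ invSums 𝒜 ℳ) {x : M} (hx : x ∈ GrLC.gam a M) : P x = 0 := by
  induction hP using AddSubmonoid.closure_induction with
  | mem e he =>
    obtain ⟨-, k, hk, r, hr, ρ, -, h1, h2, h3⟩ := he
    obtain ⟨n, hn⟩ := hx
    have hee : e ∘ₗ e = e := by
      conv_lhs => arg 1; rw [← h1]
      rw [LinearMap.smul_comp, h2, h1]
    have key : ∀ (n : ℕ) (z : M), r ^ n • z = 0 → e z = 0 := by
      intro n
      induction n with
      | zero =>
        intro z hz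
        rw [pow_zero, one_smul] at hz
        rw [hz, map_zero]
      | succ n ih =>
        intro z hz
        have h4 : e (r • z) = 0 := ih _ (by rw [smul_smul, ← pow_succ, hz])
        have h5 : e (e z) = ρ (e (r • z)) := by
          rw [← LinearMap.comp_apply ρ e, h2, map_smul]
          exact (LinearMap.congr_fun h1 (e z)).symm.trans (congrArg (r • ·) (LinearMap.congr_fun h2 z))
        rwa [h4, map_zero, ← LinearMap.comp_apply, hee] at h5
    exact key n x (hn _ (Ideal.pow_mem_pow (ha k hk r hr) n))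
  | zero => rfl
  | add p q _ _ hp hq => rw [LinearMap.add_apply, hp, hq, add_zero]

/-- Transport along maps which split around the idempotent. -/
theorem Inv.conj {N : Type u} [AddCommGroup N] [Module R N] {𝒩 : ℤ → AddSubgroup N} {e : M →ₗ[R] M}
    (he : Inv 𝒜 ℳ e) {i : N →ₗ[R] M} {g : M →ₗ[R] N} (hi : GrLC.IsGrHom 𝒩 ℳ i)
    (hg : GrLC.IsGrHom ℳ 𝒩 g) (hig : ∀ x, e (i (g x)) = e x) : Inv 𝒜 𝒩 (g ∘ₗ e ∘ₗ i) := by
  obtain ⟨h0, k, hk, r, hr, ρ, hρ, h1, h2, h3⟩ := he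
  have hρig : ∀ x, ρ (i (g x)) = ρ x := fun x => by
    rw [← LinearMap.congr_fun h2 (i (g x)), LinearMap.comp_apply, hig, ← LinearMap.comp_apply, h2]
  refine ⟨fun d x hx => hg d _ (h0 d _ (hi d x hx)), k, hk, r, hr, g ∘ₗ ρ ∘ₗ i,
    fun d x hx => hg _ _ (hρ d _ (hi d x hx)), LinearMap.ext fun x => ?_, LinearMap.ext fun x => ?_,
    LinearMap.ext fun x => ?_⟩
  · change r • g (ρ (i x)) = g (e (i x))
    rw [← map_smul, ← h1]
    rfl
  · change g (ρ (i (g (e (i x))))) = g (ρ (i x))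
    rw [hρig, ← LinearMap.comp_apply ρ e, h2]
  · change g (e (i (g (ρ (i x))))) = g (ρ (i x))
    rw [hig, ← LinearMap.comp_apply e ρ, h3]

theorem invSums_conj {N : Type u} [AddCommGroup N] [Module R N] {𝒩 : ℤ → AddSubgroup N} {P : M →ₗ[R] M}
    (hP : P ∈ invSums 𝒜 ℳ) {i : N →ₗ[R] M} {g : M →ₗ[R] N} (hi : GrLC.IsGrHom 𝒩 ℳ i)
    (hg : GrLC.IsGrHom ℳ 𝒩 g) (hig : ∀ e, Inv 𝒜 ℳ e → ∀ x, e (i (g x)) = e x) :
    g ∘ₗ P ∘ₗ i ∈ invSums 𝒜 𝒩 := by
  induction hP using AddSubmonoid.closure_induction with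
  | mem e he => exact AddSubmonoid.subset_closure (Inv.conj he hi hg (hig e he))
  | zero => simp
  | add a b _ _ ha hb => rw [LinearMap.add_comp, LinearMap.comp_add]; exact add_mem ha hb

end Inv

variable {𝒜}

/-- An idempotent with a bijective element on its range. -/
theorem inv_of_bijective {M : Type u} [AddCommGroup M] [Module R M] {ℳ : ℤ → AddSubgroup M}
    [DirectSum.Decomposition ℳ] [SetLike.GradedSMul 𝒜 ℳ] {e : M →ₗ[R] M} (he : GrLC.IsGrHom ℳ ℳ e)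
    (hee : ∀ x, e (e x) = e x) {k : ℤ} (hk : 0 < k) {r : R} (hr : r ∈ 𝒜 k)
    (hinj : ∀ x, r • e x = 0 → e x = 0) (hsur : ∀ z, ∃ x, r • e x = e z) : Inv 𝒜 ℳ e := by
  choose f hf using hsur
  have huniq : ∀ x y, r • e x = r • e y → e x = e y := fun x y h => by
    refine sub_eq_zero.1 ?_
    rw [← map_sub]
    exact hinj _ (by rw [map_sub, smul_sub, h, sub_self])
  let ρ : M →ₗ[R] M :=
    { toFun := fun z => e (f z)
      map_add' := fun a b => by
        rw [← map_add]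
        exact huniq _ _ (by rw [hf, map_add e, map_add e, smul_add, hf, hf])
      map_smul' := fun c a => by
        rw [RingHom.id_apply, ← map_smul]
        exact huniq _ _ (by rw [hf, map_smul e, map_smul e, smul_comm, hf]) }
  refine ⟨he, k, hk, r, hr, ρ, fun d x hx => ?_, LinearMap.ext hf, LinearMap.ext fun x => ?_,
    LinearMap.ext fun x => hee _⟩
  · have h1 : proj ℳ (d + -k) (e (f x)) = e (proj ℳ (d + -k) (f x)) := (map_proj he _ _).symm
    have h2 : r • proj ℳ (d + -k) (e (f x)) = r • e (f x) := by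
      rw [hf, show d + -k = d - k from (sub_eq_add_neg d k).symm,
        ← proj_smul_of_mem 𝒜 ℳ hr d, hf, proj_of_mem ℳ (he d x hx)]
    rw [show ρ x = e (f x) from rfl, ← huniq _ _ (h1 ▸ h2)]
    exact h1 ▸ proj_mem _ _ _
  · exact huniq _ _ (by rw [hf, hf, hee])

variable [IsNoetherianRing R]

theorem isStarInj_gam (X : GrLC.GMod.{u} 𝒜) (hX : GrLC.IsStarInj 𝒜 X.gr) (J : HomogeneousIdeal 𝒜)
    (P : Submodule R X.carrier) (hP : P.IsHomogeneous X.gr) (hPdef : P = GrLC.gam J.toIdeal X.carrier) :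
    GrLC.IsStarInj 𝒜 (subMod 𝒜 X.gr P hP).gr := by
  letI := subDecomp X.gr P hP
  haveI := subGSMul 𝒜 X.gr P
  obtain ⟨Q, hQ, hle, hhull, -⟩ := exists_hull_in 𝒜 (ℳ := subGr X.gr P) hX (e := P.subtype)
    (fun _ _ hx => hx) P.injective_subtype
  letI := subDecomp X.gr Q hQ
  haveI := subGSMul 𝒜 X.gr Q
  have htors : GrLC.gam J.toIdeal Q = ⊤ := Torsion.gam_eq_top_of_isStarEss J hhull.toIsStarEss
    (eq_top_iff.2 fun x _ => by
      obtain ⟨n, hn⟩ := (hPdef.le x.2 : (x : X.carrier) ∈ GrLC.gam J.toIdeal X.carrier)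
      exact ⟨n, fun r hr => Subtype.ext (hn r hr)⟩)
  have hQP : Q = P := by
    refine le_antisymm (fun x hx => ?_) ((Submodule.range_subtype P).ge.trans hle)
    obtain ⟨n, hn⟩ := (htors.ge Submodule.mem_top : (⟨x, hx⟩ : Q) ∈ GrLC.gam J.toIdeal Q)
    rw [hPdef]
    exact ⟨n, fun r hr => congrArg Subtype.val (hn r hr)⟩
  subst hQP
  exact hhull.starInj

theorem exists_smul_sub_torsion (X : GrLC.GMod.{u} 𝒜) (hX : GrLC.IsStarInj 𝒜 X.gr) {k : ℤ} {r : R}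
    (hr : r ∈ 𝒜 k) {j : ℤ} {y : X.carrier} (hy : y ∈ X.gr j) :
    ∃ x : X.carrier, ∃ n : ℕ, r ^ n • (r • x - y) = 0 := by
  obtain ⟨n, hn⟩ := monotone_stabilizes_iff_noetherian.2 (inferInstance : IsNoetherian R R)
    ⟨fun n => LinearMap.ker (LinearMap.mulLeft R (r ^ n)), fun a b hab z hz => by
      obtain ⟨c, rfl⟩ := Nat.exists_eq_add_of_le' hab
      rw [LinearMap.mem_ker, LinearMap.mulLeft_apply] at hz ⊢
      rw [pow_add, mul_assoc, hz, mul_zero]⟩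
  have hpow : ∀ e : ℕ, r ^ e ∈ 𝒜 ((e : ℤ) * k) := fun e => by
    simpa [nsmul_eq_mul] using SetLike.pow_mem_graded (A := 𝒜) e hr
  letI := shiftDecomp (𝒜 : ℤ → σ) (-(((n + 1 : ℕ) : ℤ) * k))
  haveI := shiftGSMul 𝒜 (𝒜 : ℤ → σ) (-(((n + 1 : ℕ) : ℤ) * k))
  letI := shiftDecomp X.gr (j - k)
  haveI := shiftGSMul 𝒜 X.gr (j - k)
  have hX' : GrLC.IsStarInj 𝒜 (shiftGr X.gr (j - k)) := isStarInj_shiftMod hX (j - k)
  obtain ⟨f, -, hf⟩ := extend_of_ker_le hX'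
    (𝒩 := shiftGr 𝒜 (-(((n + 1 : ℕ) : ℤ) * k))) (𝒬 := 𝒜) (f := r ^ (n + 1) • (LinearMap.id : R →ₗ[R] R))
    (fun d a ha => smul_mem' 𝒜 𝒜 (hpow (n + 1)) ((mem_shiftGr _).1 ha) (by ring))
    (g := LinearMap.toSpanSingleton R X.carrier (r ^ n • y))
    (fun d a ha => by
      change a • r ^ n • y ∈ X.gr (d + (j - k))
      exact smul_mem' 𝒜 X.gr ((mem_shiftGr _).1 ha) (smul_mem_add 𝒜 X.gr (hpow n) hy)
        (by push_cast; ring))
    (fun a ha => by
      have h1 : a ∈ LinearMap.ker (LinearMap.mulLeft R (r ^ (n + 1))) := ha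
      rw [show LinearMap.ker (LinearMap.mulLeft R (r ^ (n + 1))) = LinearMap.ker (LinearMap.mulLeft R (r ^ n))
        from (hn (n + 1) n.le_succ).symm, LinearMap.mem_ker, LinearMap.mulLeft_apply] at h1
      rw [LinearMap.mem_ker, LinearMap.toSpanSingleton_apply, ← mul_smul, mul_comm, h1, zero_smul])
  refine ⟨f 1, n, ?_⟩
  have h1 := LinearMap.congr_fun hf 1
  simp only [LinearMap.comp_apply, LinearMap.smul_apply, LinearMap.id_apply, smul_eq_mul, mul_one,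
    LinearMap.toSpanSingleton_apply, one_smul] at h1
  rw [smul_sub, ← mul_smul, ← pow_succ, ← h1, sub_eq_zero]
  exact ((map_smul f (r ^ (n + 1)) 1).symm.trans (by rw [smul_eq_mul, mul_one]))

/-- Splitting off the torsion for one element. -/
theorem exists_inv_one (X : GrLC.GMod.{u} 𝒜) (hX : GrLC.IsStarInj 𝒜 X.gr) {k : ℤ} (hk : 0 < k) {r : R}
    (hr : r ∈ 𝒜 k) :
    ∃ (P : Submodule R X.carrier) (hP : P.IsHomogeneous X.gr) (g : X.carrier →ₗ[R] P),
      GrLC.IsStarInj 𝒜 (subMod 𝒜 X.gr P hP).gr ∧ (∀ x, x ∈ P → ∃ n : ℕ, r ^ n • x = 0) ∧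
      GrLC.IsGrHom X.gr (subGr X.gr P) g ∧ (∀ x : P, g x = x) ∧
      Inv 𝒜 X.gr (LinearMap.id - P.subtype ∘ₗ g) := by
  let J : HomogeneousIdeal 𝒜 :=
    ⟨Ideal.span {r}, Ideal.homogeneous_span 𝒜 _ (by simpa using ⟨k, hr⟩)⟩
  obtain ⟨P, hPdef⟩ : ∃ P : Submodule R X.carrier, P = GrLC.gam J.toIdeal X.carrier := ⟨_, rfl⟩
  have hP : P.IsHomogeneous X.gr := hPdef ▸ Res.isHomogeneous_gam 𝒜 X.gr J
  have hinj := isStarInj_gam X hX J P hP hPdef
  have hnil : ∀ x, x ∈ P → ∃ n : ℕ, r ^ n • x = 0 := fun x hx => by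
    obtain ⟨n, hn⟩ := (hPdef.le hx : x ∈ GrLC.gam J.toIdeal X.carrier)
    have hr' : r ∈ J.toIdeal := (Ideal.subset_span (Set.mem_singleton r) : r ∈ Ideal.span {r})
    exact ⟨n, hn _ (Ideal.pow_mem_pow hr' n)⟩
  have hmem : ∀ (x : X.carrier) (n : ℕ), r ^ n • x = 0 → x ∈ P := fun x n hx => by
    have h := Bound.gam_span_singleton (R := R) (A := X.carrier) hx
    rw [hPdef]
    exact h
  obtain ⟨g, hg, hgi⟩ : ∃ g : X.carrier →ₗ[R] P, GrLC.IsGrHom X.gr (subGr X.gr P) g ∧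
      g ∘ₗ P.subtype = LinearMap.id := hinj (subMod 𝒜 X.gr P hP) X P.subtype (fun _ _ hx => hx) P.injective_subtype
    LinearMap.id (fun _ _ hx => hx)
  have hgi' : ∀ x : P, g x = x := fun x => LinearMap.congr_fun hgi x
  refine ⟨P, hP, g, hinj, hnil, hg, hgi', ?_⟩
  obtain ⟨e, he⟩ : ∃ e, e = LinearMap.id - P.subtype ∘ₗ g := ⟨_, rfl⟩
  rw [← he]
  have hedeg : GrLC.IsGrHom X.gr X.gr e := he ▸ fun d x hx => sub_mem hx (hg d x hx)
  have hge : ∀ x, g (e x) = 0 := fun x => by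
    rw [he]
    simp only [LinearMap.sub_apply, LinearMap.id_apply, LinearMap.comp_apply, Submodule.coe_subtype,
      map_sub, hgi', sub_self]
  have hek : ∀ x, g x = 0 → e x = x := fun x hx => by
    rw [he, LinearMap.sub_apply, LinearMap.id_apply, LinearMap.comp_apply, hx, map_zero, sub_zero]
  have hsur : ∀ z, ∃ x, r • e x = e z := by
    intro z
    induction z using induction_hom X.gr with
    | zero => exact ⟨0, by simp⟩
    | add a b ha hb =>
      obtain ⟨u, hu⟩ := ha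
      obtain ⟨v, hv⟩ := hb
      exact ⟨u + v, by rw [map_add, smul_add, hu, hv, map_add]⟩
    | hom j z hz =>
      obtain ⟨x, n, hx⟩ := exists_smul_sub_torsion X hX hr hz
      refine ⟨x, ?_⟩
      rw [← map_smul, ← sub_eq_zero, ← map_sub, he, LinearMap.sub_apply, sub_eq_zero]
      exact (congrArg Subtype.val (hgi' ⟨_, hmem _ n hx⟩)).symm
  refine inv_of_bijective hedeg (fun x => hek _ (hge x)) hk hr (fun x hx => ?_) hsur
  have h1 : e x ∈ P := hmem _ 1 (by rw [pow_one]; exact hx)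
  have h2 := hgi' ⟨_, h1⟩
  rw [show g (e x) = 0 from hge x] at h2
  exact (congrArg Subtype.val h2).symm

/-- The projection onto a torsion free complement. -/
theorem exists_proj (a : HomogeneousIdeal 𝒜)
    (ha : a.toIdeal = Ideal.span (⋃ n ∈ Set.Ioi (0 : ℤ), (𝒜 n : Set R)))
    (X : GrLC.GMod.{u} 𝒜) (hX : GrLC.IsStarInj 𝒜 X.gr) :
    ∃ P ∈ invSums 𝒜 X.gr, ∀ x, x - P x ∈ GrLC.gam a.toIdeal X.carrier := by
  classical
  obtain ⟨T, hTsub, hTspan⟩ : ∃ T : Finset R, (↑T : Set R) ⊆ (⋃ n ∈ Set.Ioi (0 : ℤ), (𝒜 n : Set R)) ∧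
      Submodule.span R (↑T : Set R) = Ideal.span (⋃ n ∈ Set.Ioi (0 : ℤ), (𝒜 n : Set R)) := by
    obtain ⟨T, hT1, hT2⟩ := Submodule.fg_span_iff_fg_span_finset_subset _ |>.1
      (IsNoetherian.noetherian (Submodule.span R (⋃ n ∈ Set.Ioi (0 : ℤ), (𝒜 n : Set R))))
    exact ⟨T, hT1, hT2.symm⟩
  suffices key : ∀ s : Finset R, s ⊆ T → ∀ X : GrLC.GMod.{u} 𝒜, GrLC.IsStarInj 𝒜 X.gr →
      ∃ P ∈ invSums 𝒜 X.gr, ∀ x, ∀ r ∈ s, ∃ n : ℕ, r ^ n • (x - P x) = 0 by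
    obtain ⟨P, hP, hnil⟩ := key T subset_rfl X hX
    refine ⟨P, hP, fun x => ?_⟩
    have hle : a.toIdeal ≤ (Submodule.span R {x - P x}).annihilator.radical := by
      rw [ha, ← hTspan]
      refine Ideal.span_le.2 fun r hr => ?_
      obtain ⟨n, hn⟩ := hnil x r hr
      exact ⟨n, (Submodule.mem_annihilator_span_singleton _ _).2 hn⟩
    obtain ⟨N, hN⟩ := Ideal.exists_pow_le_of_le_radical_of_fg hle (IsNoetherian.noetherian _)
    exact ⟨N, fun r hr => (Submodule.mem_annihilator_span_singleton _ _).1 (hN hr)⟩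
  intro s
  induction s using Finset.induction with
  | empty => exact fun _ X _ => ⟨0, zero_mem _, fun _ r hr => absurd hr (Finset.notMem_empty r)⟩
  | insert r s hrs ih =>
    intro hsT X hX
    obtain ⟨k, hk, hr⟩ := Set.mem_iUnion₂.1 (hTsub (hsT (Finset.mem_insert_self r s)))
    obtain ⟨P, hP, g, hinj, hnil, hg, hgi, hInv⟩ := exists_inv_one X hX (Set.mem_Ioi.1 hk) hr
    obtain ⟨P₁, hP₁, hnil₁⟩ := ih ((Finset.subset_insert r s).trans hsT) _ hinj
    obtain ⟨Q, hQ⟩ : ∃ Q : P →ₗ[R] P, Q = P₁ := ⟨P₁, rfl⟩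
    refine ⟨((LinearMap.id - P.subtype ∘ₗ g) + P.subtype ∘ₗ Q ∘ₗ g : X.carrier →ₗ[R] X.carrier),
      add_mem (AddSubmonoid.subset_closure hInv) (hQ ▸ invSums_conj hP₁ hg (fun _ _ hx => hx)
        fun e _ x => congrArg e (hgi x)), fun x t ht => ?_⟩
    have hx : x - ((LinearMap.id - P.subtype ∘ₗ g) + P.subtype ∘ₗ Q ∘ₗ g : X.carrier →ₗ[R] X.carrier) x =
        ((g x - Q (g x) : P) : X.carrier) := by
      simp only [LinearMap.add_apply, LinearMap.sub_apply, LinearMap.id_apply, LinearMap.comp_apply,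
        Submodule.coe_subtype, Submodule.coe_sub]
      abel
    rw [hx]
    rcases Finset.mem_insert.1 ht with rfl | ht
    · exact hnil _ (g x - Q (g x)).2
    · obtain ⟨n, hn⟩ := hnil₁ (g x) t ht
      exact ⟨n, hQ ▸ congrArg Subtype.val hn⟩

/-- The torsion free quotient of a resolution, as a complex with its cohomology. -/
theorem exists_complex {M : Type u} [AddCommGroup M] [Module R M] {τ : Type u} [SetLike τ M]
    [AddSubgroupClass τ M] {ℳ : ℤ → τ} [DirectSum.Decomposition ℳ] [SetLike.GradedSMul 𝒜 ℳ]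
    (a : HomogeneousIdeal 𝒜) (ha : a.toIdeal = Ideal.span (⋃ n ∈ Set.Ioi (0 : ℤ), (𝒜 n : Set R)))
    (E : GrLC.StarInjRes 𝒜 ℳ) :
    ∃ (Q : ℕ → GrLC.GMod.{u} 𝒜) (δ : ∀ i, (Q i).carrier →ₗ[R] (Q (i + 1)).carrier)
      (ι₀ : M →ₗ[R] (Q 0).carrier) (c₀ : LinearMap.ker (δ 0) →ₗ[R] E.H a 1)
      (c : ∀ i, LinearMap.ker (δ (i + 1)) →ₗ[R] E.H a (i + 2)),
      (∀ i, GrLC.IsGrHom (Q i).gr (Q (i + 1)).gr (δ i)) ∧ (∀ i x, δ (i + 1) (δ i x) = 0) ∧
      (∀ i, (LinearMap.id : (Q i).carrier →ₗ[R] (Q i).carrier) ∈ invSums 𝒜 (Q i).gr) ∧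
      GrLC.IsGrHom ℳ (Q 0).gr ι₀ ∧ (∀ m, ι₀ m = 0 ↔ m ∈ GrLC.gam a.toIdeal M) ∧
      LinearMap.range ι₀ ≤ LinearMap.ker (δ 0) ∧
      (∀ d (x : LinearMap.ker (δ 0)), (x : (Q 0).carrier) ∈ (Q 0).gr d → c₀ x ∈ E.Hgr a 1 d) ∧
      (∀ x : LinearMap.ker (δ 0), c₀ x = 0 ↔ (x : (Q 0).carrier) ∈ LinearMap.range ι₀) ∧
      (∀ i d (x : LinearMap.ker (δ (i + 1))), (x : (Q (i + 1)).carrier) ∈ (Q (i + 1)).gr d →
        c i x ∈ E.Hgr a (i + 2) d) ∧
      (∀ i d w, w ∈ E.Hgr a (i + 2) d → ∃ x : LinearMap.ker (δ (i + 1)),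
        (x : (Q (i + 1)).carrier) ∈ (Q (i + 1)).gr d ∧ c i x = w) ∧
      ∀ i (x : LinearMap.ker (δ (i + 1))), c i x = 0 ↔ (x : (Q (i + 1)).carrier) ∈ LinearMap.range (δ i) := by
  choose P hPmem hPsub using fun i => exists_proj a ha (E.X i) (E.starInj i)
  have hapos : ∀ k : ℤ, 0 < k → ∀ r ∈ 𝒜 k, r ∈ a.toIdeal := fun k hk r hr =>
    ha ▸ Ideal.subset_span (Set.mem_biUnion (Set.mem_Ioi.2 hk) hr)
  have hPdeg : ∀ i, GrLC.IsGrHom (E.X i).gr (E.X i).gr (P i) := fun i => grHom_of_mem_invSums (hPmem i)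
  have hkill : ∀ i (x : (E.X i).carrier), x ∈ GrLC.gam a.toIdeal (E.X i).carrier → P i x = 0 :=
    fun i x hx => kills_torsion hapos (hPmem i) hx
  have hPP : ∀ i x, P i (P i x) = P i x := fun i x => by
    rw [← sub_eq_zero, ← map_sub, ← neg_sub, map_neg, hkill i _ (hPsub i x), neg_zero]
  have htors : ∀ i x, P i x = 0 → x ∈ GrLC.gam a.toIdeal (E.X i).carrier := fun i x hx => by
    simpa [hx] using hPsub i x
  have hPd : ∀ i x, P (i + 1) (E.d i (P i x)) = P (i + 1) (E.d i x) := fun i x => by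
    refine sub_eq_zero.1 ?_
    rw [← map_sub, ← map_sub, ← neg_sub x, map_neg, map_neg,
      hkill _ _ (Chain.map_mem_gam _ _ (hPsub i x)), neg_zero]
  let Qs : ∀ i, Submodule R (E.X i).carrier := fun i => LinearMap.range (P i)
  let Q : ℕ → GrLC.GMod.{u} 𝒜 := fun i => subMod 𝒜 (E.X i).gr (Qs i) (isHomogeneous_range (hPdeg i))
  have hQ : ∀ i (x : Qs i), P i x.1 = x.1 := by
    rintro i ⟨_, x, rfl⟩
    exact hPP i x
  let inc : ∀ i, (Q i).carrier →ₗ[R] (E.X i).carrier := fun i => (Qs i).subtype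
  let pr : ∀ i, (E.X i).carrier →ₗ[R] (Q i).carrier := fun i => (P i).rangeRestrict
  have hPinc : ∀ i q, P i (inc i q) = inc i q := fun i q => hQ i q
  have hincinj : ∀ i, Function.Injective (inc i) := fun i => (Qs i).injective_subtype
  have hincpr : ∀ i x, inc i (pr i x) = P i x := fun i x => rfl
  let δ : ∀ i, (Q i).carrier →ₗ[R] (Q (i + 1)).carrier := fun i => pr (i + 1) ∘ₗ E.d i ∘ₗ inc i
  let ι₀ : M →ₗ[R] (Q 0).carrier := pr 0 ∘ₗ E.ε
  have hδ : ∀ i q, inc (i + 1) (δ i q) = P (i + 1) (E.d i (inc i q)) := fun i q => rfl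
  have hex : ∀ i x, E.d (i + 1) (E.d i x) = 0 := Chain.d_d E
  have hsubP : ∀ i (x : (E.X i).carrier), x - P i x ∈ GrLC.gam a.toIdeal (E.X i).carrier := hPsub
  have hc : ∀ i (x : LinearMap.ker (δ (i + 1))),
      E.d (i + 1) (inc (i + 1) x.1) ∈ E.cocyc a (i + 2) := fun i x =>
    ⟨htors (i + 2) _ (by
      have h := hδ (i + 1) x.1
      rw [LinearMap.mem_ker.1 x.2, map_zero] at h
      exact h.symm), hex _ _⟩
  let c : ∀ i, LinearMap.ker (δ (i + 1)) →ₗ[R] E.H a (i + 2) := fun i =>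
    E.toH a (i + 2) ∘ₗ LinearMap.codRestrict (E.cocyc a (i + 2))
      (E.d (i + 1) ∘ₗ inc (i + 1) ∘ₗ (LinearMap.ker (δ (i + 1))).subtype) (hc i)
  have hc₀ : ∀ x : LinearMap.ker (δ 0), E.d 0 (inc 0 x.1) ∈ E.cocyc a 1 := fun x =>
    ⟨htors 1 _ (by
      have h := hδ 0 x.1
      rw [LinearMap.mem_ker.1 x.2, map_zero] at h
      exact h.symm), hex _ _⟩
  let c₀ : LinearMap.ker (δ 0) →ₗ[R] E.H a 1 :=
    E.toH a 1 ∘ₗ LinearMap.codRestrict (E.cocyc a 1)
      (E.d 0 ∘ₗ inc 0 ∘ₗ (LinearMap.ker (δ 0)).subtype) hc₀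
  refine ⟨Q, δ, ι₀, c₀, c, ?_, ?_, ?_, ?_, ?_, ?_, ?_, ?_, ?_, ?_, ?_⟩
  · exact fun i d x hx => hPdeg _ d _ (E.d_grHom i d _ hx)
  · intro i x
    refine Subtype.ext ?_
    change P (i + 2) (E.d (i + 1) (P (i + 1) (E.d i _))) = 0
    rw [hPd, hex, map_zero]
  · intro i
    have h := invSums_conj (hPmem i) (i := (Qs i).subtype) (g := (P i).rangeRestrict)
      (𝒩 := (Q i).gr) (fun _ _ hx => hx) (fun d x hx => hPdeg i d x hx) fun e he x => by
        change e (P i x) = e x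
        rw [← sub_eq_zero, ← map_sub, ← neg_sub x, map_neg,
          kills_torsion hapos (AddSubmonoid.subset_closure he) (hsubP i x), neg_zero]
    have he : pr i ∘ₗ P i ∘ₗ inc i = LinearMap.id := LinearMap.ext fun x => hincinj i (by
      rw [LinearMap.comp_apply, LinearMap.comp_apply, hincpr, hPinc, hPinc, LinearMap.id_apply])
    exact Eq.mp (congrArg (fun f => f ∈ invSums 𝒜 (Q i).gr) he) h
  · exact fun d x hx => hPdeg 0 d _ (E.ε_grHom d x hx)
  · intro m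
    constructor
    · intro hm
      obtain ⟨N, hN⟩ := htors 0 (E.ε m) (congrArg Subtype.val hm)
      exact ⟨N, fun r hr => E.ε_injective (by rw [map_smul, hN r hr, map_zero])⟩
    · intro hm
      exact hincinj 0 ((hincpr 0 _).trans ((hkill 0 _ (Chain.map_mem_gam _ _ hm)).trans (map_zero _).symm))
  · rintro _ ⟨m, rfl⟩
    refine LinearMap.mem_ker.2 (hincinj 1 ?_)
    rw [map_zero, hδ, LinearMap.comp_apply, hincpr, hPd, Chain.d_ε, map_zero]
  · exact fun d x hx => ⟨⟨_, hc₀ x⟩, E.d_grHom 0 d _ hx, rfl⟩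
  · intro x
    change E.toH a 1 _ = 0 ↔ _
    rw [Chain.toH_eq_zero_iff]
    constructor
    · rintro ⟨y, hy, hyd⟩
      obtain ⟨m, hm⟩ : inc 0 x.1 - y ∈ LinearMap.range E.ε := by
        rw [← E.exact_zero, LinearMap.mem_ker, map_sub, hyd]
        exact sub_self _
      exact ⟨m, hincinj 0 (by
        rw [LinearMap.comp_apply, hincpr, hm, map_sub, hkill 0 y hy, sub_zero, hPinc])⟩
    · rintro ⟨m, hm⟩
      refine ⟨P 0 (E.ε m) - E.ε m, ?_, ?_⟩
      · rw [← neg_sub, SetLike.mem_coe]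
        exact neg_mem (hsubP _ _)
      · rw [map_sub, Chain.d_ε, sub_zero, ← hincpr, show pr 0 (E.ε m) = x.1 from hm]
        rfl
  · exact fun i d x hx => ⟨⟨_, hc i x⟩, E.d_grHom (i + 1) d _ hx, rfl⟩
  · rintro i d w ⟨⟨z, hzg, hzd⟩, hz, rfl⟩
    obtain ⟨x, hx, hxz⟩ : ∃ x ∈ (E.X (i + 1)).gr d, E.d (i + 1) x = z :=
      exists_hom_preimage (E.d_grHom (i + 1)) hz (by rw [← E.exact_succ]; exact hzd)
    refine ⟨⟨pr (i + 1) x, LinearMap.mem_ker.2 (hincinj (i + 2) ?_)⟩, hPdeg _ d x hx, ?_⟩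
    · rw [map_zero, hδ, hincpr, hPd, hxz]
      exact hkill _ _ hzg
    · refine (Chain.toH_eq_iff (E := E) a _ _).2 ⟨P (i + 1) x - x, ?_, ?_⟩
      · rw [← neg_sub, SetLike.mem_coe]
        exact neg_mem (hsubP _ x)
      · subst hxz
        exact map_sub (E.d (i + 1)) _ _
  · intro i x
    change E.toH a (i + 2) _ = 0 ↔ _
    rw [Chain.toH_eq_zero_iff]
    constructor
    · rintro ⟨y, hy, hyd⟩
      obtain ⟨u, hu⟩ : inc (i + 1) x.1 - y ∈ LinearMap.range (E.d i) := by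
        rw [← E.exact_succ, LinearMap.mem_ker, map_sub, hyd]
        exact sub_self _
      refine ⟨pr i u, hincinj (i + 1) ?_⟩
      rw [hδ, hincpr, hPd, hu, map_sub, hkill _ y hy, sub_zero, hPinc]
    · rintro ⟨u, hu⟩
      refine ⟨P (i + 1) (E.d i (inc i u)) - E.d i (inc i u), ?_, ?_⟩
      · rw [← neg_sub, SetLike.mem_coe]
        exact neg_mem (hsubP _ _)
      · rw [map_sub, hex, sub_zero, ← hδ, hu]
        rfl

end Groth.Agent.Lib.Graded.Seg
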